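import Cfsg.Agent.StdO8.Code
import Cfsg.Agent.H245.NotSuz
import Cfsg.Agent.H292.Oct
import Cfsg.Agent.H340.Deg
import Cfsg.Agent.S0296

/-!
# Facts on `Ω₈⁺(2)` (helper329)

`T S` : `S ≅ Ω₈⁺(2)`.
* `T.card`, `T.card_aut` : `|S| = 174182400`, `|Aut(S)| = 6 |S|`;
* `T.HC` : `S` has an extraspecial configuration with four pairs (a subgroup `2^{1+8}`);
* `T.eight` : `S` has an element of order eight.
-/

set_option autoImplicit false

namespace Cfsg.Agent.H329.O8

open Subgroup Cfsg Cfsg.Agent.StdO8.Model Cfsg.Agent.StdO8.Code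

/-- `S ≅ Ω₈⁺(2)` -/
def T (S : Type*) [Group S] : Prop := Nonempty (S ≃* Om)

theorem T.of_equiv {S : Type*} [Group S] {F : Type*} [Field F] [Fintype F] (hF : Fintype.card F = 2)
    (e : S ≃* POmega F (quadFormPlus 4 F)) : T S := by
  obtain ⟨e'⟩ := exists_equiv hF
  exact ⟨e.trans e'⟩

theorem T.congr {S S' : Type*} [Group S] [Group S'] (e : S ≃* S') (h : T S) : T S' := by
  obtain ⟨f⟩ := h
  exact ⟨e.symm.trans f⟩

theorem T.equiv {S : Type*} [Group S] (h : T S) : Nonempty (S ≃* POmega (ZMod 2) (quadFormPlus 4 (ZMod 2))) := by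
  obtain ⟨f⟩ := h
  obtain ⟨e'⟩ := exists_equiv (F := ZMod 2) (ZMod.card 2)
  exact ⟨f.trans e'.symm⟩

theorem T.equiv' {S : Type*} [Group S] (h : T S) {F : Type*} [Field F] [Fintype F] (hF : Fintype.card F = 2) :
    Nonempty (S ≃* POmega F (quadFormPlus 4 F)) := by
  obtain ⟨f⟩ := h
  obtain ⟨e'⟩ := exists_equiv hF
  exact ⟨f.trans e'.symm⟩

theorem T.card {S : Type*} [Group S] (h : T S) : Nat.card S = 174182400 := by
  obtain ⟨f⟩ := h
  rw [Nat.card_congr f.toEquiv, Cfsg.Agent.H245.O8Refl.card_Om]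

theorem T.finite {S : Type*} [Group S] (h : T S) : Finite S :=
  Nat.finite_of_card_ne_zero (by rw [h.card]; norm_num)

theorem T.card_aut {S : Type*} [Group S] (h : T S) : Nat.card (MulAut S) = 1045094400 :=
  Cfsg.Agent.H245.NotSuz.card_aut (ZMod.card 2) h.equiv

theorem T.simple {S : Type*} [Group S] (h : T S) : IsSimpleGroup S := by
  obtain ⟨e⟩ := h.equiv
  have h1 : IsSimpleGroup (POmega (ZMod 2) (quadFormPlus 4 (ZMod 2))) := S0296.result 4 (by norm_num)
  exact e.isSimpleGroup

/-! ### the extraspecial configuration -/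

/-- the first halves -/
def wa : Fin 4 → List (ℕ × ℕ) := ![[(1, 4)], [(1, 64)], [(1, 8)], [(1, 128)]]
/-- the second halves -/
def wb : Fin 4 → List (ℕ × ℕ) := ![[(2, 64)], [(2, 4)], [(2, 128)], [(2, 8)]]
/-- the centre -/
def wz : List (ℕ × ℕ) := [(1, 2)]

theorem word_ne {l : List (ℕ × ℕ)} (hl : l.all ok = true) {v : ℕ} (h1 : ev l v < 256) (h2 : v < 256) (h : ev l v ≠ v) :
    word l ≠ 1 := by
  intro he
  have h3 := word_dec hl v
  rw [he] at h3
  exact h (dec_inj h1 h2 h3.symm)

theorem hc_om : H340.Deg.HC Om 4 := by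
  refine ⟨word wz, fun i => word (wa i), fun i => word (wb i), ?_, ?_, ?_, ?_, ?_, ?_, ?_, ?_⟩
  · exact word_ne (v := 32) (by decide +kernel) (by decide +kernel) (by decide) (by decide +kernel)
  · rw [← word_append]
    exact word_eq (l' := []) (by decide +kernel)
  · intro i
    rw [← word_append]
    exact word_eq (l' := []) (by revert i; decide +kernel)
  · intro i
    rw [← word_append, ← word_append]
    exact word_eq (by revert i; decide +kernel)
  · intro i
    rw [← word_append, ← word_append]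
    exact word_eq (by revert i; decide +kernel)
  · intro i j
    rw [← word_append, ← word_append]
    exact word_eq (by revert i j; decide +kernel)
  · intro i
    rw [← word_append, ← word_append, ← word_append]
    exact word_eq (by revert i; decide +kernel)
  · intro i j hij
    rw [← word_append, ← word_append]
    exact word_eq (by revert i j; decide +kernel)

theorem T.HC {S : Type*} [Group S] (h : T S) : H340.Deg.HC S 4 := by
  obtain ⟨f⟩ := h
  exact hc_om.map f.symm.toMonoidHom f.symm.injective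

/-! ### an element of order eight -/

/-- the word -/
def w8 : List (ℕ × ℕ) := [(8, 32), (4, 16), (4, 1), (64, 2)]

theorem eight_om : H292.Oct.Eight Om := by
  have h2 : word (w8 ++ w8) = word w8 * word w8 := word_append _ _
  have h4 : word ((w8 ++ w8) ++ (w8 ++ w8)) = word w8 ^ 4 := by
    rw [word_append, h2]
    simp only [pow_succ, pow_zero, one_mul, mul_assoc]
  have h8 : word (((w8 ++ w8) ++ (w8 ++ w8)) ++ ((w8 ++ w8) ++ (w8 ++ w8))) = word w8 ^ 8 := by
    rw [word_append, h4, ← pow_add]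
  refine ⟨word w8, ?_, ?_⟩
  · rw [← h8]
    exact word_eq (l' := []) (by decide +kernel)
  · rw [← h4]
    intro h
    have h5 : ∀ v, dec (ev ((w8 ++ w8) ++ (w8 ++ w8)) v) = dec v := by
      intro v
      have h3 := word_dec (l := (w8 ++ w8) ++ (w8 ++ w8)) (by decide +kernel) v
      rw [h] at h3
      exact h3.symm
    have h6 : ∃ v : Fin 256, ev ((w8 ++ w8) ++ (w8 ++ w8)) v.1 < 256 ∧ ev ((w8 ++ w8) ++ (w8 ++ w8)) v.1 ≠ v.1 := by
      decide +kernel
    obtain ⟨v, h7, h8⟩ := h6
    exact h8 (dec_inj h7 v.2 (h5 v.1))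

theorem T.eight {S : Type*} [Group S] (h : T S) : H292.Oct.Eight S := by
  obtain ⟨f⟩ := h
  exact eight_om.map f.symm.toMonoidHom f.symm.injective

end Cfsg.Agent.H329.O8
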