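import Cfsg.Agent.H329.FourTab
import Cfsg.Agent.H283.FourSpor

/-!
# S3092: the rows `Suz` and `He` (helper329)
-/

set_option autoImplicit false

namespace Cfsg.Agent.H329.FourRows

open Cfsg Subgroup Cfsg.Agent.CTwoTab Cfsg.Agent.H283.FourSpor

universe u

/-- **`Suz`** -/
theorem suz {X A : Type u} [Group X] [Finite X] [IsSimpleGroup X] [Group A] (F : In1 X A)
    (h : Cfsg.Spor.IsoSuz X) :
    ∃ (K : Type) (_ : Field K) (_ : Fintype K), Fintype.card K = 4 ∧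
      Nonempty (A ≃* Matrix.ProjectiveSpecialLinearGroup (Fin 3) K) := by
  obtain ⟨K, i1, i2, h4, ⟨E⟩⟩ := FourTab.suz h F.ht (F.all F.t F.ht F.tL).2
  exact ⟨K, i1, i2, h4, ⟨F.e.symm.trans E⟩⟩

/-- **`He`** -/
theorem he {X A : Type u} [Group X] [Finite X] [IsSimpleGroup X] [Group A] (F : In1 X A)
    (h : Cfsg.Spor.IsoHe X) :
    ∃ (K : Type) (_ : Field K) (_ : Fintype K), Fintype.card K = 4 ∧ center A ≠ ⊥ ∧
      Nonempty (A ⧸ center A ≃* Matrix.ProjectiveSpecialLinearGroup (Fin 3) K) := by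
  obtain ⟨K, i1, i2, h4, h5, ⟨E⟩⟩ := FourTab.he h F.ht (F.all F.t F.ht F.tL).2
  refine ⟨K, i1, i2, h4, ?_, ⟨(quoEquiv F.e.symm).trans E⟩⟩
  intro h0
  apply h5
  rw [← map_center_equiv F.e.symm, h0, Subgroup.map_bot]

end Cfsg.Agent.H329.FourRows
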