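import Cfsg.Agent.SmallSimple.PSLTwoPart
import Cfsg.Agent.LieRecognition.PSLTwoLocal

/-!
# The conclusion of the Brauer-Suzuki-Wall theorem holds in `PSL₂(q)`, `q` odd (helper329, for S3282)
-/

set_option autoImplicit false

namespace Cfsg.Agent.H329.PSLTwo

open Matrix
open Cfsg.Agent.ClassicalGeometry.SLTwoFour (w ext2 det2 mul00 mul01 mul10 mul11 w00 w01 w10 w11 w_mul_self
  neg_ij two_ne_zero_of_odd one00 one01 one10 one11 w_inv)
open Cfsg.Agent.ClassicalGeometry.PSL2Klein (mk mk_eq_mk mk_eq_one mk_neg one_ne_neg_one)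

/-- The conclusion of S3282. -/
def Concl (G : Type*) [Group G] : Prop :=
    ∃ Q D : Subgroup G, 2 * Nat.card G = Nat.card ↥Q * (Nat.card ↥Q + 1) * (Nat.card ↥Q - 1) ∧
      (∀ x ∈ Q, x ≠ 1 → Subgroup.centralizer ({x} : Set G) = Q) ∧
      IsMulCommutative ↥D ∧ 2 * Nat.card ↥D + 1 = Nat.card ↥Q ∧ Q ⊓ D = ⊥ ∧
      Subgroup.normalizer (Q : Set G) = Q ⊔ D ∧
      ∀ X : Subgroup G, X ≤ D → X ≠ ⊥ →
        Subgroup.normalizer (X : Set G) = Subgroup.normalizer (D : Set G) ∧
        ∃ u : G, orderOf u = 2 ∧ u ∉ D ∧ (∀ d ∈ D, u * d * u⁻¹ = d⁻¹) ∧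
          Subgroup.normalizer (D : Set G) = D ⊔ Subgroup.zpowers u

theorem Concl.transport {G H : Type*} [Group G] [Group H] (e : G ≃* H) (h : Concl G) : Concl H := by
  obtain ⟨Q, D, h1, h2, h3, h4, h5, h6, h7⟩ := h
  have hinj : Function.Injective e.toMonoidHom := e.injective
  have cQ : Nat.card ↥(Q.map e.toMonoidHom) = Nat.card ↥Q := Subgroup.card_map_of_injective hinj
  have cD : Nat.card ↥(D.map e.toMonoidHom) = Nat.card ↥D := Subgroup.card_map_of_injective hinj
  have cG : Nat.card H = Nat.card G := (Nat.card_congr e.toEquiv).symm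
  refine ⟨Q.map e.toMonoidHom, D.map e.toMonoidHom, ?_, ?_, ?_, ?_, ?_, ?_, ?_⟩
  · rw [cQ, cG]; exact h1
  · rintro x ⟨y, hy, rfl⟩ hx
    have hy1 : y ≠ 1 := by
      rintro rfl
      exact hx (map_one _)
    rw [← h2 y hy hy1]
    ext z
    rw [Subgroup.mem_map]
    constructor
    · intro hz
      refine ⟨e.symm z, ?_, e.apply_symm_apply z⟩
      rw [Subgroup.mem_centralizer_singleton_iff] at hz ⊢
      apply e.injective
      rw [map_mul, map_mul, e.apply_symm_apply]
      exact hz
    · rintro ⟨z, hz, rfl⟩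
      rw [Subgroup.mem_centralizer_singleton_iff] at hz ⊢
      rw [← map_mul, ← map_mul, hz]
  · constructor; constructor
    rintro ⟨_, a, ha, rfl⟩ ⟨_, b, hb, rfl⟩
    apply Subtype.ext
    have hab : a * b = b * a := congrArg Subtype.val (h3.is_comm.comm (⟨a, ha⟩ : D) ⟨b, hb⟩)
    show e.toMonoidHom a * e.toMonoidHom b = e.toMonoidHom b * e.toMonoidHom a
    rw [← map_mul, ← map_mul, hab]
  · rw [cQ, cD]; exact h4
  · rw [← Subgroup.map_inf _ _ _ hinj, h5, Subgroup.map_bot]
  · rw [← Subgroup.map_equiv_normalizer_eq, h6, Subgroup.map_sup]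
  · intro X hX hX1
    have hXe : X = (X.comap e.toMonoidHom).map e.toMonoidHom :=
      (Subgroup.map_comap_eq_self_of_surjective e.surjective X).symm
    have hX' : X.comap e.toMonoidHom ≤ D := by
      intro x hx
      obtain ⟨y, hy, hyx⟩ := hX hx
      rw [← e.injective hyx]
      exact hy
    have hX1' : X.comap e.toMonoidHom ≠ ⊥ := by
      intro h
      rw [h, Subgroup.map_bot] at hXe
      exact hX1 hXe
    obtain ⟨h8, u, hu1, hu2, hu3, hu4⟩ := h7 _ hX' hX1'
    refine ⟨?_, e u, ?_, ?_, ?_, ?_⟩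
    · rw [hXe, ← Subgroup.map_equiv_normalizer_eq, h8, Subgroup.map_equiv_normalizer_eq]
    · rw [MulEquiv.orderOf_eq]; exact hu1
    · rintro ⟨y, hy, hyu⟩
      rw [← e.injective hyu] at hu2
      exact hu2 hy
    · rintro _ ⟨d, hd, rfl⟩
      show e u * e d * (e u)⁻¹ = (e d)⁻¹
      rw [← map_inv, ← map_mul, ← map_mul, hu3 d hd, map_inv]
    · rw [← Subgroup.map_equiv_normalizer_eq, hu4, Subgroup.map_sup, MonoidHom.map_zpowers]
      rfl

variable {F : Type*} [Field F]

local notation "SL2" => Matrix.SpecialLinearGroup (Fin 2)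
local notation "PSL2" => Matrix.ProjectiveSpecialLinearGroup (Fin 2)

/-- unitriangular -/
def um (x : F) : SL2 F := ⟨!![1, x; 0, 1], by simp [Matrix.det_fin_two]⟩

/-- diagonal -/
def dm (a : Fˣ) : SL2 F := ⟨!![(a : F), 0; 0, ((a⁻¹ : Fˣ) : F)], by simp [Matrix.det_fin_two]⟩

theorem um00 (x : F) : (um x : SL2 F) 0 0 = 1 := rfl
theorem um01 (x : F) : (um x : SL2 F) 0 1 = x := rfl
theorem um10 (x : F) : (um x : SL2 F) 1 0 = 0 := rfl
theorem um11 (x : F) : (um x : SL2 F) 1 1 = 1 := rfl
theorem dm00 (a : Fˣ) : (dm a : SL2 F) 0 0 = a := rfl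
theorem dm01 (a : Fˣ) : (dm a : SL2 F) 0 1 = 0 := rfl
theorem dm10 (a : Fˣ) : (dm a : SL2 F) 1 0 = 0 := rfl
theorem dm11 (a : Fˣ) : (dm a : SL2 F) 1 1 = ((a⁻¹ : Fˣ) : F) := rfl

/-- the unipotent homomorphism -/
def uHom (F : Type*) [Field F] : Multiplicative F →* PSL2 F where
  toFun x := mk (um (Multiplicative.toAdd x))
  map_one' := by
    rw [mk_eq_one]; left
    apply ext2 <;> simp [um00, um01, um10, um11]
  map_mul' x y := by
    rw [mk, mk, mk, ← QuotientGroup.mk_mul]
    congr 1
    apply ext2 <;> simp only [mul00, mul01, mul10, mul11, um00, um01, um10, um11, toAdd_mul] <;> ring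

/-- the diagonal homomorphism -/
def dHom (F : Type*) [Field F] : Fˣ →* PSL2 F where
  toFun x := mk (dm x)
  map_one' := by
    rw [mk_eq_one]; left
    apply ext2 <;> simp [dm00, dm01, dm10, dm11]
  map_mul' x y := by
    rw [mk, mk, mk, ← QuotientGroup.mk_mul]
    congr 1
    apply ext2 <;> simp only [mul00, mul01, mul10, mul11, dm00, dm01, dm10, dm11, mul_inv, Units.val_mul] <;> ring

/-- `Q` -/
def uQ (F : Type*) [Field F] : Subgroup (PSL2 F) := (uHom F).range
/-- `D` -/
def dD (F : Type*) [Field F] : Subgroup (PSL2 F) := (dHom F).range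

theorem mk_surj (x : PSL2 F) : ∃ A : SL2 F, mk A = x := QuotientGroup.mk_surjective x

theorem mem_uQ {x : PSL2 F} : x ∈ uQ F ↔ ∃ b : F, mk (um b) = x :=
  ⟨fun ⟨b, hb⟩ => ⟨Multiplicative.toAdd b, hb⟩, fun ⟨b, hb⟩ => ⟨Multiplicative.ofAdd b, hb⟩⟩

theorem mem_dD {x : PSL2 F} : x ∈ dD F ↔ ∃ a : Fˣ, mk (dm a) = x := Iff.rfl

/-- entries of equal classes -/
theorem entries_of_mk_eq {A B : SL2 F} (h : mk A = mk B) :
    (∀ i j, A i j = B i j) ∨ (∀ i j, A i j = - B i j) := by
  rcases mk_eq_mk.1 h with h | h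
  · left; intro i j; rw [h]
  · right; intro i j; rw [h, neg_ij]

theorem uHom_inj (h2 : (2 : F) ≠ 0) : Function.Injective (uHom F) := by
  intro x y h
  have h' : mk (um (Multiplicative.toAdd x)) = mk (um (Multiplicative.toAdd y)) := h
  rcases entries_of_mk_eq h' with h3 | h3
  · exact Multiplicative.toAdd.injective (h3 0 1)
  · have h4 := h3 0 0
    rw [um00, um00] at h4
    exact absurd (by linear_combination h4) h2

theorem card_uQ [Fintype F] (h2 : (2 : F) ≠ 0) : Nat.card (uQ F) = Fintype.card F := by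
  rw [uQ, ← Nat.card_congr (MonoidHom.ofInjective (uHom_inj h2)).toEquiv, ← Nat.card_eq_fintype_card]
  exact Nat.card_congr Multiplicative.toAdd

theorem mem_ker_dHom {a : Fˣ} : a ∈ (dHom F).ker ↔ a = 1 ∨ a = -1 := by
  rw [MonoidHom.mem_ker]
  constructor
  · intro h
    have h' : mk (dm a) = mk 1 := h
    rcases entries_of_mk_eq h' with h3 | h3
    · left
      have := h3 0 0
      rw [dm00, one00] at this
      exact Units.ext this
    · right
      have := h3 0 0
      rw [dm00, one00] at this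
      exact Units.ext this
  · rintro (rfl | rfl)
    · exact map_one _
    · show mk (dm (-1)) = 1
      rw [mk_eq_one]; right
      apply ext2 <;> rw [neg_ij] <;> simp [dm00, dm01, dm10, dm11]

theorem card_dD [Fintype F] (h2 : (2 : F) ≠ 0) : 2 * Nat.card (dD F) + 1 = Fintype.card F := by
  classical
  have h := (dHom F).ker.card_mul_index
  rw [Subgroup.index_ker] at h
  have hk : Nat.card (dHom F).ker = 2 := by
    have : ((dHom F).ker : Set Fˣ) = {1, -1} := by
      ext a
      simp only [SetLike.mem_coe, mem_ker_dHom, Set.mem_insert_iff, Set.mem_singleton_iff]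
    rw [← SetLike.coe_sort_coe, this, Nat.card_coe_set_eq, Set.ncard_pair]
    intro h
    have h1 := congrArg Units.val h
    rw [Units.val_neg, Units.val_one] at h1
    exact h2 (by linear_combination h1)
  rw [hk, Nat.card_eq_fintype_card (α := Fˣ), Fintype.card_units] at h
  have hq : 1 < Fintype.card F := Fintype.one_lt_card
  show 2 * Nat.card (dHom F).range + 1 = _
  omega

theorem centralizer_um (h2 : (2 : F) ≠ 0) {b : F} (hb : b ≠ 0) :
    Subgroup.centralizer ({mk (um b)} : Set (PSL2 F)) = uQ F := by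
  ext x
  obtain ⟨A, rfl⟩ := mk_surj x
  rw [Subgroup.mem_centralizer_singleton_iff, mem_uQ]
  constructor
  · intro h
    have h' : mk (A * um b) = mk (um b * A) := h
    have hd := det2 A
    rcases entries_of_mk_eq h' with h3 | h3
    · have e00 := h3 0 0
      have e01 := h3 0 1
      simp only [mul00, mul01, um00, um01, um10, um11] at e00 e01
      have hc : A 1 0 = 0 := by
        have : b * A 1 0 = 0 := by linear_combination (-1) * e00
        exact (mul_eq_zero.1 this).resolve_left hb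
      have had : A 0 0 = A 1 1 := by
        have : b * (A 0 0 - A 1 1) = 0 := by linear_combination e01
        have := (mul_eq_zero.1 this).resolve_left hb
        linear_combination this
      have hs : (A 0 0 - 1) * (A 0 0 + 1) = 0 := by
        rw [hc, ← had] at hd
        linear_combination hd
      rcases mul_eq_zero.1 hs with h5 | h5
      · refine ⟨A 0 1, ?_⟩
        rw [mk_eq_mk]; left
        apply ext2
        · rw [um00]; linear_combination -h5
        · rw [um01]
        · rw [um10, hc]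
        · rw [um11, ← had]; linear_combination -h5
      · refine ⟨- A 0 1, ?_⟩
        rw [mk_eq_mk]; right
        apply ext2
        · rw [um00, neg_ij]; linear_combination h5
        · rw [um01, neg_ij]
        · rw [um10, neg_ij, hc, neg_zero]
        · rw [um11, neg_ij, ← had]; linear_combination h5
    · exfalso
      have e00 := h3 0 0
      have e01 := h3 0 1
      have e10 := h3 1 0
      have e11 := h3 1 1
      simp only [mul00, mul01, mul10, mul11, um00, um01, um10, um11] at e00 e01 e10 e11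
      have hc : A 1 0 = 0 := by
        have : 2 * A 1 0 = 0 := by linear_combination e10
        exact (mul_eq_zero.1 this).resolve_left h2
      have ha : A 0 0 = 0 := by
        have : 2 * A 0 0 = 0 := by rw [hc] at e00; linear_combination e00
        exact (mul_eq_zero.1 this).resolve_left h2
      rw [ha, hc] at hd
      simp at hd
  · rintro ⟨c, hc⟩
    rw [← hc]
    show uHom F (Multiplicative.ofAdd c) * uHom F (Multiplicative.ofAdd b) = uHom F (Multiplicative.ofAdd b) * uHom F (Multiplicative.ofAdd c)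
    rw [← (uHom F).map_mul, ← (uHom F).map_mul, mul_comm]

theorem isMulCommutative_dD : IsMulCommutative (dD F) := by
  constructor; constructor
  rintro ⟨_, a, rfl⟩ ⟨_, b, rfl⟩
  apply Subtype.ext
  show dHom F a * dHom F b = dHom F b * dHom F a
  rw [← map_mul, ← map_mul, mul_comm]

theorem inf_eq_bot : uQ F ⊓ dD F = ⊥ := by
  rw [eq_bot_iff]
  rintro x ⟨h1, h2⟩
  obtain ⟨b, rfl⟩ := mem_uQ.1 h1
  obtain ⟨a, ha⟩ := mem_dD.1 h2
  have hb : b = 0 := by
    rcases entries_of_mk_eq ha with h | h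
    · have := h 0 1
      rw [dm01, um01] at this
      exact this.symm
    · have := h 0 1
      rw [dm01, um01] at this
      linear_combination this
  rw [Subgroup.mem_bot, hb, mk_eq_one]
  left
  apply ext2 <;> simp [um00, um01, um10, um11]

/-- Bruhat: upper triangular -/
theorem mem_sup {A : SL2 F} (h : A 1 0 = 0) : mk A ∈ uQ F ⊔ dD F := by
  have hd := det2 A
  rw [h, mul_zero, sub_zero] at hd
  have ha : A 0 0 ≠ 0 := by
    intro h; rw [h, zero_mul] at hd; exact zero_ne_one hd
  have h1 : mk A = mk (um (A 0 1 * A 0 0)) * mk (dm (Units.mk0 _ ha)) := by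
    show mk A = mk (um (A 0 1 * A 0 0) * dm (Units.mk0 _ ha))
    congr 1
    have hinv : (((Units.mk0 _ ha)⁻¹ : Fˣ) : F) = A 1 1 := by
      rw [Units.val_inv_eq_inv_val, Units.val_mk0]
      field_simp
      linear_combination -hd
    apply ext2
    · rw [mul00, um00, dm00, um01, dm10, Units.val_mk0]; ring
    · rw [mul01, um00, um01, dm01, dm11, hinv]
      linear_combination (- A 0 1) * hd
    · rw [mul10, um10, um11, dm00, dm10, h]; ring
    · rw [mul11, um10, um11, dm01, dm11, hinv]; ring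
  rw [h1]
  exact Subgroup.mul_mem_sup (mem_uQ.2 ⟨_, rfl⟩) (mem_dD.2 ⟨_, rfl⟩)

theorem normalizer_uQ (h2 : (2 : F) ≠ 0) : Subgroup.normalizer (uQ F : Set (PSL2 F)) = uQ F ⊔ dD F := by
  apply le_antisymm
  · intro x hx
    obtain ⟨A, rfl⟩ := mk_surj x
    apply mem_sup
    have h := (Subgroup.mem_normalizer_iff.1 hx (mk (um 1))).1 (mem_uQ.2 ⟨1, rfl⟩)
    obtain ⟨c, hc⟩ := mem_uQ.1 h
    have h' : mk (um c * A) = mk (A * um 1) := by
      show mk (um c) * mk A = mk A * mk (um 1)
      rw [hc]; group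
    rcases entries_of_mk_eq h' with h3 | h3
    · have e11 := h3 1 1
      simp only [mul00, mul01, mul10, mul11, um00, um01, um10, um11] at e11
      linear_combination -e11
    · have e10 := h3 1 0
      simp only [mul00, mul01, mul10, mul11, um00, um01, um10, um11] at e10
      have : 2 * A 1 0 = 0 := by linear_combination e10
      exact (mul_eq_zero.1 this).resolve_left h2
  · apply sup_le Subgroup.le_normalizer
    rintro x hx
    obtain ⟨a, rfl⟩ := mem_dD.1 hx
    have key : ∀ a : Fˣ, ∀ y ∈ uQ F, mk (dm a) * y * (mk (dm a))⁻¹ ∈ uQ F := by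
      rintro a y hy
      obtain ⟨b, rfl⟩ := mem_uQ.1 hy
      refine mem_uQ.2 ⟨a * a * b, ?_⟩
      rw [eq_mul_inv_iff_mul_eq]
      show mk (um (a * a * b) * dm a) = mk (dm a * um b)
      congr 1
      apply ext2 <;> simp only [mul00, mul01, mul10, mul11, um00, um01, um10, um11, dm00, dm01, dm10, dm11]
      · ring
      · have : (a : F) * ((a⁻¹ : Fˣ) : F) = 1 := by simp
        linear_combination (a : F) * b * this
      · ring
      · ring
    rw [Subgroup.mem_normalizer_iff]
    intro y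
    constructor
    · exact key a y
    · intro h
      have h1 := key a⁻¹ _ h
      have h2 : mk (dm a⁻¹) = (mk (dm a))⁻¹ := map_inv (dHom F) a
      rw [h2] at h1
      have h3 : (mk (dm a))⁻¹ * (mk (dm a) * y * (mk (dm a))⁻¹) * ((mk (dm a))⁻¹)⁻¹ = y := by group
      rwa [h3] at h1

theorem w_conj (a : Fˣ) : mk (w : SL2 F) * mk (dm a) * (mk w)⁻¹ = (mk (dm a))⁻¹ := by
  have h2 : mk (dm a⁻¹) = (mk (dm a))⁻¹ := map_inv (dHom F) a
  rw [mul_inv_eq_iff_eq_mul, ← h2]
  show mk (w * dm a) = mk (dm a⁻¹ * w)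
  congr 1
  apply ext2 <;> simp only [mul00, mul01, mul10, mul11, w00, w01, w10, w11, dm00, dm01, dm10, dm11] <;> simp

/-- monomial elements -/
theorem mem_mono {A : SL2 F} (h : (A 1 0 = 0 ∧ A 0 1 = 0) ∨ (A 0 0 = 0 ∧ A 1 1 = 0)) :
    mk A ∈ dD F ⊔ Subgroup.zpowers (mk (w : SL2 F)) := by
  have hd := det2 A
  rcases h with ⟨h1, h2⟩ | ⟨h1, h2⟩
  · rw [h1, mul_zero, sub_zero] at hd
    have ha : A 0 0 ≠ 0 := by
      intro h; rw [h, zero_mul] at hd; exact zero_ne_one hd
    apply Subgroup.mem_sup_left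
    refine mem_dD.2 ⟨Units.mk0 _ ha, ?_⟩
    congr 1
    have hinv : (((Units.mk0 _ ha)⁻¹ : Fˣ) : F) = A 1 1 := by
      rw [Units.val_inv_eq_inv_val, Units.val_mk0]
      field_simp
      linear_combination -hd
    apply ext2
    · rw [dm00, Units.val_mk0]
    · rw [dm01, h2]
    · rw [dm10, h1]
    · rw [dm11, hinv]
  · rw [h1, zero_mul, zero_sub] at hd
    have ha : A 0 1 ≠ 0 := by
      intro h; rw [h, zero_mul, neg_zero] at hd; exact zero_ne_one hd
    have hinv : (((Units.mk0 _ ha)⁻¹ : Fˣ) : F) = - A 1 0 := by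
      rw [Units.val_inv_eq_inv_val, Units.val_mk0]
      field_simp
      linear_combination -hd
    have h3 : mk A = mk (dm (Units.mk0 _ ha)) * mk w := by
      show mk A = mk (dm (Units.mk0 _ ha) * w)
      congr 1
      apply ext2
      · rw [mul00, w00, dm01, h1]; ring
      · rw [mul01, w01, dm01, dm00, Units.val_mk0]; ring
      · rw [mul10, w10, w00, dm11, hinv]; ring
      · rw [mul11, w01, w11, dm10, h2]; ring
    rw [h3]
    exact Subgroup.mul_mem_sup (mem_dD.2 ⟨_, rfl⟩) (Subgroup.mem_zpowers _)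

theorem normalizer_le (h2 : (2 : F) ≠ 0) {X : Subgroup (PSL2 F)} (hX : X ≤ dD F) (hX1 : X ≠ ⊥) :
    Subgroup.normalizer (X : Set (PSL2 F)) ≤ dD F ⊔ Subgroup.zpowers (mk (w : SL2 F)) := by
  obtain ⟨x, hx, hx1⟩ := X.ne_bot_iff_exists_ne_one.1 hX1 |>.elim fun x h => (⟨x.1, x.2, fun h' => h (Subtype.ext h')⟩ : ∃ x ∈ X, x ≠ 1)
  intro g hg
  obtain ⟨A, rfl⟩ := mk_surj g
  apply mem_mono
  obtain ⟨a, ha⟩ := mem_dD.1 (hX hx)
  obtain ⟨b, hb⟩ := mem_dD.1 (hX ((Subgroup.mem_normalizer_iff.1 hg x).1 hx))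
  rw [← ha] at hb
  have h' : mk (dm b * A) = mk (A * dm a) := by
    show mk (dm b) * mk A = mk A * mk (dm a)
    rw [hb]; group
  have haa : (a : F) * ((a⁻¹ : Fˣ) : F) = 1 := by simp
  have hbb : (b : F) * ((b⁻¹ : Fˣ) : F) = 1 := by simp
  have hne : (a : F) ≠ ((a⁻¹ : Fˣ) : F) := by
    intro h
    apply hx1
    rw [← ha]
    have : (a - 1 : F) * (a + 1) = 0 := by rw [← h] at haa; linear_combination haa
    have : a ∈ (dHom F).ker := by
      rw [mem_ker_dHom]
      rcases mul_eq_zero.1 this with h3 | h3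
      · left; apply Units.ext; rw [Units.val_one]; linear_combination h3
      · right; apply Units.ext; rw [Units.val_neg, Units.val_one]; linear_combination h3
    exact this
  have key : ∀ s : F, s = 1 ∨ s = -1 → (∀ i j, (dm b * A) i j = s * (A * dm a) i j) →
      (A 1 0 = 0 ∧ A 0 1 = 0) ∨ (A 0 0 = 0 ∧ A 1 1 = 0) := by
    intro s hs h3
    have hss : s * s = 1 := by rcases hs with rfl | rfl <;> ring
    have e00 := h3 0 0
    have e01 := h3 0 1
    have e10 := h3 1 0
    have e11 := h3 1 1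
    simp only [mul00, mul01, mul10, mul11, dm00, dm01, dm10, dm11] at e00 e01 e10 e11
    have f00 : A 0 0 * ((b : F) - s * a) = 0 := by linear_combination e00
    have f01 : A 0 1 * ((b : F) - s * ((a⁻¹ : Fˣ) : F)) = 0 := by linear_combination e01
    have f10 : A 1 0 * (((b⁻¹ : Fˣ) : F) - s * a) = 0 := by linear_combination e10
    have f11 : A 1 1 * (((b⁻¹ : Fˣ) : F) - s * ((a⁻¹ : Fˣ) : F)) = 0 := by linear_combination e11
    by_cases hA : A 0 0 = 0
    · right
      refine ⟨hA, ?_⟩
      have hd := det2 A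
      rw [hA, zero_mul, zero_sub] at hd
      have h01 : A 0 1 ≠ 0 := by intro h; rw [h, zero_mul, neg_zero] at hd; exact zero_ne_one hd
      have g01 := (mul_eq_zero.1 f01).resolve_left h01
      by_contra h11
      have g11 := (mul_eq_zero.1 f11).resolve_left h11
      -- b = s a⁻¹, b⁻¹ = s a⁻¹ so b = b⁻¹... and a⁻² = 1
      apply hne
      have : ((a⁻¹ : Fˣ) : F) * ((a⁻¹ : Fˣ) : F) = 1 := by
        have h5 : (b : F) = s * ((a⁻¹ : Fˣ) : F) := by linear_combination g01
        have h6 : ((b⁻¹ : Fˣ) : F) = s * ((a⁻¹ : Fˣ) : F) := by linear_combination g11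
        rw [h5, h6] at hbb
        linear_combination hbb - ((a⁻¹ : Fˣ) : F) * ((a⁻¹ : Fˣ) : F) * hss
      linear_combination (a : F) * (-this) + ((a⁻¹ : Fˣ) : F) * haa
    · left
      have g00 := (mul_eq_zero.1 f00).resolve_left hA
      constructor
      · by_contra h10
        have g10 := (mul_eq_zero.1 f10).resolve_left h10
        apply hne
        have h5 : (b : F) = s * a := by linear_combination g00
        have h6 : ((b⁻¹ : Fˣ) : F) = s * a := by linear_combination g10
        rw [h5, h6] at hbb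
        have : (a : F) * a = 1 := by linear_combination hbb - (a : F) * a * hss
        linear_combination ((a⁻¹ : Fˣ) : F) * this - (a : F) * haa
      · by_contra h01
        have g01 := (mul_eq_zero.1 f01).resolve_left h01
        apply hne
        have h5 : s * (a : F) = s * ((a⁻¹ : Fˣ) : F) := by linear_combination g01 - g00
        linear_combination s * h5 + (((a⁻¹ : Fˣ) : F) - a) * hss
  rcases entries_of_mk_eq h' with h3 | h3
  · exact key 1 (Or.inl rfl) fun i j => by rw [one_mul]; exact h3 i j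
  · exact key (-1) (Or.inr rfl) fun i j => by rw [neg_one_mul]; exact h3 i j

theorem le_normalizer {X : Subgroup (PSL2 F)} (hX : X ≤ dD F) :
    dD F ⊔ Subgroup.zpowers (mk (w : SL2 F)) ≤ Subgroup.normalizer (X : Set (PSL2 F)) := by
  apply sup_le
  · intro x hx
    rw [Subgroup.mem_normalizer_iff]
    intro y
    have hcomm : ∀ y ∈ dD F, x * y * x⁻¹ = y := by
      intro y hy
      have hab : x * y = y * x :=
        congrArg Subtype.val ((isMulCommutative_dD (F := F)).is_comm.comm (⟨x, hx⟩ : dD F) ⟨y, hy⟩)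
      rw [hab]; group
    constructor
    · intro hy
      rw [hcomm y (hX hy)]; exact hy
    · intro hy
      have h1 : x⁻¹ * (x * y * x⁻¹) * x = y := by group
      have h2 : y ∈ dD F := by
        rw [← h1]
        exact (dD F).mul_mem ((dD F).mul_mem ((dD F).inv_mem hx) (hX hy)) hx
      rwa [hcomm y h2] at hy
  · rw [Subgroup.zpowers_le, Subgroup.mem_normalizer_iff]
    have hc : ∀ y ∈ dD F, mk (w : SL2 F) * y * (mk (w : SL2 F))⁻¹ = y⁻¹ := by
      rintro y hy
      obtain ⟨a, rfl⟩ := mem_dD.1 hy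
      exact w_conj a
    have hww : mk (w : SL2 F) * mk w = 1 := by
      show mk (w * w) = 1
      rw [w_mul_self, mk_eq_one]; right; rfl
    have hwinv : (mk (w : SL2 F))⁻¹ = mk w := inv_eq_of_mul_eq_one_left hww
    intro y
    constructor
    · intro hy
      rw [hc y (hX hy)]; exact X.inv_mem hy
    · intro hy
      have h1 := hc _ (hX hy)
      have h2 : mk (w : SL2 F) * (mk w * y * (mk w)⁻¹) * (mk w)⁻¹ = y := by
        rw [hwinv]
        calc mk (w : SL2 F) * (mk w * y * mk w) * mk w = (mk w * mk w) * y * (mk w * mk w) := by group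
          _ = y := by rw [hww]; group
      rw [h2] at h1
      rw [h1]
      exact X.inv_mem hy

theorem normalizer_eq (h2 : (2 : F) ≠ 0) {X : Subgroup (PSL2 F)} (hX : X ≤ dD F) (hX1 : X ≠ ⊥) :
    Subgroup.normalizer (X : Set (PSL2 F)) = dD F ⊔ Subgroup.zpowers (mk (w : SL2 F)) :=
  le_antisymm (normalizer_le h2 hX hX1) (le_normalizer hX)

theorem orderOf_w : orderOf (mk (w : SL2 F)) = 2 := by
  have hww : mk (w : SL2 F) * mk w = 1 := by
    show mk (w * w) = 1
    rw [w_mul_self, mk_eq_one]; right; rfl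
  apply orderOf_eq_prime
  · rw [pow_two]; exact hww
  · intro h
    rw [mk_eq_one] at h
    rcases h with h | h
    · have := congrArg (fun x : SL2 F => x 0 1) h
      simp [w01] at this
    · have := congrArg (fun x : SL2 F => x 0 1) h
      simp [w01] at this

theorem w_not_mem : mk (w : SL2 F) ∉ dD F := by
  intro h
  obtain ⟨a, ha⟩ := mem_dD.1 h
  rcases entries_of_mk_eq ha with h | h
  · have := h 0 1
    rw [dm01, w01] at this
    exact zero_ne_one this
  · have := h 0 1
    rw [dm01, w01] at this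
    exact zero_ne_one (by linear_combination -this : (0 : F) = 1)

/-- **S3282 in `PSL₂(q)`.** -/
theorem concl (F : Type*) [Field F] [Fintype F] (hodd : Odd (Fintype.card F)) : Concl (PSL2 F) := by
  have h2 : (2 : F) ≠ 0 := two_ne_zero_of_odd hodd
  refine ⟨uQ F, dD F, ?_, ?_, isMulCommutative_dD, ?_, inf_eq_bot, normalizer_uQ h2, ?_⟩
  · rw [card_uQ h2, Cfsg.Agent.SmallSimple.PSLTwoPart.card_psl_two_odd hodd]
    obtain ⟨k, hk⟩ : ∃ k, Fintype.card F = k + 1 := ⟨Fintype.card F - 1, by
      have := Fintype.card_pos (α := F); omega⟩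
    rw [hk, Nat.add_sub_cancel, mul_assoc]
    congr 1
    rw [Nat.sub_eq_iff_eq_add (by nlinarith)]
    ring
  · intro x hx hx1
    obtain ⟨b, rfl⟩ := mem_uQ.1 hx
    apply centralizer_um h2
    rintro rfl
    exact hx1 (map_one (uHom F))
  · rw [card_uQ h2]; exact card_dD h2
  · intro X hX hX1
    have hD1 : dD F ≠ ⊥ := by
      rintro h
      rw [h, le_bot_iff] at hX
      exact hX1 hX
    refine ⟨?_, mk w, orderOf_w, w_not_mem, ?_, normalizer_eq h2 le_rfl hD1⟩
    · rw [normalizer_eq h2 hX hX1, normalizer_eq h2 le_rfl hD1]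
    · intro d hd
      obtain ⟨a, rfl⟩ := mem_dD.1 hd
      exact w_conj a

end Cfsg.Agent.H329.PSLTwo
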