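import Mathlib
import Cfsg.Prelude.Def_CaseTheorems
import Cfsg.Agent.S0206
import Cfsg.Agent.S0205
import Cfsg.Agent.S0483
import Cfsg.Agent.H329.PSLTwo

/-!
# The Brauer-Suzuki-Wall configuration (helper329, for S3282)
-/

set_option autoImplicit false

namespace Cfsg.Agent.H329.BSW

open Subgroup Cfsg.Agent.H329.PSLTwo

/-- The hypotheses of S3282, elementwise. -/
structure Hyp {G : Type*} [Group G] (t s : G) (K : Subgroup G) : Prop where
  ht : orderOf t = 2
  ab : ∀ x ∈ K, ∀ y ∈ K, x * y = y * x
  tK : t ∈ K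
  hs : orderOf s = 2
  st : s * t = t * s
  sK : s ∉ K
  gen : ∀ g, g * t = t * g → g ∈ K ∨ g * s ∈ K
  CK : ∀ x ∈ K, x * s = s * x → x = 1 ∨ x = t
  inv : ∀ x ∈ K, s * x * s⁻¹ = x⁻¹
  TI : ∀ g x, x ∈ K → g * x * g⁻¹ ∈ K → x ≠ 1 → g * t = t * g
  conj : ∀ x y : G, orderOf x = 2 → orderOf y = 2 → IsConj x y

theorem mul_self_of_order {G : Type*} [Group G] {x : G} (h : orderOf x = 2) : x * x = 1 := by
  rw [← pow_two, ← h]; exact pow_orderOf_eq_one x

theorem inv_of_order {G : Type*} [Group G] {x : G} (h : orderOf x = 2) : x⁻¹ = x :=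
  inv_eq_of_mul_eq_one_left (mul_self_of_order h)

theorem ne_one_of_order {G : Type*} [Group G] {x : G} (h : orderOf x = 2) : x ≠ 1 := by
  rintro rfl; simp at h

theorem order_of_mul_self {G : Type*} [Group G] {x : G} (h : x * x = 1) (h1 : x ≠ 1) : orderOf x = 2 :=
  orderOf_eq_prime (by rw [pow_two, h]) h1

theorem hyp_of {G : Type*} [Group G] (t : G) (ht : orderOf t = 2)
    (K : Subgroup G) (hKab : IsMulCommutative ↥K) (hKH : K ≤ Subgroup.centralizer ({t} : Set G)) (htK : t ∈ K)
    (s : G) (hs : orderOf s = 2) (hsH : s ∈ Subgroup.centralizer ({t} : Set G)) (hsK : s ∉ K)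
    (hH : K ⊔ Subgroup.zpowers s = Subgroup.centralizer ({t} : Set G)) (hCK : K ⊓ Subgroup.centralizer ({s} : Set G) = Subgroup.zpowers t)
    (hinv : ∀ x ∈ K, s * x * s⁻¹ = x⁻¹)
    (hTI : ∀ g : G, g ∉ Subgroup.centralizer ({t} : Set G) → K ⊓ K.map (MulAut.conj g).toMonoidHom = ⊥)
    (hconj : ∀ x y : G, orderOf x = 2 → orderOf y = 2 → IsConj x y) : Hyp t s K where
  ht := ht
  ab x hx y hy := congrArg Subtype.val (hKab.is_comm.comm (⟨x, hx⟩ : K) ⟨y, hy⟩)
  tK := htK
  hs := hs
  st := mem_centralizer_singleton_iff.1 hsH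
  sK := hsK
  gen g hg := by
    have hss := mul_self_of_order hs
    have hsi := inv_of_order hs
    have hinv' : ∀ x ∈ K, s * x * s ∈ K := by
      intro x hx
      have := hinv x hx
      rw [hsi] at this
      rw [this]; exact K.inv_mem hx
    let M : Subgroup G :=
      { carrier := {g | g ∈ K ∨ g * s ∈ K}
        one_mem' := Or.inl K.one_mem
        mul_mem' := by
          rintro a b (ha | ha) (hb | hb)
          · exact Or.inl (K.mul_mem ha hb)
          · right; rw [mul_assoc]; exact K.mul_mem ha hb
          · right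
            have : a * b * s = (a * s) * (s * b * s) := by
              calc a * b * s = a * 1 * b * s := by group
                _ = a * (s * s) * b * s := by rw [hss]
                _ = (a * s) * (s * b * s) := by group
            rw [this]; exact K.mul_mem ha (hinv' b hb)
          · left
            have : a * b = (a * s) * (s * (b * s) * s) := by
              calc a * b = a * 1 * b * 1 := by group
                _ = a * (s * s) * b * (s * s) := by rw [hss]
                _ = (a * s) * (s * (b * s) * s) := by group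
            rw [this]; exact K.mul_mem ha (hinv' _ hb)
        inv_mem' := by
          rintro a (ha | ha)
          · exact Or.inl (K.inv_mem ha)
          · right
            have : a⁻¹ * s = s * (a * s)⁻¹ * s := by
              rw [mul_inv_rev, hsi, ← mul_assoc, hss, one_mul]
            rw [this]; exact hinv' _ (K.inv_mem ha) }
    have hle : K ⊔ zpowers s ≤ M := by
      apply sup_le
      · intro x hx; exact Or.inl hx
      · rw [zpowers_le]
        right
        rw [hss]; exact K.one_mem
    have : g ∈ K ⊔ zpowers s := by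
      rw [hH, mem_centralizer_singleton_iff]; exact hg
    exact hle this
  CK x hx hxs := by
    have h1 : x ∈ K ⊓ Subgroup.centralizer ({s} : Set G) := ⟨hx, mem_centralizer_singleton_iff.2 hxs⟩
    rw [hCK, mem_zpowers_iff] at h1
    obtain ⟨k, hk⟩ := h1
    have ht2 : t ^ (2 : ℤ) = 1 := by
      have := mul_self_of_order ht
      rw [show (2 : ℤ) = 1 + 1 from rfl, zpow_add, zpow_one, this]
    rcases Int.even_or_odd' k with ⟨m, rfl | rfl⟩
    · left
      rw [← hk, zpow_mul, ht2, one_zpow]
    · right
      rw [← hk, zpow_add, zpow_mul, ht2, one_zpow, one_mul, zpow_one]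
  inv := hinv
  TI g x hx hgx hx1 := by
    by_contra hg
    have h1 := hTI g (fun h => hg (mem_centralizer_singleton_iff.1 h))
    have h2 : g * x * g⁻¹ ∈ K ⊓ K.map (MulAut.conj g).toMonoidHom := ⟨hgx, x, hx, rfl⟩
    rw [h1, mem_bot] at h2
    apply hx1
    have : x = g⁻¹ * (g * x * g⁻¹) * g := by group
    rw [this, h2]; group
  conj := hconj

section

variable {G : Type*} [Group G] {t s : G} {K : Subgroup G} (h : Hyp t s K)
include h

theorem Hyp.tt : t * t = 1 := mul_self_of_order h.ht
theorem Hyp.ss : s * s = 1 := mul_self_of_order h.hs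
theorem Hyp.si : s⁻¹ = s := inv_of_order h.hs
theorem Hyp.t1 : t ≠ 1 := ne_one_of_order h.ht
theorem Hyp.s1 : s ≠ 1 := ne_one_of_order h.hs

theorem Hyp.sxs {x : G} (hx : x ∈ K) : s * x * s = x⁻¹ := by
  have := h.inv x hx
  rwa [h.si] at this

theorem Hyp.Kt {x : G} (hx : x ∈ K) : x * t = t * x := h.ab x hx t h.tK

/-- `g ∈ H ∖ K` is an involution. -/
theorem Hyp.sq {g : G} (hg : g * t = t * g) (hgK : g ∉ K) : g * g = 1 := by
  have h1 := (h.gen g hg).resolve_left hgK
  have h2 : g = (g * s) * s := by rw [mul_assoc, h.ss, mul_one]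
  have h3 := h.sxs h1
  calc g * g = (g * s) * s * ((g * s) * s) := by rw [← h2]
    _ = (g * s) * (s * (g * s) * s) := by group
    _ = 1 := by rw [h3, mul_inv_cancel]

theorem Hyp.odd_mem {g : G} (hg : g * t = t * g) (ho : Odd (orderOf g)) : g ∈ K := by
  by_contra hgK
  have h1 := h.sq hg hgK
  have h2 : g = 1 := by
    rw [← orderOf_eq_one_iff]
    have : orderOf g ∣ 2 := orderOf_dvd_of_pow_eq_one (by rw [pow_two, h1])
    rcases (Nat.dvd_prime Nat.prime_two).1 this with h3 | h3
    · exact h3
    · rw [h3] at ho; exact absurd ho (by decide)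
  rw [h2] at hgK
  exact hgK K.one_mem

theorem Hyp.cent {x g : G} (hx : x ∈ K) (hx1 : x ≠ 1) (hg : g * x = x * g) : g * t = t * g := by
  apply h.TI g x hx _ hx1
  rw [hg, mul_assoc, mul_inv_cancel, mul_one]; exact hx

theorem Hyp.exists_conj {v : G} (hv : orderOf v = 2) : ∃ g, v = g * t * g⁻¹ := by
  obtain ⟨g, hg⟩ := isConj_iff.1 (h.conj t v h.ht hv)
  exact ⟨g, hg.symm⟩

/-- an abelian normal subgroup of odd order is trivial -/
theorem Hyp.abelian_normal [Finite G] {A : Subgroup G} [hA : A.Normal]
    (hab : ∀ x ∈ A, ∀ y ∈ A, x * y = y * x) (hodd : Odd (Nat.card A)) : A = ⊥ := by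
  have hord : ∀ x ∈ A, Odd (orderOf x) := by
    intro x hx
    have h1 : orderOf x ∣ Nat.card A := by
      have := orderOf_dvd_natCard (⟨x, hx⟩ : A)
      rwa [Subgroup.orderOf_mk] at this
    exact Odd.of_dvd_nat hodd h1
  have hsq : ∀ x ∈ A, x * x = 1 → x = 1 := by
    intro x hx h1
    by_contra h2
    have h3 := hord x hx
    rw [order_of_mul_self h1 h2] at h3
    exact absurd h3 (by decide)
  rw [Subgroup.eq_bot_iff_forall]
  by_cases hc : ∃ a ∈ A, a ≠ 1 ∧ a * t = t * a
  · obtain ⟨a, ha, ha1, hat⟩ := hc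
    have haK := h.odd_mem hat (hord a ha)
    have hAt : ∀ x ∈ A, x * t = t * x := fun x hx => h.cent haK ha1 (hab x hx a ha)
    obtain ⟨g, hg⟩ := h.exists_conj h.hs
    intro x hx
    have h1 : g⁻¹ * x * g ∈ A := by
      have := hA.conj_mem x hx g⁻¹
      rwa [inv_inv] at this
    have h2 := hAt _ h1
    have h3 : x * s = s * x := by
      rw [hg]
      calc x * (g * t * g⁻¹) = g * (g⁻¹ * x * g * t) * g⁻¹ := by group
        _ = g * (t * (g⁻¹ * x * g)) * g⁻¹ := by rw [h2]
        _ = g * t * g⁻¹ * x := by group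
    have h4 := h.sxs (h.odd_mem (hAt x hx) (hord x hx))
    apply hsq x hx
    have h5 : s * x * s = x := by rw [← h3, mul_assoc, h.ss, mul_one]
    rw [h5] at h4
    nth_rw 1 [h4]
    exact inv_mul_cancel x
  · push Not at hc
    have hfix : ∀ v : G, orderOf v = 2 → ∀ a ∈ A, a * v = v * a → a = 1 := by
      intro v hv a ha hav
      obtain ⟨g, hg⟩ := h.exists_conj hv
      by_contra ha1
      have h1 : g⁻¹ * a * g ∈ A := by
        have := hA.conj_mem a ha g⁻¹
        rwa [inv_inv] at this
      apply hc _ h1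
      · intro h2
        apply ha1
        calc a = g * (g⁻¹ * a * g) * g⁻¹ := by group
          _ = 1 := by rw [h2]; group
      · rw [hg] at hav
        calc g⁻¹ * a * g * t = g⁻¹ * (a * (g * t * g⁻¹)) * g := by group
          _ = g⁻¹ * (g * t * g⁻¹ * a) * g := by rw [hav]
          _ = t * (g⁻¹ * a * g) := by group
    have hinv : ∀ v : G, orderOf v = 2 → ∀ a ∈ A, v * a * v⁻¹ = a⁻¹ := by
      intro v hv a ha
      have hvv := mul_self_of_order hv
      have hvi := inv_of_order hv
      have h1 : v * a * v⁻¹ ∈ A := hA.conj_mem a ha v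
      have h2 : a * (v * a * v⁻¹) = 1 := by
        apply hfix v hv _ (A.mul_mem ha h1)
        have h3 := hab a ha _ h1
        rw [hvi] at h3 ⊢
        calc a * (v * a * v) * v = a * v * a * (v * v) := by group
          _ = a * v * a := by rw [hvv, mul_one]
          _ = v * (v * a * v * a) := by
              calc a * v * a = 1 * a * v * a := by group
                _ = v * v * a * v * a := by rw [hvv]
                _ = v * (v * a * v * a) := by group
          _ = v * (a * (v * a * v)) := by rw [h3]
      exact eq_inv_of_mul_eq_one_right h2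
    intro x hx
    have h1 := hinv s h.hs x hx
    have h2 := hinv t h.ht x⁻¹ (A.inv_mem hx)
    have hne : t * s ≠ 1 := by
      intro h3
      apply h.sK
      have : s = t := by
        calc s = t * t * s := by rw [h.tt, one_mul]
          _ = t * (t * s) := by group
          _ = t := by rw [h3, mul_one]
      rw [this]; exact h.tK
    have hts : orderOf (t * s) = 2 := by
      apply order_of_mul_self _ hne
      calc t * s * (t * s) = t * (s * t) * s := by group
        _ = t * (t * s) * s := by rw [h.st]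
        _ = (t * t) * (s * s) := by group
        _ = 1 := by rw [h.tt, h.ss, mul_one]
    apply hfix (t * s) hts x hx
    have h3 : t * s * x * (t * s)⁻¹ = x := by
      calc t * s * x * (t * s)⁻¹ = t * (s * x * s⁻¹) * t⁻¹ := by group
        _ = x := by rw [h1, h2, inv_inv]
    calc x * (t * s) = (t * s * x * (t * s)⁻¹) * (t * s) := by rw [h3]
      _ = t * s * x := by group

/-- a normal subgroup of odd order is trivial -/
theorem Hyp.odd_normal [Finite G] {N : Subgroup G} [hN : N.Normal] (hodd : Odd (Nat.card N)) :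
    N = ⊥ := by
  classical
  by_contra hne
  have hsol : Group.IsSolvable N := Cfsg.Agent.S0205.result hodd
  obtain ⟨n, hn⟩ := hsol.solvable
  have hex : ∃ n, derivedSeries N n = ⊥ := ⟨n, hn⟩
  have hmin := Nat.find_spec hex
  have hpos : Nat.find hex ≠ 0 := by
    intro h0
    rw [h0, derivedSeries_zero] at hmin
    apply hne
    rw [Subgroup.eq_bot_iff_forall]
    intro x hx
    have : (⟨x, hx⟩ : N) ∈ (⊤ : Subgroup N) := mem_top _
    rw [hmin, mem_bot] at this
    exact congrArg Subtype.val this
  obtain ⟨m, hm⟩ := Nat.exists_eq_succ_of_ne_zero hpos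
  have hm1 : derivedSeries N m ≠ ⊥ := Nat.find_min hex (by omega)
  have hm2 : derivedSeries N (m + 1) = ⊥ := by rw [hm] at hmin; exact hmin
  rw [derivedSeries_succ, commutator_eq_bot_iff_le_centralizer] at hm2
  have hchar : (derivedSeries N m).Characteristic := inferInstance
  have hnorm : ((derivedSeries N m).map N.subtype).Normal := inferInstance
  have hcard : Nat.card ((derivedSeries N m).map N.subtype) = Nat.card (derivedSeries N m) :=
    Subgroup.card_map_of_injective (Subgroup.subtype_injective _)
  have h1 := h.abelian_normal (A := (derivedSeries N m).map N.subtype) (by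
    rintro _ ⟨x, hx, rfl⟩ _ ⟨y, hy, rfl⟩
    have := (mem_centralizer_iff.1 (hm2 hx)) y hy
    exact (congrArg Subtype.val this).symm) (by
    rw [hcard]
    exact Odd.of_dvd_nat hodd (Subgroup.card_subgroup_dvd_card _))
  apply hm1
  rw [Subgroup.map_eq_bot_iff_of_injective _ (Subgroup.subtype_injective _)] at h1
  exact h1

/-- a nontrivial normal subgroup contains all involutions -/
theorem Hyp.invol_mem [Finite G] {N : Subgroup G} [hN : N.Normal] (hne : N ≠ ⊥) {v : G}
    (hv : orderOf v = 2) : v ∈ N := by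
  have heven : ¬ Odd (Nat.card N) := fun ho => hne (h.odd_normal ho)
  rw [Nat.not_odd_iff_even, even_iff_two_dvd] at heven
  have : Fact (Nat.Prime 2) := ⟨Nat.prime_two⟩
  obtain ⟨x, hx⟩ := exists_prime_orderOf_dvd_card' (G := N) 2 heven
  have hx' : orderOf (x : G) = 2 := by rw [Subgroup.orderOf_coe]; exact hx
  obtain ⟨g, hg⟩ := isConj_iff.1 (h.conj _ _ hx' hv)
  rw [← hg]
  exact hN.conj_mem _ x.2 g

theorem Hyp.le_of_normal [Finite G] {N : Subgroup G} [hN : N.Normal] (hne : N ≠ ⊥) {g : G}
    (hg : g * t = t * g) : g ∈ N := by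
  have hsN := h.invol_mem hne h.hs
  have key : ∀ k ∈ K, k ∈ N := by
    intro k hk
    have h1 : orderOf (k * s) = 2 := by
      apply order_of_mul_self
      · calc k * s * (k * s) = k * (s * k * s) := by group
          _ = 1 := by rw [h.sxs hk, mul_inv_cancel]
      · intro h2
        apply h.sK
        have : s = k⁻¹ := eq_inv_of_mul_eq_one_right h2
        rw [this]; exact K.inv_mem hk
    have h2 := h.invol_mem hne h1
    have h3 : k = k * s * s⁻¹ := by group
    rw [h3]
    exact N.mul_mem h2 (N.inv_mem hsN)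
  rcases h.gen g hg with h1 | h1
  · exact key g h1
  · have h3 : g = g * s * s⁻¹ := by group
    rw [h3]
    exact N.mul_mem (key _ h1) (N.inv_mem hsN)

end

end Cfsg.Agent.H329.BSW
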