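import Cfsg.Agent.H329.BSWSyl

/-!
# The Brauer-Suzuki-Wall configuration: the end (helper329, for S3282)
-/

set_option autoImplicit false

namespace Cfsg.Agent.H329.BSW

open Subgroup Cfsg.Agent.H329.PSLTwo
open scoped commutatorElement

theorem order_conj {G : Type*} [Group G] (g x : G) : orderOf (g * x * g⁻¹) = orderOf x := by
  have := MulEquiv.orderOf_eq (MulAut.conj g) x
  rwa [MulAut.conj_apply] at this

theorem alt_seven : ∃ v x y : alternatingGroup (Fin 7), v * v = 1 ∧ v ≠ 1 ∧ x * v = v * x ∧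
    x * x * x = 1 ∧ x ≠ 1 ∧ x * y = y * x ∧ y * v ≠ v * y := by
  refine ⟨⟨Equiv.swap 0 1 * Equiv.swap 2 3, Equiv.Perm.mem_alternatingGroup.2 (by decide +kernel)⟩,
    ⟨Equiv.swap 4 5 * Equiv.swap 5 6, Equiv.Perm.mem_alternatingGroup.2 (by decide +kernel)⟩,
    ⟨Equiv.swap 0 1 * Equiv.swap 1 2, Equiv.Perm.mem_alternatingGroup.2 (by decide +kernel)⟩, ?_⟩
  decide +kernel

/-- The Sylow data. -/
structure Syl {G : Type*} [Group G] (t s : G) (K : Subgroup G) (c : G) (S : Sylow 2 G) : Prop
    extends Hyp t s K where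
  cK : c ∈ K
  tc : t ∈ zpowers c
  oc : ∃ m, orderOf c = 2 ^ (m + 1)
  max : ∀ n, ∀ x ∈ K, x ^ (2 ^ n) = 1 → x ∈ zpowers c
  cS : Nat.card S = 2 * orderOf c
  mem : ∀ x, x ∈ S ↔ x ∈ zpowers c ∨ x * s ∈ zpowers c
  dih : Nonempty ((S : Subgroup G) ≃* DihedralGroup (orderOf c))

section

variable {G : Type*} [Group G] [Finite G] {t s c : G} {K : Subgroup G} {S : Sylow 2 G}
  (h : Syl t s K c S)
include h

theorem Syl.tS : t ∈ S := (h.mem t).2 (Or.inl h.tc)
theorem Syl.sS : s ∈ S := (h.mem s).2 (Or.inr (by rw [h.toHyp.ss]; exact one_mem _))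

/-- if `|S| > 4` then the normaliser of `S` centralises `t` -/
theorem Syl.norm_big (h4 : 4 ≤ orderOf c) {g : G} (hg : g ∈ normalizer ((S : Subgroup G) : Set G)) :
    g * t = t * g := by
  have hyp := h.toHyp
  -- characterisation of `t`
  have key : ∀ z ∈ S, z ≠ 1 → (∀ x ∈ S, z * x = x * z) → z = t := by
    intro z hz hz1 hzx
    have hzs := hzx s h.sS
    rcases (h.mem z).1 hz with h1 | h1
    · exact (hyp.CK z (zpowers_le.2 h.cK h1) hzs).resolve_left hz1
    · exfalso
      -- c commutes with z and z*s, so with s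
      have hzc := hzx c ((h.mem c).2 (Or.inl (mem_zpowers c)))
      have h2 := hyp.ab c h.cK (z * s) (zpowers_le.2 h.cK h1)
      have h3 : c * s = s * c := by
        have : s = z⁻¹ * (z * s) := by group
        have hzc' : c * z⁻¹ = z⁻¹ * c := by
          calc c * z⁻¹ = z⁻¹ * (z * c) * z⁻¹ := by group
            _ = z⁻¹ * (c * z) * z⁻¹ := by rw [hzc]
            _ = z⁻¹ * c := by group
        calc c * s = c * (z⁻¹ * (z * s)) := by rw [← this]
          _ = c * z⁻¹ * (z * s) := by group
          _ = z⁻¹ * c * (z * s) := by rw [hzc']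
          _ = z⁻¹ * (c * (z * s)) := by group
          _ = z⁻¹ * (z * s * c) := by rw [h2]
          _ = s * c := by group
      rcases hyp.CK c h.cK h3 with h5 | h5
      · rw [h5, orderOf_one] at h4; omega
      · rw [h5, hyp.ht] at h4; omega
  have h1 : g * t * g⁻¹ = t := by
    have hgS := (mem_normalizer_iff.1 hg)
    apply key
    · exact (hgS t).1 h.tS
    · intro h2
      apply hyp.t1
      calc t = g⁻¹ * (g * t * g⁻¹) * g := by group
        _ = 1 := by rw [h2]; group
    · intro x hx
      have hx' : g⁻¹ * x * g ∈ S := by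
        have : g * (g⁻¹ * x * g) * g⁻¹ ∈ S := by
          have : g * (g⁻¹ * x * g) * g⁻¹ = x := by group
          rw [this]; exact hx
        exact (hgS _).2 this
      have h3 : (g⁻¹ * x * g) * t = t * (g⁻¹ * x * g) := by
        -- elements of S commute with t
        rcases (h.mem _).1 hx' with h5 | h5
        · exact hyp.Kt (zpowers_le.2 h.cK h5)
        · have h6 := hyp.Kt (zpowers_le.2 h.cK h5)
          have h7 : g⁻¹ * x * g = (g⁻¹ * x * g * s) * s := by rw [mul_assoc _ s s, hyp.ss, mul_one]
          rw [h7]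
          calc (g⁻¹ * x * g * s) * s * t = (g⁻¹ * x * g * s) * (s * t) := by group
            _ = (g⁻¹ * x * g * s) * (t * s) := by rw [hyp.st]
            _ = ((g⁻¹ * x * g * s) * t) * s := by group
            _ = t * ((g⁻¹ * x * g * s) * s) := by rw [h6]; group
      calc g * t * g⁻¹ * x = g * (t * (g⁻¹ * x * g)) * g⁻¹ := by group
        _ = g * ((g⁻¹ * x * g) * t) * g⁻¹ := by rw [h3]
        _ = x * (g * t * g⁻¹) := by group
  calc g * t = (g * t * g⁻¹) * g := by group
    _ = t * g := by rw [h1]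

theorem Syl.le_of_normal {N : Subgroup G} [N.Normal] (hne : N ≠ ⊥) : (S : Subgroup G) ≤ N := by
  intro x hx
  have hyp := h.toHyp
  have hs := hyp.le_of_normal hne hyp.st
  rcases (h.mem x).1 hx with h1 | h1
  · exact hyp.le_of_normal hne (hyp.Kt (zpowers_le.2 h.cK h1))
  · have h2 := hyp.le_of_normal hne (hyp.Kt (zpowers_le.2 h.cK h1))
    have h3 : x = x * s * s⁻¹ := by group
    rw [h3]
    exact N.mul_mem h2 (N.inv_mem hs)

/-- the small case: `S` is a four-group -/
theorem Syl.stab (h2 : orderOf c = 2) {g : G} (hg : g ∈ normalizer ((S : Subgroup G) : Set G))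
    (hgt : g * t = t * g) : g ∈ S := by
  have hyp := h.toHyp
  have hc : ∀ x ∈ zpowers c, x = 1 ∨ x = t := by
    intro x hx
    apply hyp.uniq (zpowers_le.2 h.cK hx)
    have := orderOf_dvd_of_mem_zpowers hx
    rw [h2] at this
    rw [← pow_two]; exact orderOf_dvd_iff_pow_eq_one.1 this
  have key : ∀ k ∈ K, k ∈ normalizer ((S : Subgroup G) : Set G) → k ∈ S := by
    intro k hk hkn
    have h3 := ((mem_normalizer_iff.1 hkn) s).1 h.sS
    have h4 : k * s * k⁻¹ = k * k * s := by
      have h5 := hyp.sxs hk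
      calc k * s * k⁻¹ = k * s * (s * k * s) := by rw [h5]
        _ = k * (s * s) * k * s := by group
        _ = k * k * s := by rw [hyp.ss]; group
    rw [h4] at h3
    have h5 : k * k ∈ zpowers c := by
      rcases (h.mem _).1 h3 with h6 | h6
      · exfalso
        apply hyp.sK
        have : s = (k * k)⁻¹ * (k * k * s) := by group
        rw [this]
        exact K.mul_mem (K.inv_mem (K.mul_mem hk hk)) (zpowers_le.2 h.cK h6)
      · rwa [mul_assoc, hyp.ss, mul_one] at h6
    have h6 : k ^ (2 ^ 2) = 1 := by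
      have h7 : (k * k) * (k * k) = 1 := by
        rcases hc _ h5 with h8 | h8
        · rw [h8, mul_one]
        · rw [h8, hyp.tt]
      calc k ^ (2 ^ 2) = (k * k) * (k * k) := by
            rw [show (2 ^ 2 : ℕ) = 2 + 2 from rfl, pow_add, pow_two]
        _ = 1 := h7
    exact (h.mem k).2 (Or.inl (h.max 2 k hk h6))
  rcases hyp.gen g hgt with h3 | h3
  · exact key g h3 hg
  · have h4 := key (g * s) h3 (mul_mem hg (le_normalizer h.sS))
    have h5 : g = g * s * s⁻¹ := by group
    rw [h5]
    exact S.mul_mem h4 (S.inv_mem h.sS)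

theorem Syl.elems (h2 : orderOf c = 2) {x : G} (hx : x ∈ S) : x = 1 ∨ x = t ∨ x = s ∨ x = t * s := by
  have hyp := h.toHyp
  have hc : ∀ x ∈ zpowers c, x = 1 ∨ x = t := by
    intro x hx
    apply hyp.uniq (zpowers_le.2 h.cK hx)
    have := orderOf_dvd_of_mem_zpowers hx
    rw [h2] at this
    rw [← pow_two]; exact orderOf_dvd_iff_pow_eq_one.1 this
  rcases (h.mem x).1 hx with h1 | h1
  · rcases hc x h1 with h3 | h3
    · exact Or.inl h3
    · exact Or.inr (Or.inl h3)
  · have h4 : x = x * s * s := by rw [mul_assoc, hyp.ss, mul_one]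
    rcases hc _ h1 with h3 | h3
    · right; right; left
      rw [h4, h3, one_mul]
    · right; right; right
      rw [h4, h3]

/-- the index of `S` in its normaliser is at most 3 in the small case -/
theorem Syl.relIndex_le (h2 : orderOf c = 2) :
    (S : Subgroup G).relIndex (normalizer ((S : Subgroup G) : Set G)) ≤ 3 := by
  classical
  have hyp := h.toHyp
  have hfin : Finite (↥(normalizer ((S : Subgroup G) : Set G)) ⧸
    (S : Subgroup G).subgroupOf (normalizer ((S : Subgroup G) : Set G))) := inferInstance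
  let f : (↥(normalizer ((S : Subgroup G) : Set G)) ⧸
    (S : Subgroup G).subgroupOf (normalizer ((S : Subgroup G) : Set G))) → G :=
    fun q => (q.out : G) * t * (q.out : G)⁻¹
  have hf : Function.Injective f := by
    intro a b hab
    rw [← a.out_eq', ← b.out_eq', Quotient.eq'', QuotientGroup.leftRel_apply, mem_subgroupOf]
    have h3 : (a.out : G) * t * (a.out : G)⁻¹ = (b.out : G) * t * (b.out : G)⁻¹ := hab
    apply h.stab h2
    · exact mul_mem (inv_mem a.out.2) b.out.2
    · show (a.out : G)⁻¹ * (b.out : G) * t = t * ((a.out : G)⁻¹ * (b.out : G))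
      calc (a.out : G)⁻¹ * (b.out : G) * t
          = (a.out : G)⁻¹ * ((b.out : G) * t * (b.out : G)⁻¹) * (b.out : G) := by group
        _ = (a.out : G)⁻¹ * ((a.out : G) * t * (a.out : G)⁻¹) * (b.out : G) := by rw [h3]
        _ = t * ((a.out : G)⁻¹ * (b.out : G)) := by group
  have hr : Set.range f ⊆ ({t, s, t * s} : Finset G) := by
    rintro _ ⟨q, rfl⟩
    have h3 : f q ∈ S := ((mem_normalizer_iff.1 q.out.2) t).1 h.tS
    have h4 : f q ≠ 1 := by
      intro h5
      apply hyp.t1
      calc t = (q.out : G)⁻¹ * ((q.out : G) * t * (q.out : G)⁻¹) * (q.out : G) := by group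
        _ = 1 := by rw [show (q.out : G) * t * (q.out : G)⁻¹ = 1 from h5]; group
    rcases h.elems h2 h3 with h5 | h5 | h5 | h5
    · exact absurd h5 h4
    · simp [h5]
    · simp [h5]
    · simp [h5]
  calc (S : Subgroup G).relIndex (normalizer ((S : Subgroup G) : Set G))
      = Nat.card (↥(normalizer ((S : Subgroup G) : Set G)) ⧸
    (S : Subgroup G).subgroupOf (normalizer ((S : Subgroup G) : Set G))) := rfl
    _ = (Set.range f).ncard := by
        rw [← Nat.card_coe_set_eq]; exact Nat.card_congr (Equiv.ofInjective f hf)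
    _ ≤ (({t, s, t * s} : Finset G) : Set G).ncard := Set.ncard_le_ncard hr (Set.toFinite _)
    _ = ({t, s, t * s} : Finset G).card := Set.ncard_coe_finset _
    _ ≤ 3 := Finset.card_le_three

theorem Syl.comm (h2 : orderOf c = 2) {x y : G} (hx : x ∈ S) (hy : y ∈ S) : x * y = y * x := by
  have hyp := h.toHyp
  have e1 : s * t = t * s := hyp.st
  have e2 : s * (t * s) = (t * s) * s := by rw [← mul_assoc, hyp.st]
  have e3 : t * (t * s) = (t * s) * t := by rw [mul_assoc, hyp.st]
  rcases h.elems h2 hx with rfl | rfl | rfl | rfl <;> rcases h.elems h2 hy with rfl | rfl | rfl | rfl <;>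
    first
    | rfl
    | rw [mul_one, one_mul]
    | rw [e1]
    | rw [e2]
    | rw [e3]

theorem Syl.c_cases : 4 ≤ orderOf c ∨ orderOf c = 2 := by
  obtain ⟨m, hm⟩ := h.oc
  rcases m with _ | m
  · right; rw [hm]; rfl
  · left
    rw [hm, pow_succ, pow_succ]
    have : 0 < 2 ^ m := by positivity
    omega

/-- the `A₄` case -/
theorem Syl.concl_of_normal (h2 : orderOf c = 2) (hn : (S : Subgroup G).Normal)
    (h12 : Nat.card G = 12) : Concl G := by
  classical
  have hyp := h.toHyp
  have hS4 : Nat.card S = 4 := by rw [h.cS, h2]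
  have hnt : normalizer ((S : Subgroup G) : Set G) = ⊤ := normalizer_eq_top_iff.2 hn
  -- an element of order 3 centralises no involution of S
  have hfix : ∀ y : G, orderOf y = 3 → ∀ v ∈ S, v ≠ 1 → y * v ≠ v * y := by
    intro y hy v hv hv1 hyv
    have hv2 : orderOf v = 2 := by
      apply order_of_mul_self _ hv1
      rcases h.elems h2 hv with rfl | rfl | rfl | rfl
      · rw [mul_one]
      · exact hyp.tt
      · exact hyp.ss
      · calc t * s * (t * s) = t * (s * t) * s := by group
          _ = (t * t) * (s * s) := by rw [hyp.st]; group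
          _ = 1 := by rw [hyp.tt, hyp.ss, mul_one]
    obtain ⟨g, hg⟩ := hyp.exists_conj hv2
    have h3 : g⁻¹ * y * g * t = t * (g⁻¹ * y * g) := by
      rw [hg] at hyv
      calc g⁻¹ * y * g * t = g⁻¹ * (y * (g * t * g⁻¹)) * g := by group
        _ = g⁻¹ * (g * t * g⁻¹ * y) * g := by rw [hyv]
        _ = t * (g⁻¹ * y * g) := by group
    have h4 : g⁻¹ * y * g ∈ S := h.stab h2 (by rw [hnt]; exact mem_top _) h3
    have h5 : orderOf (g⁻¹ * y * g) ∣ Nat.card S := by
      have := orderOf_dvd_natCard (⟨_, h4⟩ : S)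
      rwa [Subgroup.orderOf_mk] at this
    have h6 : orderOf (g⁻¹ * y * g) = orderOf y := by
      have := order_conj g⁻¹ y
      rwa [inv_inv] at this
    rw [h6, hy, hS4] at h5
    omega
  have hsub : ∀ C : Subgroup G, C ⊓ (S : Subgroup G) = ⊥ → Nat.card C ≤ 3 := by
    intro C hC
    have hinj : Function.Injective (fun x : C => (QuotientGroup.mk (x : G) : G ⧸ (S : Subgroup G))) := by
      intro x y hxy
      rw [QuotientGroup.eq] at hxy
      have h3 : (x : G)⁻¹ * (y : G) ∈ C ⊓ (S : Subgroup G) := ⟨C.mul_mem (C.inv_mem x.2) y.2, hxy⟩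
      rw [hC, mem_bot, inv_mul_eq_one] at h3
      exact Subtype.ext h3
    have h3 := Nat.card_le_card_of_injective _ hinj
    have h4 := (S : Subgroup G).card_mul_index
    rw [h12, show Nat.card (S : Subgroup G) = 4 from hS4] at h4
    have h5 : Nat.card (G ⧸ (S : Subgroup G)) = (S : Subgroup G).index := rfl
    omega
  have : Fact (Nat.Prime 3) := ⟨Nat.prime_three⟩
  obtain ⟨x, hx⟩ := exists_prime_orderOf_dvd_card' (G := G) 3 (by rw [h12]; norm_num)
  have hQ : Nat.card (zpowers x) = 3 := by rw [Nat.card_zpowers, hx]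
  have hinf : ∀ y : G, orderOf y = 3 → Subgroup.centralizer ({y} : Set G) ⊓ (S : Subgroup G) = ⊥ := by
    intro y hy
    rw [Subgroup.eq_bot_iff_forall]
    rintro v ⟨hv1, hv2⟩
    by_contra hv
    apply hfix y hy v hv2 hv
    exact (mem_centralizer_singleton_iff.1 hv1).symm
  refine ⟨zpowers x, ⊥, ?_, ?_, ?_, ?_, inf_bot_eq _, ?_, ?_⟩
  · rw [hQ, h12]
  · intro y hy hy1
    have hy3 : orderOf y = 3 := by
      have h3 : orderOf y ∣ 3 := by
        rw [← hx]; exact orderOf_dvd_of_mem_zpowers hy
      rcases (Nat.dvd_prime Nat.prime_three).1 h3 with h4 | h4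
      · rw [orderOf_eq_one_iff] at h4; exact absurd h4 hy1
      · exact h4
    symm
    apply Subgroup.eq_of_le_of_card_ge
    · intro w hw
      rw [mem_centralizer_singleton_iff]
      obtain ⟨i, rfl⟩ := mem_zpowers_iff.1 hw
      obtain ⟨j, rfl⟩ := mem_zpowers_iff.1 hy
      rw [← zpow_add, ← zpow_add, add_comm]
    · rw [hQ]
      exact hsub _ (hinf y hy3)
  · constructor; constructor
    rintro ⟨a, ha⟩ ⟨b, hb⟩
    rw [mem_bot] at ha hb
    subst ha; subst hb; rfl
  · rw [hQ, Subgroup.card_bot]
  · rw [sup_bot_eq]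
    symm
    apply Subgroup.eq_of_le_of_card_ge le_normalizer
    rw [hQ]
    apply hsub
    rw [Subgroup.eq_bot_iff_forall]
    rintro v ⟨hv1, hv2⟩
    have h3 : v * x * v⁻¹ ∈ zpowers x := ((mem_normalizer_iff.1 hv1) x).1 (mem_zpowers x)
    have h4 : v * x * v⁻¹ * x⁻¹ ∈ zpowers x := mul_mem h3 (inv_mem (mem_zpowers x))
    have h5 : v * x * v⁻¹ * x⁻¹ ∈ (S : Subgroup G) := by
      have : v * x * v⁻¹ * x⁻¹ = v * (x * v⁻¹ * x⁻¹) := by group
      rw [this]
      exact mul_mem hv2 (hn.conj_mem _ (inv_mem hv2) x)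
    have h6 : v * x * v⁻¹ * x⁻¹ = 1 := by
      rw [← orderOf_eq_one_iff]
      have e1 : orderOf (v * x * v⁻¹ * x⁻¹) ∣ 3 := by
        rw [← hx]; exact orderOf_dvd_of_mem_zpowers h4
      have e2 : orderOf (v * x * v⁻¹ * x⁻¹) ∣ 4 := by
        have := orderOf_dvd_natCard (⟨_, h5⟩ : (S : Subgroup G))
        rwa [Subgroup.orderOf_mk, show Nat.card (S : Subgroup G) = 4 from hS4] at this
      have := Nat.dvd_gcd e1 e2
      norm_num at this
      exact orderOf_eq_one_iff.2 this
    by_contra hv
    apply hfix x hx v hv2 hv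
    calc x * v = (v * x * v⁻¹ * x⁻¹)⁻¹ * (v * x) := by group
      _ = v * x := by rw [h6]; group
  · intro X hX hX1
    rw [le_bot_iff] at hX
    exact absurd hX hX1

/-- the dichotomy -/
theorem Syl.top_or {N : Subgroup G} [hN : N.Normal] (hne : N ≠ ⊥) : N = ⊤ ∨ Concl G := by
  classical
  have hyp := h.toHyp
  have hSN := h.le_of_normal hne
  have hprime : Fact (Nat.Prime 2) := ⟨Nat.prime_two⟩
  have hfr : normalizer ((S : Subgroup G) : Set G) ⊔ N = ⊤ := Sylow.normalizer_sup_eq_top' S hSN
  rcases h.c_cases with h4 | h2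
  · left
    rw [← hfr, eq_comm, sup_eq_right]
    intro g hg
    exact hyp.le_of_normal hne (h.norm_big h4 hg)
  · by_cases hT : N = ⊤
    · exact Or.inl hT
    right
    have hS4 : Nat.card S = 4 := by rw [h.cS, h2]
    have hr := h.relIndex_le h2
    have hodd : ¬ 2 ∣ (S : Subgroup G).relIndex (normalizer ((S : Subgroup G) : Set G)) := by
      intro h3
      exact S.not_dvd_index (h3.trans (relIndex_dvd_index_of_le le_normalizer))
    have hle1 : (S : Subgroup G) ≤ N ⊓ normalizer ((S : Subgroup G) : Set G) := le_inf hSN le_normalizer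
    have hmul := relIndex_mul_relIndex _ _ _ hle1 (inf_le_right : N ⊓ normalizer ((S : Subgroup G) : Set G) ≤ _)
    have hne1 : (N ⊓ normalizer ((S : Subgroup G) : Set G)).relIndex (normalizer ((S : Subgroup G) : Set G)) ≠ 1 := by
      intro h3
      rw [relIndex_eq_one] at h3
      apply hT
      rw [← hfr, eq_comm, sup_eq_right]
      exact h3.trans inf_le_left
    set r := (S : Subgroup G).relIndex (normalizer ((S : Subgroup G) : Set G)) with hrdef
    set a := (S : Subgroup G).relIndex (N ⊓ normalizer ((S : Subgroup G) : Set G)) with hadef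
    set b := (N ⊓ normalizer ((S : Subgroup G) : Set G)).relIndex (normalizer ((S : Subgroup G) : Set G)) with hbdef
    have hr0 : r ≠ 0 := index_ne_zero_of_finite
    have hr3 : r = 3 ∧ a = 1 := by
      have hr' : r = 1 ∨ r = 3 := by
        have : r ≠ 2 := by rintro h3; rw [h3] at hodd; exact hodd (dvd_refl 2)
        omega
      have hb : b ∣ r := ⟨a, by rw [← hmul, mul_comm]⟩
      rcases hr' with h3 | h3
      · rw [h3, Nat.dvd_one] at hb; exact absurd hb hne1
      · refine ⟨h3, ?_⟩
        rw [h3] at hb hmul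
        rcases (Nat.dvd_prime Nat.prime_three).1 hb with h5 | h5
        · exact absurd h5 hne1
        · rw [h5] at hmul; omega
    have hNS : N ⊓ normalizer ((S : Subgroup G) : Set G) ≤ (S : Subgroup G) := by
      have := hr3.2
      rw [hadef, relIndex_eq_one] at this
      exact this
    -- Burnside
    let P : Sylow 2 N := S.subtype hSN
    have hP : normalizer ((P : Subgroup N) : Set N) ≤ Subgroup.centralizer ((P : Subgroup N) : Set N) := by
      intro x hx
      have hxS : (x : G) ∈ (S : Subgroup G) := by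
        apply hNS
        refine ⟨x.2, ?_⟩
        show (x : G) ∈ normalizer ((S : Subgroup G) : Set G)
        rw [mem_normalizer_iff] at hx ⊢
        intro y
        constructor
        · intro hy
          exact (hx ⟨y, hSN hy⟩).1 hy
        · intro hy
          have hyN : y ∈ N := by
            have h3 := hN.conj_mem _ (hSN hy) (x : G)⁻¹
            have h5 : (x : G)⁻¹ * ((x : G) * y * (x : G)⁻¹) * ((x : G)⁻¹)⁻¹ = y := by group
            rwa [h5] at h3
          exact (hx ⟨y, hyN⟩).2 hy
      rw [mem_centralizer_iff]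
      intro y hy
      apply Subtype.ext
      exact h.comm h2 (show (y : G) ∈ S from hy) hxS
    have hcompl := MonoidHom.ker_transferSylow_isComplement' P hP
    have hnd := MonoidHom.not_dvd_card_ker_transferSylow P hP
    set Mk := (MonoidHom.transferSylow P hP).ker with hMk
    have hMkodd : Odd (Nat.card Mk) := by
      rw [← Nat.not_even_iff_odd, even_iff_two_dvd]; exact hnd
    have hmemMk : ∀ x : N, Odd (orderOf x) → x ∈ Mk := by
      intro x hx
      rw [hMk, MonoidHom.mem_ker, ← orderOf_eq_one_iff]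
      have e1 : orderOf (MonoidHom.transferSylow P hP x) ∣ orderOf x := orderOf_map_dvd _ _
      obtain ⟨n, hn⟩ := P.isPGroup' (MonoidHom.transferSylow P hP x)
      obtain ⟨k, -, hk⟩ := (Nat.dvd_prime_pow Nat.prime_two).1 (orderOf_dvd_of_pow_eq_one hn)
      have hodd' := Odd.of_dvd_nat hx e1
      rw [hk] at hodd' ⊢
      rcases k with _ | k
      · rfl
      · exfalso
        rw [pow_succ] at hodd'
        exact absurd hodd' (by simp)
    have hMn : (Mk.map N.subtype).Normal := by
      constructor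
      rintro _ ⟨x, hx, rfl⟩ g
      refine ⟨⟨g * x * g⁻¹, hN.conj_mem _ x.2 g⟩, ?_, rfl⟩
      apply hmemMk
      have e1 : orderOf (⟨g * x * g⁻¹, hN.conj_mem _ x.2 g⟩ : N) = orderOf x := by
        rw [Subgroup.orderOf_mk, order_conj, Subgroup.orderOf_coe]
      rw [e1]
      have e2 : orderOf x ∣ Nat.card Mk := by
        have := orderOf_dvd_natCard (⟨x, hx⟩ : Mk)
        rwa [Subgroup.orderOf_mk] at this
      exact Odd.of_dvd_nat hMkodd e2
    have hMbot := hyp.odd_normal (N := Mk.map N.subtype) (by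
      rw [Subgroup.card_map_of_injective (Subgroup.subtype_injective _)]; exact hMkodd)
    rw [Subgroup.map_eq_bot_iff_of_injective _ (Subgroup.subtype_injective _)] at hMbot
    have hcard := hcompl.card_mul
    rw [hMbot, Subgroup.card_bot, one_mul] at hcard
    have hPc : Nat.card P = Nat.card S := by
      have : Nat.card P = Nat.card ((S : Subgroup G).subgroupOf N) := rfl
      rw [this]
      exact Nat.card_congr (Subgroup.subgroupOfEquivOfLe hSN).toEquiv
    have hSeq : (S : Subgroup G) = N := by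
      apply Subgroup.eq_of_le_of_card_ge hSN
      rw [← hcard]
      exact hPc.le
    have hSn : (S : Subgroup G).Normal := by rw [hSeq]; exact hN
    apply h.concl_of_normal h2 hSn
    have h5 := hr3.1
    rw [hrdef, normalizer_eq_top_iff.2 hSn, relIndex_top_right] at h5
    rw [← (S : Subgroup G).card_mul_index, h5, show Nat.card (S : Subgroup G) = 4 from hS4]

/-- the simple case -/
theorem Syl.concl_of_simple (hs : ∀ N : Subgroup G, N.Normal → N ≠ ⊥ → N = ⊤) : Concl G := by
  classical
  have hyp := h.toHyp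
  have hperf : Group.IsPerfect G := by
    rw [Group.isPerfect_def]
    by_cases hb : commutator G = ⊥
    · exfalso
      have hab : ∀ x y : G, x * y = y * x := by
        intro x y
        have h1 : ⁅x, y⁆ ∈ commutator G := Subgroup.commutator_mem_commutator (mem_top x) (mem_top y)
        rw [hb, mem_bot, commutatorElement_eq_one_iff_mul_comm] at h1
        exact h1
      have hKn : K.Normal := ⟨fun n hn g => by
        rw [hab g n, mul_assoc, mul_inv_cancel, mul_one]; exact hn⟩
      have hKne : K ≠ ⊥ := by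
        intro h1
        have := hyp.tK
        rw [h1, mem_bot] at this
        exact hyp.t1 this
      have := hs K hKn hKne
      exact hyp.sK (by rw [this]; exact mem_top _)
    · exact hs _ inferInstance hb
  have hcore : Cfsg.oddCore G = ⊥ := by
    show sSup _ = ⊥
    rw [sSup_eq_bot]
    rintro N ⟨hN, hco⟩
    have := hN
    apply hyp.odd_normal
    rwa [← Nat.coprime_two_right]
  have e0 : G ⧸ Cfsg.oddCore G ≃* G := by
    refine (QuotientGroup.quotientMulEquivOfEq hcore).trans QuotientGroup.quotientBot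
  have h2c : 2 ≤ orderOf c := by
    rcases h.c_cases with h1 | h1 <;> omega
  rcases Cfsg.Agent.S0483.result S (orderOf c) h2c h.dih with ⟨F, iF, iFt, hodd, -, ⟨e⟩⟩ | he
  · exact (concl F hodd).transport (e.symm.trans e0)
  · exfalso
    obtain ⟨e⟩ := he
    let f : alternatingGroup (Fin 7) ≃* G := e.symm.trans e0
    obtain ⟨v, x, y, hv, hv1, hxv, hx3, hx1, hxy, hyv⟩ := alt_seven
    have hfv : orderOf (f v) = 2 := by
      rw [MulEquiv.orderOf_eq]; exact order_of_mul_self hv hv1
    obtain ⟨g, hg⟩ := hyp.exists_conj hfv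
    have h3 : g⁻¹ * f x * g * t = t * (g⁻¹ * f x * g) := by
      have h4 : f x * f v = f v * f x := by rw [← map_mul, hxv, map_mul]
      rw [hg] at h4
      calc g⁻¹ * f x * g * t = g⁻¹ * (f x * (g * t * g⁻¹)) * g := by group
        _ = g⁻¹ * (g * t * g⁻¹ * f x) * g := by rw [h4]
        _ = t * (g⁻¹ * f x * g) := by group
    have hne : g⁻¹ * f x * g ≠ 1 := by
      intro h4
      apply hx1
      apply f.injective
      rw [map_one]
      calc f x = g * (g⁻¹ * f x * g) * g⁻¹ := by group
        _ = 1 := by rw [h4]; group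
    have hord : Odd (orderOf (g⁻¹ * f x * g)) := by
      have h4 : (g⁻¹ * f x * g) ^ 3 = 1 := by
        have h5 : f x * f x * f x = 1 := by rw [← map_mul, ← map_mul, hx3, map_one]
        calc (g⁻¹ * f x * g) ^ 3 = g⁻¹ * (f x * f x * f x) * g := by
              rw [pow_succ, pow_two]; group
          _ = 1 := by rw [h5]; group
      exact Odd.of_dvd_nat (by decide) (orderOf_dvd_of_pow_eq_one h4)
    have hxK := hyp.odd_mem h3 hord
    have h5 : g⁻¹ * f y * g * (g⁻¹ * f x * g) = (g⁻¹ * f x * g) * (g⁻¹ * f y * g) := by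
      have h6 : f x * f y = f y * f x := by rw [← map_mul, hxy, map_mul]
      calc g⁻¹ * f y * g * (g⁻¹ * f x * g) = g⁻¹ * (f y * f x) * g := by group
        _ = g⁻¹ * (f x * f y) * g := by rw [h6]
        _ = (g⁻¹ * f x * g) * (g⁻¹ * f y * g) := by group
    have h7 := hyp.cent hxK hne h5
    apply hyv
    apply f.injective
    rw [map_mul, map_mul, hg]
    calc f y * (g * t * g⁻¹) = g * (g⁻¹ * f y * g * t) * g⁻¹ := by group
      _ = g * (t * (g⁻¹ * f y * g)) * g⁻¹ := by rw [h7]
      _ = g * t * g⁻¹ * f y := by group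

end

theorem concl_of_hyp {G : Type*} [Group G] [Finite G] {t s : G} {K : Subgroup G} (h : Hyp t s K) :
    Concl G := by
  obtain ⟨c, h1, h2, h3, h4, S, h5, h6, h7⟩ := h.exists_sylow
  have hS : Syl t s K c S := ⟨h, h1, h2, h3, h4, h5, h6, h7⟩
  by_cases hs : ∀ N : Subgroup G, N.Normal → N ≠ ⊥ → N = ⊤
  · exact hS.concl_of_simple hs
  · push Not at hs
    obtain ⟨N, hN, hne, hT⟩ := hs
    exact (hS.top_or hne).resolve_left hT

end Cfsg.Agent.H329.BSW
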