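import Cfsg.Agent.H329.DescSplit
import Cfsg.Agent.ThreePrime.AutQuot

/-!
# The almost simple group with a split (B,N)-pair attached to a normal quasisimple subgroup (helper329)

`K` has a split (B,N)-pair of characteristic `p`, `x` is an automorphism of `K` of prime order `r ≠ p`, `H = C_K(x)`, `A`
a quasisimple normal subgroup of `H` contained in the group `Hp p H` generated by the `p`-elements, `Q = A / Z(A)`.
`exists_almost`: the image `Y` of `Hp p H` in `Aut(Q)` contains `Inn(Q)`, has no proper normal subgroup of index prime to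
`p`, and satisfies `HasSplit p Y`. The `p`-elements of `H` are not assumed to induce inner automorphisms of `Q`.
-/

set_option autoImplicit false
set_option linter.unusedSectionVars false

open scoped Pointwise

namespace Cfsg.Agent.H329.CompSplit

open Cfsg Subgroup

section Almost

variable {Q : Type*} [Group Q] [hQ : IsSimpleGroup Q] (Y : Subgroup (MulAut Q))

/-- A non-trivial normal subgroup of a group between `Inn(Q)` and `Aut(Q)` contains `Inn(Q)`. -/
theorem inn_le (hI : (MulAut.conj : Q →* MulAut Q).range ≤ Y) (M : Subgroup Y) (hM : M.Normal) (hne : M ≠ ⊥) (q : Q) :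
    (⟨MulAut.conj q, hI ⟨q, rfl⟩⟩ : Y) ∈ M := by
  let ι : Q →* Y := (MulAut.conj : Q →* MulAut Q).codRestrict Y fun q => hI ⟨q, rfl⟩
  have hn : (M.comap ι).Normal := inferInstance
  rcases hQ.eq_bot_or_eq_top_of_normal _ hn with h | h
  · exfalso
    apply hne
    rw [eq_bot_iff]
    intro α hα
    have h2 : ∀ q : Q, (α : MulAut Q) q = q := by
      intro q
      have h3 : (α : MulAut Q) q * q⁻¹ ∈ M.comap ι := by
        rw [mem_comap]
        have h4 : α * (ι q * α⁻¹ * (ι q)⁻¹) ∈ M := mul_mem hα (hM.conj_mem _ (inv_mem hα) _)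
        have e1 : ι ((α : MulAut Q) q * q⁻¹) = α * (ι q * α⁻¹ * (ι q)⁻¹) := by
          apply Subtype.ext
          change MulAut.conj ((α : MulAut Q) q * q⁻¹) =
            (α : MulAut Q) * (MulAut.conj q * (α : MulAut Q)⁻¹ * (MulAut.conj q)⁻¹)
          have e2 : MulAut.conj ((α : MulAut Q) q) = (α : MulAut Q) * MulAut.conj q * (α : MulAut Q)⁻¹ := by
            ext y
            simp only [MulAut.conj_apply, MulAut.mul_apply, map_mul, map_inv, MulAut.apply_inv_self]
          rw [map_mul, e2, map_inv]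
          group
        rw [e1]; exact h4
      rw [h, mem_bot, mul_inv_eq_one] at h3
      exact h3
    rw [mem_bot]
    apply Subtype.ext
    ext y
    exact h2 y
  · have h2 : q ∈ M.comap ι := by rw [h]; trivial
    exact h2

variable (hna : ¬ IsMulCommutative Q)

include hna

theorem conj_injective : Function.Injective (MulAut.conj : Q →* MulAut Q) := by
  rw [← MonoidHom.ker_eq_bot_iff]
  rcases hQ.eq_bot_or_eq_top_of_normal _ (inferInstance : (MulAut.conj : Q →* MulAut Q).ker.Normal) with h | h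
  · exact h
  · exfalso
    apply hna
    refine ⟨⟨fun a b => ?_⟩⟩
    have h2 : a ∈ (MulAut.conj : Q →* MulAut Q).ker := by rw [h]; trivial
    have h3 := congrArg (fun α : MulAut Q => α b) (MonoidHom.mem_ker.1 h2)
    have h4 : a * b * a⁻¹ = b := h3
    exact mul_inv_eq_iff_eq_mul.1 h4

theorem center_eq (hI : (MulAut.conj : Q →* MulAut Q).range ≤ Y) : center Y = ⊥ := by
  by_contra hne
  apply hna
  have h1 := inn_le Y hI (center Y) inferInstance hne
  refine ⟨⟨fun a b => ?_⟩⟩
  have h2 := mem_center_iff.1 (h1 a) ⟨MulAut.conj b, hI ⟨b, rfl⟩⟩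
  have h3 : MulAut.conj (b * a) = MulAut.conj (a * b) := by
    rw [map_mul, map_mul]
    exact congrArg Subtype.val h2
  exact (conj_injective hna h3).symm

theorem eq_bot_of_isPGroup [Finite Q] {p : ℕ} [hp : Fact p.Prime] (hI : (MulAut.conj : Q →* MulAut Q).range ≤ Y)
    (M : Subgroup Y) (hM : M.Normal) (hMp : IsPGroup p M) : M = ⊥ := by
  by_contra hne
  have h1 := inn_le Y hI M hM hne
  have hQp : IsPGroup p Q := by
    intro q
    obtain ⟨k, hk⟩ := hMp ⟨_, h1 q⟩
    refine ⟨k, conj_injective hna ?_⟩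
    rw [map_pow, map_one]
    have h2 := congrArg (fun m : M => ((m : Y) : MulAut Q)) hk
    simpa using h2
  have hnil : Group.IsNilpotent Q := hQp.isNilpotent
  have hc : center Q ≠ ⊥ := by
    have := hQp.center_nontrivial
    exact (nontrivial_iff_ne_bot _).1 this
  rcases hQ.eq_bot_or_eq_top_of_normal _ (inferInstance : (center Q).Normal) with h | h
  · exact hc h
  · apply hna
    refine ⟨⟨fun a b => ?_⟩⟩
    have h2 : b ∈ center Q := by rw [h]; trivial
    exact mem_center_iff.1 h2 a

end Almost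

section Comp

open Cfsg.Agent.H283.Desc Cfsg.Agent.BpGate Cfsg.Agent.ThreePrime.AutQuot
open Cfsg.Agent.FixBN (Split HasSplit)
open Cfsg.Agent.H329.DescSplit

variable {H : Type*} [Group H] [Finite H] {p : ℕ} [hp : Fact p.Prime]

/-- the action of `H` on `A / Z(A)` -/
noncomputable def act (A : Subgroup H) [A.Normal] : H →* MulAut (↥A ⧸ center ↥A) :=
  (autQuot ↥A).comp MulAut.conjNormal

theorem act_mem (A : Subgroup H) [A.Normal] (j : ↥A) : act A (j : H) = MulAut.conj (QuotientGroup.mk j) := by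
  have h1 : (MulAut.conjNormal (j : H) : MulAut ↥A) = MulAut.conj j := by
    ext y
    rw [MulAut.conjNormal_apply]
    rfl
  unfold act
  rw [MonoidHom.comp_apply, h1, autQuot_conj]

/-- the image of the group generated by the `p`-elements -/
noncomputable def YY (p : ℕ) (A : Subgroup H) [A.Normal] : Subgroup (MulAut (↥A ⧸ center ↥A)) :=
  ((act A).comp (Hp p H).subtype).range

theorem inn_le_YY (A : Subgroup H) [A.Normal] (hle : A ≤ Hp p H) :
    (MulAut.conj : (↥A ⧸ center ↥A) →* MulAut (↥A ⧸ center ↥A)).range ≤ YY p A := by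
  rintro _ ⟨q, rfl⟩
  obtain ⟨j, rfl⟩ := QuotientGroup.mk_surjective q
  exact ⟨⟨(j : H), hle j.2⟩, act_mem A j⟩

/-- `Y` has no proper normal subgroup of index prime to `p`. -/
theorem eq_top_of_index (A : Subgroup H) [A.Normal] (M : Subgroup (YY p A)) (hM : M.Normal) (hi : ¬ p ∣ M.index) :
    M = ⊤ := by
  let f : ↥(Hp p H) →* ↥(YY p A) := ((act A).comp (Hp p H).subtype).rangeRestrict
  have hfs : Function.Surjective f := MonoidHom.rangeRestrict_surjective _
  have : Finite (YY p A) := Finite.of_surjective f hfs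
  have h1 : Hp p H ≤ (M.comap f).map (Hp p H).subtype := by
    refine iSup_le fun b => ?_
    intro u hu
    refine ⟨⟨u, le_Hp b hu⟩, ?_, rfl⟩
    change f ⟨u, le_Hp b hu⟩ ∈ M
    obtain ⟨k, hk⟩ := b.isPGroup' ⟨u, hu⟩
    have h2 : (⟨u, le_Hp b hu⟩ : ↥(Hp p H)) ^ p ^ k = 1 := by
      apply Subtype.ext
      simpa using congrArg Subtype.val hk
    rw [← QuotientGroup.eq_one_iff]
    set y : YY p A ⧸ M := QuotientGroup.mk (f ⟨u, le_Hp b hu⟩) with hy
    have h3 : y ^ p ^ k = 1 := by
      rw [hy, ← QuotientGroup.mk_pow, ← map_pow, h2, map_one, QuotientGroup.mk_one]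
    have h4 : orderOf y ∣ M.index := by
      rw [index_eq_card]; exact orderOf_dvd_natCard y
    obtain ⟨j, -, hj⟩ := (Nat.dvd_prime_pow hp.out).1 (orderOf_dvd_of_pow_eq_one h3)
    rcases Nat.eq_zero_or_pos j with h0 | h0
    · rw [h0, pow_zero] at hj
      exact orderOf_eq_one_iff.1 hj
    · exfalso
      apply hi
      exact (dvd_pow_self p h0.ne').trans (hj ▸ h4)
  rw [eq_top_iff]
  intro y _
  obtain ⟨g, rfl⟩ := hfs y
  obtain ⟨g', hg', hgg⟩ := h1 g.2
  have h4 : g' = g := Subtype.ext hgg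
  rw [h4] at hg'
  exact hg'

/-- **HasSplit** for the almost simple group of a normal quasisimple subgroup, gate system form. -/
theorem hasSplit_YY {Pa : Set (Set (Sylow p H))} {d : Sylow p H → Sylow p H → ℕ} {Bs : Sylow p H → Subgroup H}
    (hD : DSys Pa d Bs) {a c : Sylow p H} (h1 : m a c = 1) (A : Subgroup H) [A.Normal] (hA : IsQuasisimple ↥A)
    (hle : A ≤ Hp p H) : HasSplit p (YY p A) := by
  have hs : IsSimpleGroup (↥A ⧸ center ↥A) := hA.2
  have hperf : Group.IsPerfect (↥A ⧸ center ↥A) := by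
    have := hA.1
    exact Group.IsPerfect.ofSurjective (QuotientGroup.mk'_surjective (Subgroup.center ↥A))
  have hna : ¬ IsMulCommutative (↥A ⧸ center ↥A) := by
    intro h
    have hsol : Group.IsSolvable (↥A ⧸ center ↥A) := Group.isSolvable_of_comm fun a b => h.is_comm.comm a b
    exact Group.IsPerfect.not_isSolvable (↥A ⧸ center ↥A) hsol
  have hI := inn_le_YY (p := p) A hle
  have hnt : Nontrivial (YY p A) := by
    obtain ⟨q, hq⟩ := exists_ne (1 : ↥A ⧸ center ↥A)
    refine ⟨⟨⟨MulAut.conj q, hI ⟨q, rfl⟩⟩, 1, fun h => hq ?_⟩⟩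
    apply conj_injective hna
    rw [map_one]
    exact congrArg Subtype.val h
  exact hasSplit_quo hD h1 (f := ((act A).comp (Hp p H).subtype).rangeRestrict)
    (MonoidHom.rangeRestrict_surjective _) (fun M hM hMp => eq_bot_of_isPGroup _ hna hI M hM hMp)
    (center_eq _ hna hI)

/-- `A ≤ Hp`, if `p` divides the order of the simple quotient. -/
theorem le_Hp_of_dvd {A : Subgroup H} (hA : IsQuasisimple ↥A) (hd : p ∣ Nat.card ↥A) (hAn : A.Normal) :
    A ≤ Hp p H := by
  have hs : IsSimpleGroup (↥A ⧸ center ↥A) := hA.2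
  have hHn : (Hp p H).Normal := Hp_normal
  -- `A ∩ Hp` is normal in `A`
  set N : Subgroup ↥A := (Hp p H).subgroupOf A with hN
  have hNn : N.Normal := inferInstance
  have hcase : N ≤ center ↥A ∨ ∀ y : ↥A, ∃ n ∈ N, ∃ z ∈ center ↥A, y = n * z := by
    have h2 : (N.map (QuotientGroup.mk' (center ↥A))).Normal := hNn.map _ (QuotientGroup.mk'_surjective _)
    rcases hs.eq_bot_or_eq_top_of_normal _ h2 with h | h
    · left
      have h3 := (Subgroup.map_eq_bot_iff _).1 h
      rwa [QuotientGroup.ker_mk'] at h3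
    · right
      intro y
      have h3 : (QuotientGroup.mk' (center ↥A)) y ∈ N.map (QuotientGroup.mk' (center ↥A)) := by rw [h]; trivial
      obtain ⟨n, hn, hny⟩ := h3
      have h4 : n⁻¹ * y ∈ center ↥A := QuotientGroup.eq.1 hny
      exact ⟨n, hn, _, h4, by group⟩
  have hidx : ¬ p ∣ N.index := by
    intro h
    -- a Sylow `p`-subgroup of `A` lies in `N`
    obtain ⟨P⟩ := (inferInstance : Nonempty (Sylow p ↥A))
    have hPN : (P : Subgroup ↥A) ≤ N := by
      intro u hu
      obtain ⟨b, hb⟩ := (P.isPGroup'.map A.subtype).exists_le_sylow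
      exact le_Hp b (hb ⟨u, hu, rfl⟩)
    have h2 := P.not_dvd_index
    exact h2 (h.trans (index_dvd_of_le hPN))
  have hperf := hA.1
  rcases hcase with h | h
  · -- `A / Z(A)` is a `p'`-group
    exfalso
    have hZidx : ¬ p ∣ (center ↥A).index := fun h2 => hidx (h2.trans (index_dvd_of_le h))
    -- the Sylow `p`-subgroup of `A` is central, so `A` is `p`-nilpotent
    obtain ⟨P⟩ := (inferInstance : Nonempty (Sylow p ↥A))
    have hPZ : (P : Subgroup ↥A) ≤ center ↥A := by
      intro u hu
      obtain ⟨k, hk⟩ := P.isPGroup' ⟨u, hu⟩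
      have h2 : u ^ p ^ k = 1 := by simpa using congrArg Subtype.val hk
      rw [← QuotientGroup.eq_one_iff]
      set y : ↥A ⧸ center ↥A := QuotientGroup.mk u with hy
      have h3 : y ^ p ^ k = 1 := by rw [hy, ← QuotientGroup.mk_pow, h2, QuotientGroup.mk_one]
      have h4 : orderOf y ∣ (center ↥A).index := by
        rw [index_eq_card]; exact orderOf_dvd_natCard y
      obtain ⟨j, -, hj⟩ := (Nat.dvd_prime_pow hp.out).1 (orderOf_dvd_of_pow_eq_one h3)
      rcases Nat.eq_zero_or_pos j with h0 | h0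
      · rw [h0, pow_zero] at hj
        exact orderOf_eq_one_iff.1 hj
      · exact absurd ((dvd_pow_self p h0.ne').trans (hj ▸ h4)) hZidx
    have hNC : Subgroup.normalizer ((P : Subgroup ↥A) : Set ↥A) ≤ centralizer ((P : Subgroup ↥A) : Set ↥A) := by
      intro y _
      rw [mem_centralizer_iff]
      intro u hu
      exact ((mem_center_iff.1 (hPZ hu)) y).symm
    have h2 := MonoidHom.not_dvd_card_ker_transferSylow P hNC
    have h3 : commutator ↥A ≤ (MonoidHom.transferSylow P hNC).ker := by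
      rw [_root_.commutator_def, Subgroup.commutator_le]
      intro a _ b _
      rw [MonoidHom.mem_ker, map_commutatorElement, commutatorElement_eq_one_iff_mul_comm]
      have : IsMulCommutative ↥(P : Subgroup ↥A) := ⟨⟨fun u v => Subtype.ext (mem_center_iff.1 (hPZ v.2) u)⟩⟩
      exact this.is_comm.comm _ _
    rw [hperf.commutator_eq_top, top_le_iff] at h3
    rw [h3, card_top] at h2
    exact h2 hd
  · -- `A = N Z(A)` is perfect
    have h2 : commutator ↥A ≤ N := by
      rw [_root_.commutator_def, Subgroup.commutator_le]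
      intro a _ b _
      obtain ⟨n, hn, z, hz, rfl⟩ := h a
      obtain ⟨n', hn', z', hz', rfl⟩ := h b
      have hzz := mem_center_iff.1 hz
      have hzz' := mem_center_iff.1 hz'
      have e1 : n * z * (n' * z') * (n * z)⁻¹ * (n' * z')⁻¹ = n * n' * n⁻¹ * n'⁻¹ := by
        rw [mul_inv_rev, mul_inv_rev]
        have e2 : n * z * (n' * z') * (z⁻¹ * n⁻¹) * (z'⁻¹ * n'⁻¹) = n * (z * n') * z' * z⁻¹ * n⁻¹ * z'⁻¹ * n'⁻¹ := by
          group
        rw [e2, ← hzz n']
        have e3 : n * (n' * z) * z' * z⁻¹ * n⁻¹ * z'⁻¹ * n'⁻¹ = n * n' * (z * z') * z⁻¹ * n⁻¹ * z'⁻¹ * n'⁻¹ := by group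
        rw [e3, hzz' z]
        have e4 : n * n' * (z' * z) * z⁻¹ * n⁻¹ * z'⁻¹ * n'⁻¹ = n * n' * (z' * n⁻¹) * z'⁻¹ * n'⁻¹ := by group
        rw [e4, ← hzz' n⁻¹]
        group
      rw [commutatorElement_def, e1]
      exact mul_mem (mul_mem (mul_mem hn hn') (inv_mem hn)) (inv_mem hn')
    rw [hperf.commutator_eq_top, top_le_iff] at h2
    intro y hy
    have h3 : (⟨y, hy⟩ : ↥A) ∈ N := by rw [h2]; trivial
    exact h3

end Comp

section Main

open Cfsg.Agent.H283.Desc Cfsg.Agent.BpGate Cfsg.Agent.BpTab Cfsg.Agent.Schreier.Basic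
open Cfsg.Agent.FixBN (Split HasSplit)

/-- **The almost simple group of a normal quasisimple subgroup of `C_K(x)`.** -/
theorem exists_almost {K : Type*} [Group K] [Finite K] {p r : ℕ} [hp : Fact p.Prime] [hr : Fact r.Prime] (hrp : r ≠ p)
    (h : HasSplit p K) (x : MulAut K) (hx : x ^ r = 1) (A : Subgroup ↥(fixedSubgroup x)) [A.Normal]
    (hA : IsQuasisimple ↥A) (hd : p ∣ Nat.card ↥A) :
    ∃ Y : Subgroup (MulAut (↥A ⧸ center ↥A)),
      (MulAut.conj : (↥A ⧸ center ↥A) →* MulAut (↥A ⧸ center ↥A)).range ≤ Y ∧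
      (∀ M : Subgroup Y, M.Normal → ¬ p ∣ M.index → M = ⊤) ∧ HasSplit p Y := by
  obtain ⟨Pa, d, Bs, hD, a, c, hac⟩ := H283.DescInst.exists_dsys hrp h x hx
  have hle := le_Hp_of_dvd (p := p) hA hd inferInstance
  exact ⟨YY p A, inn_le_YY A hle, fun M hM hi => eq_top_of_index A M hM hi, hasSplit_YY hD hac A hA hle⟩

end Main

end Cfsg.Agent.H329.CompSplit
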