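import Cfsg.Agent.H329.ExtraSp
import Cfsg.Agent.H329.CompSplit
import Cfsg.Agent.S4168

/-!
# Components with a large extraspecial subgroup in odd characteristic (helper329)

`comp_extra` : `K` has a split (B,N)-pair of odd characteristic `p`, `x` is an involutory automorphism of `K`, `A` is a
quasisimple normal subgroup of the fixed points of `x` of order divisible by `p`, and `A/Z(A)` contains a group `E` with a
central involution `z` such that every `g ∉ {1, z}` is conjugate to `g z` in `E`, `2^(2m+1) ∣ |E|`.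
Then `2^(m+1) ∣ p^k ± 1` for some `k ≤ v_p(|Aut (A/Z(A))|)`.
-/

set_option autoImplicit false

namespace Cfsg.Agent.H329.CompExtra

open Cfsg Cfsg.Agent.FixBN Subgroup

theorem comp_extra {K : Type*} [Group K] [Finite K] {p : ℕ} [hpp : Fact p.Prime] (hp : p ≠ 2)
    (h : HasSplit p K) (x : MulAut K) (hx : x * x = 1) (A : Subgroup ↥(fixedSubgroup x)) [A.Normal]
    (hA : IsQuasisimple ↥A) (hd : p ∣ Nat.card ↥A)
    (E : Subgroup (↥A ⧸ center ↥A)) {z : E} (h1 : z ≠ 1)
    (hz : z * z = 1) (hc : ∀ x, x * z = z * x) (hco : ∀ x : E, x ≠ 1 → x ≠ z → ∃ h, h * x * h⁻¹ = x * z)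
    {m : ℕ} (hm : 2 ^ (2 * m + 1) ∣ Nat.card E) :
    ∃ k ≤ (Nat.card (MulAut (↥A ⧸ center ↥A))).factorization p,
      (k ≠ 0 ∧ 2 ^ (m + 1) ∣ p ^ k - 1) ∨ 2 ^ (m + 1) ∣ p ^ k + 1 := by
  have : Fact (Nat.Prime 2) := ⟨Nat.prime_two⟩
  have hs : IsSimpleGroup (↥A ⧸ center ↥A) := hA.2
  have hperf : Group.IsPerfect (↥A ⧸ center ↥A) := by
    have := hA.1
    exact Group.IsPerfect.ofSurjective (QuotientGroup.mk'_surjective (Subgroup.center ↥A))
  have hna : ¬ IsMulCommutative (↥A ⧸ center ↥A) := by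
    intro hcm
    have h3 : commutator (↥A ⧸ center ↥A) = ⊥ := by
      rw [commutator_def, Subgroup.commutator_eq_bot_iff_le_centralizer]
      intro a _
      rw [mem_centralizer_iff]
      intro b _
      exact hcm.is_comm.comm _ _
    have h4 : commutator (↥A ⧸ center ↥A) = ⊤ := Group.IsPerfect.commutator_eq_top
    rw [h3] at h4
    exact bot_ne_top h4
  have hdq : p ∣ Nat.card (↥A ⧸ center ↥A) := by
    rw [← Subgroup.index_eq_card]
    by_cases h2 : p ∣ Nat.card (center ↥A)
    · exact S4168.result hA p hpp.out h2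
    · rw [← Subgroup.card_mul_index (center ↥A)] at hd
      exact (hpp.out.dvd_mul.1 hd).resolve_left h2
  obtain ⟨Y, hI, -, hY⟩ := CompSplit.exists_almost (r := 2) (Ne.symm hp) h x (by rw [pow_two, hx]) A hA hd
  let ι : (↥A ⧸ center ↥A) →* ↥Y := (MulAut.conj : _ →* MulAut (↥A ⧸ center ↥A)).codRestrict Y fun q => hI ⟨q, rfl⟩
  have hι : Function.Injective ι := fun a b hab => CompSplit.conj_injective hna (congrArg Subtype.val hab)
  have hN : ∀ M : Subgroup Y, M.Normal → M ≠ ⊥ → p ∣ Nat.card M := by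
    intro M hM hne
    have h2 := CompSplit.inn_le Y hI M hM hne
    have h3 : ι.range ≤ M := by
      rintro _ ⟨q, rfl⟩
      exact h2 q
    have h4 : Nat.card ι.range = Nat.card (↥A ⧸ center ↥A) := Nat.card_congr (MonoidHom.ofInjective hι).symm.toEquiv
    exact (h4 ▸ hdq).trans (Subgroup.card_dvd_of_le h3)
  let e : E ≃* E.map ι := E.equivMapOfInjective ι hι
  obtain ⟨k, hk, hcase⟩ := ExtraSp.no_extra_pow hp hY hN (E.map ι) (z := e z) (fun h2 => h1 (e.injective (by rw [h2, map_one])))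
    (by rw [← map_mul, hz, map_one])
    (fun x => by
      obtain ⟨y, rfl⟩ := e.surjective x
      rw [← map_mul, ← map_mul, hc])
    (fun x hx1 hx2 => by
      obtain ⟨y, rfl⟩ := e.surjective x
      obtain ⟨g, hg⟩ := hco y (fun h2 => hx1 (by rw [h2, map_one])) (fun h2 => hx2 (by rw [h2]))
      exact ⟨e g, by rw [← map_mul, ← map_inv, ← map_mul, ← map_mul, hg]⟩)
    (m := m) (by rwa [← Nat.card_congr e.toEquiv])
  refine ⟨k, hk.trans ?_, hcase⟩
  exact (Nat.factorization_le_iff_dvd Nat.card_pos.ne' Nat.card_pos.ne').2 (Subgroup.card_subgroup_dvd_card _) p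

end Cfsg.Agent.H329.CompExtra
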