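import Cfsg.Agent.H329.StSplit
import Cfsg.Agent.H329.CompSplit
import Cfsg.Agent.Characters.Core
import Cfsg.Agent.H340.Deg
import Cfsg.Agent.S4168

/-!
# Configurations of extraspecial type and the Steinberg character (helper329)

`H340.Deg.HC T m` : `z ≠ 1`, `z² = 1`, commuting involutions `a i` and elements `b i`, `i < m`, of `T`, commuting with `z`, with
`a i b i = b i a i z`, `a i b j = b j a i` (`i ≠ j`).

* `exists_d` : for a complex representation `ρ` there is `d` with `χ 1 - χ z = 2 d`, `2 ^ m ∣ d`, and `ρ z = 1` if `d = 0`;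
* `no_HC` : if `Y` has a split (B,N)-pair of odd characteristic `p`, no non-trivial normal subgroup of `Y` is a `p'`-group
  and `HC Y m`, then `2 ^ (m+1) ∣ p ^ k - 1` for some `0 < k ≤ v_p(|Y|)` or `2 ^ (m+1) ∣ p ^ k + 1` for some `k ≤ v_p(|Y|)`;
* `comp_HC` : the same with `Y` replaced by `Aut (A/Z(A))`, `A` a normal quasisimple subgroup of the fixed points of an
  involutory automorphism of a group with a split (B,N)-pair of odd characteristic `p`, `p ∣ |A|`, `HC (A/Z(A)) m`.
-/

set_option autoImplicit false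
set_option linter.unusedSectionVars false

namespace Cfsg.Agent.H329.CompHC

open Cfsg Cfsg.Agent.Characters Cfsg.Agent.FixBN Subgroup
open Cfsg.Agent.Characters.Core Module
open Cfsg.Agent.H340.Deg (HC isCompl_ker)

universe u v w

section Op

variable {k : Type u} [Field k]

/-- **The divisibility.** -/
theorem two_pow_dvd_finrank (h2 : (2 : k) ≠ 0) (m : ℕ) : ∀ (W : Type v) [AddCommGroup W] [Module k W]
    [FiniteDimensional k W] (A B : Fin m → Module.End k W), (∀ i, A i * A i = 1) →
    (∀ i, Function.Injective (B i)) → (∀ i j, A i * A j = A j * A i) → (∀ i, A i * B i = -(B i * A i)) →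
    (∀ i j, i ≠ j → A i * B j = B j * A i) → 2 ^ m ∣ finrank k W := by
  induction m with
  | zero =>
    intro W _ _ _ A B _ _ _ _ _
    rw [pow_zero]
    exact one_dvd _
  | succ m ih =>
    intro W _ _ _ A B hA hB hAA hAB hAB'
    let a := A 0
    let P := LinearMap.ker (a - 1)
    let N := LinearMap.ker (a + 1)
    have hP : ∀ v, v ∈ P ↔ a v = v := fun v => by
      rw [LinearMap.mem_ker]
      exact sub_eq_zero
    have hN : ∀ v, v ∈ N ↔ a v = -v := fun v => by
      rw [LinearMap.mem_ker]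
      exact add_eq_zero_iff_eq_neg
    have hc := isCompl_ker h2 (hA 0)
    have hab : ∀ v, a (B 0 v) = -(B 0 (a v)) := fun v => LinearMap.congr_fun (hAB 0) v
    have hPN : finrank k P ≤ finrank k N := by
      refine LinearMap.finrank_le_finrank_of_injective (f := (B 0).restrict (p := P) (q := N) ?_) ?_
      · intro v hv
        rw [hN, hab, (hP v).1 hv]
      · intro x y hxy
        exact Subtype.ext (hB 0 (congrArg Subtype.val hxy))
    have hNP : finrank k N ≤ finrank k P := by
      refine LinearMap.finrank_le_finrank_of_injective (f := (B 0).restrict (p := N) (q := P) ?_) ?_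
      · intro v hv
        rw [hP, hab, (hN v).1 hv, map_neg, neg_neg]
      · intro x y hxy
        exact Subtype.ext (hB 0 (congrArg Subtype.val hxy))
    have hsum : finrank k P + finrank k N = finrank k W := Submodule.finrank_add_eq_of_isCompl hc
    have hApres : ∀ (i : Fin m) v, v ∈ P → A i.succ v ∈ P := by
      intro i v hv
      rw [hP] at hv ⊢
      have h3 := LinearMap.congr_fun (hAA 0 i.succ) v
      change a (A i.succ v) = A i.succ (a v) at h3
      rw [h3, hv]
    have hBpres : ∀ (i : Fin m) v, v ∈ P → B i.succ v ∈ P := by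
      intro i v hv
      rw [hP] at hv ⊢
      have h3 := LinearMap.congr_fun (hAB' 0 i.succ (Fin.succ_ne_zero i).symm) v
      change a (B i.succ v) = B i.succ (a v) at h3
      rw [h3, hv]
    have key := ih P (fun i => (A i.succ).restrict (hApres i)) (fun i => (B i.succ).restrict (hBpres i))
      (fun i => by
        apply LinearMap.ext
        intro v
        exact Subtype.ext (LinearMap.congr_fun (hA i.succ) v))
      (fun i x y hxy => Subtype.ext (hB i.succ (congrArg Subtype.val hxy)))
      (fun i j => by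
        apply LinearMap.ext
        intro v
        exact Subtype.ext (LinearMap.congr_fun (hAA i.succ j.succ) v))
      (fun i => by
        apply LinearMap.ext
        intro v
        exact Subtype.ext (LinearMap.congr_fun (hAB i.succ) v))
      (fun i j hij => by
        apply LinearMap.ext
        intro v
        exact Subtype.ext (LinearMap.congr_fun (hAB' i.succ j.succ (fun h => hij (Fin.succ_injective _ h))) v))
    obtain ⟨c, hc⟩ := key
    refine ⟨c, ?_⟩
    rw [pow_succ, ← hsum]
    have h1 : finrank k P = 2 ^ m * c := hc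
    have h2 : finrank k N = 2 ^ m * c := by omega
    rw [h1, h2]
    ring

/-- Restriction to a subspace. -/
theorem dvd_of_sub (h2 : (2 : k) ≠ 0) {V : Type v} [AddCommGroup V] [Module k V] [FiniteDimensional k V] {m : ℕ}
    (W : Submodule k V) (A B : Fin m → Module.End k V)
    (hAW : ∀ i, ∀ v ∈ W, A i v ∈ W) (hBW : ∀ i, ∀ v ∈ W, B i v ∈ W)
    (hA : ∀ i, ∀ v ∈ W, A i (A i v) = v) (hB : ∀ i, ∀ v ∈ W, B i v = 0 → v = 0)
    (hAA : ∀ i j, ∀ v ∈ W, A i (A j v) = A j (A i v)) (hAB : ∀ i, ∀ v ∈ W, A i (B i v) = -(B i (A i v)))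
    (hAB' : ∀ i j, i ≠ j → ∀ v ∈ W, A i (B j v) = B j (A i v)) : 2 ^ m ∣ finrank k W := by
  refine two_pow_dvd_finrank h2 m W (fun i => (A i).restrict (hAW i)) (fun i => (B i).restrict (hBW i)) ?_ ?_ ?_ ?_ ?_
  · intro i
    apply LinearMap.ext
    intro v
    exact Subtype.ext (hA i v v.2)
  · intro i
    rw [injective_iff_map_eq_zero]
    intro v hv
    exact Subtype.ext (hB i v v.2 (congrArg Subtype.val hv))
  · intro i j
    apply LinearMap.ext
    intro v
    exact Subtype.ext (hAA i j v v.2)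
  · intro i
    apply LinearMap.ext
    intro v
    exact Subtype.ext (hAB i v v.2)
  · intro i j hij
    apply LinearMap.ext
    intro v
    exact Subtype.ext (hAB' i j hij v v.2)

/-- The trace of an involution. -/
theorem trace_invol (h2 : (2 : k) ≠ 0) {V : Type v} [AddCommGroup V] [Module k V] [FiniteDimensional k V]
    {a : Module.End k V} (ha : a * a = 1) :
    LinearMap.trace k V 1 - LinearMap.trace k V a = 2 * (finrank k (LinearMap.ker (a + 1)) : k) := by
  have haa : ∀ v, a (a v) = v := fun v => LinearMap.congr_fun ha v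
  have hproj : LinearMap.IsProj (LinearMap.ker (a + 1)) ((2 : k)⁻¹ • ((1 : Module.End k V) - a)) := by
    constructor
    · intro v
      rw [LinearMap.mem_ker]
      change a ((2 : k)⁻¹ • (v - a v)) + (2 : k)⁻¹ • (v - a v) = 0
      rw [map_smul, map_sub, haa, ← smul_add]
      have : a v - v + (v - a v) = 0 := by abel
      rw [this, smul_zero]
    · intro v hv
      have hv' : a v + v = 0 := hv
      change (2 : k)⁻¹ • (v - a v) = v
      rw [eq_neg_of_add_eq_zero_left hv', sub_neg_eq_add, ← two_smul k v, smul_smul, inv_mul_cancel₀ h2, one_smul]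
  have h := hproj.trace
  rw [LinearMap.map_smul, map_sub, smul_eq_mul] at h
  rw [← h, ← mul_assoc, mul_inv_cancel₀ h2, one_mul]

end Op

/-- **The congruence for complex representations.** -/
theorem exists_d {Y : Type*} [Group Y] {n m : ℕ} (ρ : Representation ℂ Y (Fin n → ℂ)) (z : Y) (a b : Fin m → Y)
    (hzz : z * z = 1) (haa : ∀ i, a i * a i = 1) (haz : ∀ i, a i * z = z * a i)
    (hbz : ∀ i, b i * z = z * b i) (hac : ∀ i j, a i * a j = a j * a i) (hab : ∀ i, a i * b i = b i * a i * z)
    (hab' : ∀ i j, i ≠ j → a i * b j = b j * a i) :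
    ∃ d : ℕ, ρ.character 1 - ρ.character z = 2 * (d : ℂ) ∧ 2 ^ m ∣ d ∧ (d = 0 → ρ z = 1) := by
  have h2 : (2 : ℂ) ≠ 0 := two_ne_zero
  have hf : ∀ s t v, ρ s (ρ t v) = ρ (s * t) v := fun s t v => by
    rw [map_mul]
    rfl
  have hf1 : ∀ v, ρ 1 v = v := fun v => by
    rw [map_one]; rfl
  have hzz' : ρ z * ρ z = 1 := by rw [← map_mul, hzz, map_one]
  let W := LinearMap.ker (ρ z + 1)
  have hW : ∀ v, v ∈ W ↔ ρ z v = -v := fun v => by
    rw [LinearMap.mem_ker]
    exact add_eq_zero_iff_eq_neg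
  have hinj : ∀ t v, ρ t v = 0 → v = 0 := by
    intro t v hv
    rw [← hf1 v, ← inv_mul_cancel t, ← hf, hv, map_zero]
  refine ⟨finrank ℂ W, ?_, ?_, ?_⟩
  · have h := trace_invol h2 hzz'
    rw [← h]
    change LinearMap.trace ℂ _ (ρ 1) - LinearMap.trace ℂ _ (ρ z) = _
    rw [map_one]
  · refine dvd_of_sub h2 W (fun i => ρ (a i)) (fun i => ρ (b i)) ?_ ?_ ?_ ?_ ?_ ?_ ?_
    · intro i v hv
      rw [hW] at hv ⊢
      rw [hf, ← haz, ← hf, hv, map_neg]
    · intro i v hv
      rw [hW] at hv ⊢
      rw [hf, ← hbz, ← hf, hv, map_neg]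
    · intro i v _
      rw [hf, haa, hf1]
    · intro i v _ h
      exact hinj _ _ h
    · intro i j v _
      rw [hf, hf, hac]
    · intro i v hv
      rw [hf, hf, hab, ← hf, (hW v).1 hv, map_neg]
    · intro i j hij v _
      rw [hf, hf, hab' i j hij]
  · intro h0
    have hbot : W = ⊥ := Submodule.finrank_eq_zero.1 h0
    apply LinearMap.ext
    intro v
    change ρ z v = v
    have h3 : ρ z v - v ∈ W := by
      rw [hW, map_sub, hf, hzz, hf1, neg_sub]
    rw [hbot, Submodule.mem_bot] at h3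
    exact sub_eq_zero.1 h3

/-- **Configurations in a group with split (B,N)-pair of characteristic `p`.** -/
theorem no_HC {Y : Type*} [Group Y] [Finite Y] {p : ℕ} [hpp : Fact p.Prime] (hp : p ≠ 2) (h : HasSplit p Y)
    (hY : ∀ M : Subgroup Y, M.Normal → M ≠ ⊥ → p ∣ Nat.card M) {m : ℕ} (hHC : HC Y m) :
    ∃ k ≤ (Nat.card Y).factorization p, (k ≠ 0 ∧ 2 ^ (m + 1) ∣ p ^ k - 1) ∨ 2 ^ (m + 1) ∣ p ^ k + 1 := by
  obtain ⟨z, a, b, hz1, hzz, haa, haz, hbz, hac, hab, hab'⟩ := hHC
  obtain ⟨χ, ⟨n, ρ, hρ, rfl⟩, hχ1, hχu, hχr⟩ := StSplit.exists_value h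
  obtain ⟨d, hd', hdv, hk⟩ := exists_d ρ z a b hzz haa haz hbz hac hab hab'
  have hd0 : d ≠ 0 := by
    intro h0
    have hzk : z ∈ MonoidHom.ker ρ := hk h0
    have hne : MonoidHom.ker ρ ≠ ⊥ := by
      intro hb
      rw [hb, Subgroup.mem_bot] at hzk
      exact hz1 hzk
    have hdiv := hY _ inferInstance hne
    obtain ⟨y, hy⟩ := exists_prime_orderOf_dvd_card' p hdiv
    have hy1 : (y : Y) ≠ 1 := by
      intro hh
      have : y = 1 := Subtype.ext hh
      rw [this, orderOf_one] at hy
      exact hpp.out.one_lt.ne hy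
    have hpg : IsPGroup p (Subgroup.zpowers (y : Y)) := by
      apply IsPGroup.of_card (n := 1)
      rw [Nat.card_zpowers, Subgroup.orderOf_coe, hy, pow_one]
    obtain ⟨Q, hQ⟩ := hpg.exists_le_sylow
    have h2 := hχu Q y (hQ (Subgroup.mem_zpowers _)) hy1
    have h3 : ρ.character (y : Y) = ρ.character 1 := by
      have hy2 : ρ (y : Y) = ρ 1 := by rw [map_one]; exact y.2
      change LinearMap.trace ℂ _ (ρ (y : Y)) = LinearMap.trace ℂ _ (ρ 1)
      rw [hy2]
    rw [h3, hχ1] at h2
    have h4 : p ^ (Nat.card Y).factorization p = 0 := by exact_mod_cast h2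
    exact (pow_pos hpp.out.pos _).ne' h4
  set c := (Nat.card ↥(Subgroup.centralizer ({z} : Set Y))).factorization p with hcdef
  have ha : c ≤ (Nat.card Y).factorization p :=
    (Nat.factorization_le_iff_dvd Nat.card_pos.ne' Nat.card_pos.ne').2 (Subgroup.card_subgroup_dvd_card _) p
  have hcase : p ^ (Nat.card Y).factorization p = p ^ c + 2 * d ∨ p ^ (Nat.card Y).factorization p + p ^ c = 2 * d := by
    have hord : ¬ p ∣ orderOf z := by
      intro hdv'
      have h2 : orderOf z ∣ 2 := orderOf_dvd_of_pow_eq_one (by rw [pow_two, hzz])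
      exact hp ((Nat.prime_dvd_prime_iff_eq hpp.out Nat.prime_two).1 (hdv'.trans h2))
    rcases hχr z hord with h2 | h2
    · left
      rw [hχ1, h2] at hd'
      have h3 := sub_eq_iff_eq_add'.1 hd'
      exact_mod_cast h3
    · right
      rw [hχ1, h2, sub_neg_eq_add] at hd'
      exact_mod_cast hd'
  have h2' : 2 ^ (m + 1) ∣ 2 * d := by
    rw [pow_succ, mul_comm]
    exact Nat.mul_dvd_mul_left 2 hdv
  have hcop : Nat.Coprime (2 ^ (m + 1)) (p ^ c) :=
    Nat.Coprime.pow _ _ ((Nat.coprime_primes Nat.prime_two hpp.out).2 (Ne.symm hp))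
  obtain ⟨k, hk'⟩ := Nat.exists_eq_add_of_le ha
  refine ⟨k, by omega, ?_⟩
  rcases hcase with h3 | h3
  · left
    have h4 : 2 * d = p ^ c * (p ^ k - 1) := by
      rw [hk', pow_add] at h3
      rw [Nat.mul_sub, mul_one, h3]
      omega
    refine ⟨?_, ?_⟩
    · rintro rfl
      rw [pow_zero, Nat.sub_self, mul_zero] at h4
      omega
    · rw [h4] at h2'
      exact hcop.dvd_of_dvd_mul_left h2'
  · right
    have h4 : 2 * d = p ^ c * (p ^ k + 1) := by
      rw [← h3, hk', pow_add]
      ring
    rw [h4] at h2'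
    exact hcop.dvd_of_dvd_mul_left h2'

/-- **Components with a configuration of extraspecial type.** -/
theorem comp_HC {K : Type*} [Group K] [Finite K] {p : ℕ} [hpp : Fact p.Prime] (hp : p ≠ 2)
    (h : HasSplit p K) (x : MulAut K) (hx : x * x = 1) (A : Subgroup ↥(fixedSubgroup x)) [A.Normal]
    (hA : IsQuasisimple ↥A) (hd : p ∣ Nat.card ↥A) {m : ℕ} (hHC : HC (↥A ⧸ center ↥A) m) :
    ∃ k ≤ (Nat.card (MulAut (↥A ⧸ center ↥A))).factorization p,
      (k ≠ 0 ∧ 2 ^ (m + 1) ∣ p ^ k - 1) ∨ 2 ^ (m + 1) ∣ p ^ k + 1 := by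
  have : Fact (Nat.Prime 2) := ⟨Nat.prime_two⟩
  have hs : IsSimpleGroup (↥A ⧸ center ↥A) := hA.2
  have hperf : Group.IsPerfect (↥A ⧸ center ↥A) := by
    have := hA.1
    exact Group.IsPerfect.ofSurjective (QuotientGroup.mk'_surjective (Subgroup.center ↥A))
  have hna : ¬ IsMulCommutative (↥A ⧸ center ↥A) := by
    intro hcm
    have h3 : commutator (↥A ⧸ center ↥A) = ⊥ := by
      rw [commutator_def, Subgroup.commutator_eq_bot_iff_le_centralizer]
      intro a _
      rw [mem_centralizer_iff]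
      intro b _
      exact hcm.is_comm.comm _ _
    have h4 : commutator (↥A ⧸ center ↥A) = ⊤ := Group.IsPerfect.commutator_eq_top
    rw [h3] at h4
    exact bot_ne_top h4
  have hdq : p ∣ Nat.card (↥A ⧸ center ↥A) := by
    rw [← Subgroup.index_eq_card]
    by_cases h2 : p ∣ Nat.card (center ↥A)
    · exact S4168.result hA p hpp.out h2
    · rw [← Subgroup.card_mul_index (center ↥A)] at hd
      exact (hpp.out.dvd_mul.1 hd).resolve_left h2
  obtain ⟨Y, hI, -, hY⟩ := CompSplit.exists_almost (r := 2) (Ne.symm hp) h x (by rw [pow_two, hx]) A hA hd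
  let ι : (↥A ⧸ center ↥A) →* ↥Y := (MulAut.conj : _ →* MulAut (↥A ⧸ center ↥A)).codRestrict Y fun q => hI ⟨q, rfl⟩
  have hι : Function.Injective ι := fun a b hab => CompSplit.conj_injective hna (congrArg Subtype.val hab)
  have hN : ∀ M : Subgroup Y, M.Normal → M ≠ ⊥ → p ∣ Nat.card M := by
    intro M hM hne
    have h2 := CompSplit.inn_le Y hI M hM hne
    have h3 : ι.range ≤ M := by
      rintro _ ⟨q, rfl⟩
      exact h2 q
    have h4 : Nat.card ι.range = Nat.card (↥A ⧸ center ↥A) := Nat.card_congr (MonoidHom.ofInjective hι).symm.toEquiv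
    exact (h4 ▸ hdq).trans (Subgroup.card_dvd_of_le h3)
  obtain ⟨k, hk, hcase⟩ := no_HC hp hY hN (hHC.map ι hι)
  refine ⟨k, hk.trans ?_, hcase⟩
  exact (Nat.factorization_le_iff_dvd Nat.card_pos.ne' Nat.card_pos.ne').2 (Subgroup.card_subgroup_dvd_card _) p

end Cfsg.Agent.H329.CompHC
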