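import Cfsg.Agent.H283.DescComp

/-!
# Quotients of the group generated by the `p`-elements of `C_K(x)` have a split (B,N)-pair (helper329)

* `quoN` : the quotient of a (B,N)-pair with the smaller group `N` generated by the distinguished generators which are
  not killed and by the torus;
* `split_quo` : the quotient of the (B,N)-pair of `Hp p H` (helper283) is split in the sense of `FixBN`;
* `hasSplit_quo` : a non-trivial quotient `Y` of `Hp p H` with `O_p(Y) = 1` and `Z(Y) = 1` satisfies `HasSplit p Y`.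
-/

set_option autoImplicit false
set_option linter.unusedSectionVars false

open scoped Pointwise

namespace Cfsg.Agent.H329.DescSplit

open Cfsg Cfsg.Agent.H283.DescQuot

section Quo

variable {G Q : Type*} [Group G] [Group Q] (P : BNPair G) (f : G →* Q)

/-- the distinguished generators outside `B ker f` -/
def SS : Set G := {s | s ∈ P.S ∧ s ∉ KK P f}

theorem mem_of_mem_parabolic {J : Set G} (hJ : J ⊆ P.S) {s : G} (hs : s ∈ P.S) (h : s ∈ P.parabolic J) :
    s ∈ J := by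
  have hS : J ∪ {s} ⊆ P.S := by
    rintro x (hx | hx)
    · exact hJ hx
    · rw [Set.mem_singleton_iff] at hx
      rw [hx]; exact hs
  have h1 : P.parabolic (J ∪ {s}) = P.parabolic J := by
    refine le_antisymm (sup_le le_sup_left ((Subgroup.closure_le _).2 ?_))
      (sup_le_sup_left (Subgroup.closure_mono Set.subset_union_left) _)
    rintro x (hx | hx)
    · exact Subgroup.mem_sup_right (Subgroup.subset_closure hx)
    · rw [Set.mem_singleton_iff] at hx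
      rw [hx]; exact h
  rw [← S0314.result P hS hJ h1]
  exact Or.inr rfl

theorem mem_B_of_mem_KK {n : G} (hn : n ∈ Subgroup.closure (SS P f) ⊔ (P.B ⊓ P.N)) (hK : n ∈ KK P f) :
    n ∈ P.B := by
  have hJ : {s | s ∈ P.S ∧ s ∈ KK P f} ⊆ P.S := fun x hx => hx.1
  have hSS : SS P f ⊆ P.S := fun x hx => hx.1
  have h1 : n ∈ P.parabolic (SS P f) :=
    (sup_le le_sup_right (le_trans inf_le_left le_sup_left) :
      Subgroup.closure (SS P f) ⊔ (P.B ⊓ P.N) ≤ P.parabolic (SS P f)) hn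
  rw [KK_eq P f] at hK
  obtain ⟨L, hL, h⟩ := S0311.result P (P.parabolic {s | s ∈ P.S ∧ s ∈ KK P f} ⊓ P.parabolic (SS P f))
    (le_inf le_sup_left le_sup_left)
  have hL0 : L = ∅ := by
    rw [Set.eq_empty_iff_forall_notMem]
    intro s hs
    have h2 : s ∈ P.parabolic {s | s ∈ P.S ∧ s ∈ KK P f} ⊓ P.parabolic (SS P f) := by
      rw [h]
      exact Subgroup.mem_sup_right (Subgroup.subset_closure hs)
    have h3 := mem_of_mem_parabolic P hJ (hL hs) h2.1
    have h4 := mem_of_mem_parabolic P hSS (hL hs) h2.2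
    exact h4.2 h3.2
  have h2 : n ∈ P.parabolic {s | s ∈ P.S ∧ s ∈ KK P f} ⊓ P.parabolic (SS P f) := ⟨hK, h1⟩
  rw [h, hL0] at h2
  unfold BNPair.parabolic at h2
  rwa [Subgroup.closure_empty, sup_bot_eq] at h2

/-- The quotient of a (B,N)-pair, with the smaller `N`. -/
def quoN (hf : Function.Surjective f) : BNPair Q where
  B := P.B.map f
  N := Subgroup.closure (f '' SS P f) ⊔ (P.B ⊓ P.N).map f
  S := f '' SS P f
  sup_eq_top := by
    have h1 := (quo P f hf).sup_eq_top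
    rw [← (quo P f hf).closure_sup] at h1
    rw [eq_top_iff, ← h1]
    refine sup_le le_sup_left (sup_le ?_ (le_trans inf_le_left le_sup_left))
    exact le_trans le_sup_left le_sup_right
  conj_mem := by
    intro n hn t ht
    have hle : Subgroup.closure (f '' SS P f) ⊔ (P.B ⊓ P.N).map f ≤ (quo P f hf).N := by
      refine sup_le ((Subgroup.closure_le _).2 (quo P f hf).subset) ?_
      rintro _ ⟨b, hb, rfl⟩
      exact ⟨b, hb.2, rfl⟩
    exact (quo P f hf).conj_mem n (hle hn) t ⟨ht.1, hle ht.2⟩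
  subset := fun x hx => Subgroup.mem_sup_left (Subgroup.subset_closure hx)
  sq_mem := (quo P f hf).sq_mem
  inj := (quo P f hf).inj
  closure_sup := by
    refine le_antisymm (sup_le le_sup_left inf_le_right) (sup_le le_sup_left ?_)
    refine le_trans ?_ le_sup_right
    exact le_inf (Subgroup.map_mono inf_le_left) le_sup_right
  mul_mem_union := by
    intro s hs n hn b hb
    have hle : Subgroup.closure (f '' SS P f) ⊔ (P.B ⊓ P.N).map f ≤ (quo P f hf).N := by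
      refine sup_le ((Subgroup.closure_le _).2 (quo P f hf).subset) ?_
      rintro _ ⟨b, hb, rfl⟩
      exact ⟨b, hb.2, rfl⟩
    exact (quo P f hf).mul_mem_union s hs n (hle hn) b hb
  conj_ne := (quo P f hf).conj_ne

theorem mem_N_of {n : Q} (hn : n ∈ Subgroup.closure (f '' SS P f) ⊔ (P.B ⊓ P.N).map f) :
    ∃ m ∈ Subgroup.closure (SS P f) ⊔ (P.B ⊓ P.N), f m = n := by
  have h1 : Subgroup.closure (f '' SS P f) ⊔ (P.B ⊓ P.N).map f =
      (Subgroup.closure (SS P f) ⊔ (P.B ⊓ P.N)).map f := by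
    rw [Subgroup.map_sup, MonoidHom.map_closure]
  rw [h1] at hn
  exact hn

/-- the torus of the quotient -/
theorem mem_torus (hf : Function.Surjective f) {h : Q} (h1 : h ∈ (quoN P f hf).B) (h2 : h ∈ (quoN P f hf).N) :
    ∃ t ∈ P.B ⊓ P.N, f t = h := by
  obtain ⟨m, hm, rfl⟩ := mem_N_of P f h2
  have h3 : m ∈ P.B := mem_B_of_mem_KK P f hm h1
  refine ⟨m, ⟨h3, ?_⟩, rfl⟩
  have h4 : Subgroup.closure (SS P f) ⊔ (P.B ⊓ P.N) ≤ P.N :=
    sup_le ((Subgroup.closure_le _).2 fun s hs => P.subset hs.1) inf_le_right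
  exact h4 hm

end Quo

/-! ### The group generated by the `p`-elements -/

section Main

open Cfsg.Agent.H283.Desc Cfsg.Agent.H283.DescInst Cfsg.Agent.BpGate Cfsg.Agent.FixBN.Gates
open Cfsg.Agent.Schreier.BNSch (Node)
open Cfsg.Agent.FixBN (Split HasSplit)

variable {H : Type*} [Group H] [Finite H] {p : ℕ} [hp : Fact p.Prime] {Pa : Set (Set (Sylow p H))}
  {d : Sylow p H → Sylow p H → ℕ} {Bs : Sylow p H → Subgroup H}

/-- the Sylow subgroup in `Hp` -/
def UU (a : Sylow p H) : Subgroup ↥(Hp p H) := (a : Subgroup H).subgroupOf (Hp p H)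

theorem mem_UU {a : Sylow p H} {u : ↥(Hp p H)} : u ∈ UU a ↔ (u : H) ∈ a := Iff.rfl

/-- a `p`-subgroup normalising a Sylow subgroup of the quotient -/
theorem mem_of_norm {Y : Type*} [Group Y] {f : ↥(Hp p H) →* Y} (hf : Function.Surjective f) (a : Sylow p H)
    {y : Y} (hy : ∃ k : ℕ, y ^ p ^ k = 1) (hn : y ∈ Subgroup.normalizer (((UU a).map f : Subgroup Y) : Set Y)) :
    y ∈ (UU a).map f := by
  have : Finite Y := Finite.of_surjective f hf
  set Q : Sylow p Y := (a.subtype (le_Hp a)).mapSurjective hf with hQ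
  have hQU : (Q : Subgroup Y) = (UU a).map f := rfl
  obtain ⟨k, hk⟩ := hy
  have hz : IsPGroup p (Subgroup.zpowers y) := by
    rw [IsPGroup.iff_card]
    obtain ⟨j, -, hj⟩ := (Nat.dvd_prime_pow hp.out).1 (orderOf_dvd_of_pow_eq_one hk)
    exact ⟨j, by rw [Nat.card_zpowers]; exact hj⟩
  have h1 := hz.inf_normalizer_sylow Q
  have h2 : y ∈ Subgroup.zpowers y ⊓ Subgroup.normalizer (Q : Set Y) := ⟨Subgroup.mem_zpowers y, hn⟩
  rw [h1] at h2
  exact h2.2

variable (hD : DSys Pa d Bs) {a c : Sylow p H} (h1 : m a c = 1)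

include hD h1

theorem B_norm {b : ↥(Hp p H)} (hb : b ∈ (hD.bn h1).B) : ∀ u ∈ UU a, b * u * b⁻¹ ∈ UU a := by
  intro u hu
  have h2 := hD.fix a _ (Subgroup.mem_subgroupOf.1 hb)
  have h3 : (b : H) * u * (b : H)⁻¹ ∈ (b : H) • a := by
    rw [mem_smul_iff]
    have e1 : (b : H)⁻¹ * ((b : H) * u * (b : H)⁻¹) * b = u := by group
    rw [e1]; exact hu
  rw [h2] at h3
  exact h3

theorem map_B_norm {Y : Type*} [Group Y] (f : ↥(Hp p H) →* Y) {y : Y} (hy : y ∈ (hD.bn h1).B.map f) :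
    y ∈ Subgroup.normalizer (((UU a).map f : Subgroup Y) : Set Y) := by
  obtain ⟨b, hb, rfl⟩ := hy
  rw [Subgroup.mem_normalizer_iff]
  have key : ∀ b ∈ (hD.bn h1).B, ∀ y ∈ (UU a).map f, f b * y * (f b)⁻¹ ∈ (UU a).map f := by
    rintro b hb _ ⟨u, hu, rfl⟩
    exact ⟨_, B_norm hD h1 hb u hu, by rw [map_mul, map_mul, map_inv]⟩
  intro y
  refine ⟨key b hb y, fun hy => ?_⟩
  have h2 := key _ (inv_mem hb) _ hy
  rw [map_inv] at h2
  have e1 : (f b)⁻¹ * (f b * y * (f b)⁻¹) * (f b)⁻¹⁻¹ = y := by group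
  rwa [e1] at h2

/-- `N(a) = B` -/
theorem mem_B_of_smul {g : ↥(Hp p H)} (hg : (g : H) • a = a) : g ∈ (hD.bn h1).B := by
  have h2 : Subgroup.normalizer ((UU a : Subgroup ↥(Hp p H)) : Set ↥(Hp p H)) = (hD.bn h1).B := by
    refine Schreier.BNSch.normalizer_eq (hD.bn h1) (UU a) ?_ (fun b hb => B_norm hD h1 hb) ?_
    · intro u hu
      exact Subgroup.mem_subgroupOf.2 (hD.le a _ hu)
    · rintro _ ⟨S, rfl⟩
      have hs := hD.rf_spec h1 S
      by_contra hcon
      push Not at hcon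
      apply hs.ne
      have h3 : ∀ w, w ∈ a → w ∈ (((hD.rf h1 S : ↥(Hp p H)) : H) • a : Sylow p H) := by
        intro w hw
        rw [mem_smul_iff]
        have h4 := hcon ⟨w, le_Hp a hw⟩ hw
        have h5 := hD.fix a _ (Subgroup.mem_subgroupOf.1 h4)
        refine mem_of_smul_eq (b := (((hD.rf h1 S : ↥(Hp p H)) : H)⁻¹ • a : Sylow p H)) ?_ h5
        rw [mem_smul_iff, inv_inv]
        have e1 : ((hD.rf h1 S : ↥(Hp p H)) : H) * (((hD.rf h1 S : ↥(Hp p H)) : H)⁻¹ * w *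
          ((hD.rf h1 S : ↥(Hp p H)) : H)) * ((hD.rf h1 S : ↥(Hp p H)) : H)⁻¹ = w := by group
        rw [e1]; exact hw
      exact Sylow.ext (a.is_maximal' (((hD.rf h1 S : ↥(Hp p H)) : H) • a : Sylow p H).isPGroup' h3)
  rw [← h2, Subgroup.mem_normalizer_iff]
  intro u
  rw [mem_UU, mem_UU]
  have h3 := congrArg (fun b : Sylow p H => (g : H) * u * (g : H)⁻¹ ∈ b) hg
  have h4 : (g : H) * u * (g : H)⁻¹ ∈ (g : H) • a ↔ (u : H) ∈ a := by
    rw [mem_smul_iff]
    have e1 : (g : H)⁻¹ * ((g : H) * u * (g : H)⁻¹) * g = u := by group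
    rw [e1]
  rw [← h4]
  exact iff_of_eq h3

omit hD h1 [Finite H] hp in
/-- the intersection of the Sylow subgroups of a panel -/
def VV (S : Set (Sylow p H)) : Subgroup ↥(Hp p H) := (⨅ x ∈ S, (x : Subgroup H)).subgroupOf (Hp p H)

omit hD h1 [Finite H] hp in
theorem mem_VV {S : Set (Sylow p H)} {v : ↥(Hp p H)} : v ∈ VV S ↔ ∀ x ∈ S, (v : H) ∈ x := by
  unfold VV
  rw [Subgroup.mem_subgroupOf]
  simp only [Subgroup.mem_iInf]
  exact Iff.rfl

omit hD h1 [Finite H] hp in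
theorem conj_mem_VV {S : Set (Sylow p H)} {g v : ↥(Hp p H)} (hg : (g : H)⁻¹ • S = S) (hv : v ∈ VV S) :
    g * v * g⁻¹ ∈ VV S := by
  rw [mem_VV] at hv ⊢
  intro x hx
  have h2 : (g : H)⁻¹ • x ∈ S := by
    rw [← hg]; exact Set.smul_mem_smul_set hx
  have h3 := hv _ h2
  rw [mem_smul_iff, inv_inv] at h3
  exact h3

/-- **The node** of a quotient. -/
theorem node_quo {Y : Type*} [Group Y] {f : ↥(Hp p H) →* Y} (hf : Function.Surjective f)
    (S : {S // S ∈ Pa ∧ a ∈ S}) (hsK : hD.rf h1 S ∉ KK (hD.bn h1) f) :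
    Node (quoN (hD.bn h1) f hf) ((UU a).map f) (f (hD.rf h1 S)) ((VV S.1).map f) := by
  have hs := hD.rf_spec h1 S
  set s := hD.rf h1 S with hsdef
  have hsS : (s : H) • S.1 = S.1 := LS_smul hD.gs S.2.1 hs.ls
  have hsS' : (s : H)⁻¹ • S.1 = S.1 := by rw [← hsS, inv_smul_smul, hsS]
  have hsa : (s : H) • a ∈ S.1 := by
    have h3 : (s : H) • a ∈ (s : H) • S.1 := Set.smul_mem_smul_set S.2.2
    rwa [hsS] at h3
  -- the elements of the kernel in `LS`
  have hker : ∀ r : ↥(Hp p H), f r = 1 → (r : H) ∈ LS S.1 → (r : H) • a = a := by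
    intro r hr hrL
    by_contra hne
    have h2 : (r : H) • a ∈ S.1 := by
      have h3 : (r : H) • a ∈ (r : H) • S.1 := Set.smul_mem_smul_set S.2.2
      rwa [LS_smul hD.gs S.2.1 hrL] at h3
    obtain ⟨u1, hu1, -, hu2⟩ := (hD.gs.gate_self S.2.1 S.2.2).tr _ h2 _ hsa hne hs.ne
    have h3 : ((s : H)⁻¹ * (u1 * r)) • a = a := by
      rw [mul_smul, mul_smul, hu2, inv_smul_smul]
    have h4 : (s : H)⁻¹ * (u1 * r) ∈ LS S.1 :=
      mul_mem (inv_mem hs.ls) (mul_mem (mem_LS S.2.2 hu1) hrL)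
    have h5 := hD.ker S.1 S.2.1 a S.2.2 _ h4 h3
    have h6 : (s⁻¹ * (⟨u1, le_Hp a hu1⟩ * r) : ↥(Hp p H)) ∈ (hD.bn h1).B := h5
    apply hsK
    have h7 : f s = f ⟨u1, le_Hp a hu1⟩ * (f (s⁻¹ * (⟨u1, le_Hp a hu1⟩ * r)))⁻¹ := by
      simp only [map_mul, map_inv, hr]
      group
    rw [mem_KK, h7]
    refine mul_mem ⟨_, Subgroup.mem_subgroupOf.2 (hD.le a _ hu1), rfl⟩ (inv_mem ⟨_, h6, rfl⟩)
  -- the elements of `U` which the reflection maps to `B`
  have hstab : ∀ u ∈ UU a, f (s⁻¹ * u * s) ∈ (hD.bn h1).B.map f → u ∈ VV S.1 := by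
    intro u hu hB
    have hpow : ∃ k : ℕ, (f (s⁻¹ * u * s)) ^ p ^ k = 1 := by
      obtain ⟨k, hk⟩ := a.isPGroup' ⟨(u : H), hu⟩
      refine ⟨k, ?_⟩
      have h2 : u ^ p ^ k = 1 := by
        apply Subtype.ext
        have h3 := congrArg Subtype.val hk
        simpa using h3
      rw [← map_pow]
      have e1 : (s⁻¹ * u * s) ^ p ^ k = s⁻¹ * u ^ p ^ k * s := by
        have := conj_pow (a := s⁻¹) (b := u) (i := p ^ k)
        rwa [inv_inv] at this
      rw [e1, h2, mul_one, inv_mul_cancel, map_one]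
    obtain ⟨w0, hw0, hw⟩ := mem_of_norm hf a hpow (map_B_norm hD h1 f hB)
    -- `r`
    have hr : f ((s * w0 * s⁻¹)⁻¹ * u) = 1 := by
      rw [map_mul, map_inv, map_mul, map_mul, hw]
      simp only [map_mul, map_inv]
      group
    have hwb : ((s * w0 * s⁻¹ : ↥(Hp p H)) : H) ∈ ((s : H) • a : Sylow p H) := by
      rw [mem_smul_iff]
      have e1 : (s : H)⁻¹ * ((s * w0 * s⁻¹ : ↥(Hp p H)) : H) * s = w0 := by
        simp only [Subgroup.coe_mul, Subgroup.coe_inv]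
        group
      rw [e1]; exact hw0
    have hrL : (((s * w0 * s⁻¹)⁻¹ * u : ↥(Hp p H)) : H) ∈ LS S.1 := by
      rw [Subgroup.coe_mul, Subgroup.coe_inv]
      exact mul_mem (inv_mem (mem_LS hsa hwb)) (mem_LS S.2.2 hu)
    -- `r` fixes `s a`
    have h2 : (s⁻¹ * ((s * w0 * s⁻¹)⁻¹ * u) * s : ↥(Hp p H)) • a = a := by
      refine hker _ ?_ ?_
      · rw [map_mul, map_mul, hr, mul_one, ← map_mul, inv_mul_cancel, map_one]
      · have e1 : ((s⁻¹ * ((s * w0 * s⁻¹)⁻¹ * u) * s : ↥(Hp p H)) : H) =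
            (s : H)⁻¹ * (((s * w0 * s⁻¹)⁻¹ * u : ↥(Hp p H)) : H) * s := rfl
        rw [e1]
        exact mul_mem (mul_mem (inv_mem hs.ls) hrL) hs.ls
    have h3 : (((s * w0 * s⁻¹)⁻¹ * u : ↥(Hp p H)) : H) • ((s : H) • a) = (s : H) • a := by
      have e1 : ((s⁻¹ * ((s * w0 * s⁻¹)⁻¹ * u) * s : ↥(Hp p H)) : H) =
            (s : H)⁻¹ * ((((s * w0 * s⁻¹)⁻¹ * u : ↥(Hp p H)) : H) * s) := by
        simp only [Subgroup.coe_mul, Subgroup.coe_inv, mul_assoc]
      have h4 : ((s : H)⁻¹ * ((((s * w0 * s⁻¹)⁻¹ * u : ↥(Hp p H)) : H) * s)) • a = a := by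
        rw [← e1]; exact h2
      rw [mul_smul, inv_smul_eq_iff, mul_smul] at h4
      exact h4
    have h4 : (u : H) • ((s : H) • a) = (s : H) • a := by
      have e1 : (u : H) = ((s * w0 * s⁻¹ : ↥(Hp p H)) : H) * (((s * w0 * s⁻¹)⁻¹ * u : ↥(Hp p H)) : H) := by
        simp only [Subgroup.coe_mul, Subgroup.coe_inv]
        group
      rw [e1, mul_smul, h3]
      exact smul_self hwb
    have h5 : (u : H) ∈ ((s : H) • a : Sylow p H) := mem_of_smul_eq hu h4
    rw [mem_VV]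
    exact hD.inter S.1 S.2.1 a S.2.2 _ hsa (Ne.symm hs.ne) _ hu h5
  refine ⟨?_, ?_, ?_, ?_, ?_⟩
  · refine Subgroup.map_mono fun v hv => ?_
    exact mem_VV.1 hv a S.2.2
  · by_contra hcon
    push Not at hcon
    -- `f s` normalises `f U`
    have h2 : ∀ u ∈ UU a, f (s⁻¹ * u * s) ∈ (UU a).map f := by
      intro u hu
      obtain ⟨v, hv, hvu⟩ := hcon (f u) ⟨u, hu, rfl⟩
      have h3 : s⁻¹ * v * s ∈ VV S.1 := by
        have h4 := conj_mem_VV (g := s⁻¹) (v := v) (S := S.1) (by rw [Subgroup.coe_inv, inv_inv, hsS]) hv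
        rwa [inv_inv] at h4
      refine ⟨s⁻¹ * v * s, mem_UU.2 (mem_VV.1 h3 a S.2.2), ?_⟩
      simp only [map_mul, hvu]
    -- the conjugate Sylow subgroup in the preimage of `f U`
    set L : Subgroup ↥(Hp p H) := ((UU a).map f).comap f with hL
    have hUL : UU a ≤ L := Subgroup.le_comap_map f _
    have hsL : ((MulAut.conj s⁻¹ • a.subtype (le_Hp a) : Sylow p ↥(Hp p H)) : Subgroup ↥(Hp p H)) ≤ L := by
      intro u hu
      have hu' : u ∈ (UU a).map (MulAut.conj s⁻¹).toMonoidHom := hu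
      obtain ⟨v, hv, rfl⟩ := hu'
      have h3 := h2 v hv
      change s⁻¹ * v * (s⁻¹)⁻¹ ∈ L
      rw [inv_inv]
      exact h3
    have hUL' : ((a.subtype (le_Hp a) : Sylow p ↥(Hp p H)) : Subgroup ↥(Hp p H)) ≤ L := hUL
    obtain ⟨g, hg⟩ := MulAction.exists_smul_eq ↥L
      ((a.subtype (le_Hp a) : Sylow p ↥(Hp p H)).subtype hUL')
      ((MulAut.conj s⁻¹ • a.subtype (le_Hp a) : Sylow p ↥(Hp p H)).subtype hsL)
    -- write `g = k u` with `k` in the kernel
    obtain ⟨u, hu, hug⟩ : ∃ u ∈ UU a, f u = f (g : ↥(Hp p H)) := g.2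
    have hk : f ((g : ↥(Hp p H)) * u⁻¹) = 1 := by rw [map_mul, map_inv, hug, mul_inv_cancel]
    -- `s g` normalises `a`
    have h3 : ∀ w, w ∈ UU a → (s * g : ↥(Hp p H)) * w * (s * g : ↥(Hp p H))⁻¹ ∈ UU a := by
      intro w hw
      have h4 : (g : ↥L) * ⟨w, hUL hw⟩ * (g : ↥L)⁻¹ ∈
          ((g • (a.subtype (le_Hp a) : Sylow p ↥(Hp p H)).subtype hUL' : Sylow p ↥L) : Subgroup ↥L) := by
        have h5 : (⟨w, hUL hw⟩ : ↥L) ∈ (a.subtype (le_Hp a) : Sylow p ↥(Hp p H)).subtype hUL' := hw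
        exact ⟨_, h5, rfl⟩
      rw [hg] at h4
      have h5 : (g : ↥(Hp p H)) * w * (g : ↥(Hp p H))⁻¹ ∈ (UU a).map (MulAut.conj s⁻¹).toMonoidHom := h4
      obtain ⟨v, hv, hvw⟩ := h5
      have h6 : s⁻¹ * v * (s⁻¹)⁻¹ = (g : ↥(Hp p H)) * w * (g : ↥(Hp p H))⁻¹ := hvw
      have e1 : (s * g : ↥(Hp p H)) * w * (s * g : ↥(Hp p H))⁻¹ = v := by
        calc (s * g : ↥(Hp p H)) * w * (s * g : ↥(Hp p H))⁻¹ = s * ((g : ↥(Hp p H)) * w * (g : ↥(Hp p H))⁻¹) * s⁻¹ := by
              group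
          _ = s * (s⁻¹ * v * (s⁻¹)⁻¹) * s⁻¹ := by rw [h6]
          _ = v := by group
      rw [e1]; exact hv
    have h4 : ((s * g : ↥(Hp p H)) : H) • a = a := by
      have h5 : ∀ w, w ∈ (((s * g : ↥(Hp p H)) : H) • a : Sylow p H) → w ∈ a := by
        intro w hw
        rw [mem_smul_iff] at hw
        have h6 := h3 ⟨_, le_Hp a hw⟩ hw
        rw [mem_UU] at h6
        have e1 : (((s * g : ↥(Hp p H)) * ⟨_, le_Hp a hw⟩ * (s * g : ↥(Hp p H))⁻¹ : ↥(Hp p H)) : H) = w := by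
          simp only [Subgroup.coe_mul, Subgroup.coe_inv]
          group
        rwa [e1] at h6
      exact Sylow.ext (((((s * g : ↥(Hp p H)) : H) • a : Sylow p H)).is_maximal' a.isPGroup' h5).symm
    have h5 := mem_B_of_smul hD h1 h4
    apply hsK
    rw [mem_KK]
    have e1 : f s = f (s * g) * (f u)⁻¹ := by
      rw [hug, map_mul, mul_inv_cancel_right]
    rw [e1]
    exact mul_mem ⟨_, h5, rfl⟩ (inv_mem ⟨u, Subgroup.mem_subgroupOf.2 (hD.le a _ hu), rfl⟩)
  · rintro _ ⟨b, hb, rfl⟩ _ ⟨v, hv, rfl⟩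
    refine ⟨b * v * b⁻¹, ?_, by rw [map_mul, map_mul, map_inv]⟩
    refine conj_mem_VV ?_ hv
    exact hD.pan a _ (inv_mem (Subgroup.mem_subgroupOf.1 hb)) S.1 S.2.1 S.2.2
  · rintro _ ⟨v, hv, rfl⟩
    refine ⟨s⁻¹ * v * s, ?_, by rw [map_mul, map_mul, map_inv]⟩
    have h4 := conj_mem_VV (g := s⁻¹) (v := v) (S := S.1) (by rw [Subgroup.coe_inv, inv_inv, hsS]) hv
    rwa [inv_inv] at h4
  · rintro _ ⟨u, hu, rfl⟩ h2
    refine ⟨u, hstab u hu ?_, rfl⟩
    rw [map_mul, map_mul, map_inv]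
    exact h2

/-- the elements of the torus have order prime to `p` -/
theorem not_dvd_torus {t : ↥(Hp p H)} (ht : t ∈ (hD.bn h1).B ⊓ (hD.bn h1).N) : ¬ p ∣ orderOf t := by
  intro hdvd
  set g := t ^ (orderOf t / p) with hg
  have hgo : orderOf g = p := by
    rw [hg, orderOf_pow_orderOf_div (orderOf_pos t).ne' hdvd]
  have hgT : g ∈ DSys.TT Bs a c := by
    have h2 : g ∈ (hD.bn h1).B ⊓ (hD.bn h1).N := pow_mem ht _
    exact hD.mem_TT h1 h2
  have hga : (g : H) • a = a := hD.fix a _ hgT.1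
  have hgc : (g : H) • c = c := hgT.2
  have hz : IsPGroup p (Subgroup.zpowers (g : H)) := by
    rw [IsPGroup.iff_card]
    exact ⟨1, by rw [Nat.card_zpowers, Subgroup.orderOf_coe, hgo, pow_one]⟩
  have key : ∀ b : Sylow p H, (g : H) • b = b → (g : H) ∈ (b : Subgroup H) := by
    intro b hb
    have h2 : (g : H) ∈ Subgroup.zpowers (g : H) ⊓ Subgroup.normalizer (b : Set H) :=
      ⟨Subgroup.mem_zpowers _, Sylow.smul_eq_iff_mem_normalizer.1 hb⟩
    rw [hz.inf_normalizer_sylow b] at h2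
    exact h2.2
  have h2 : (g : H) = 1 := (m_one_iff (a := a) (c := c)).1 h1 _ (key a hga) (key c hgc)
  have h3 : g = 1 := Subtype.ext h2
  rw [h3, orderOf_one] at hgo
  exact hp.out.one_lt.ne hgo

/-- **The quotient is split.** -/
theorem split_quo {Y : Type*} [Group Y] {f : ↥(Hp p H) →* Y} (hf : Function.Surjective f)
    (hcore : ((hD.bn h1).B.map f).normalCore = ⊥) : Split (quoN (hD.bn h1) f hf) p ((UU a).map f) where
  le := Subgroup.map_mono fun u hu => Subgroup.mem_subgroupOf.2 (hD.le a _ hu)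
  norm := by
    rintro _ ⟨b, hb, rfl⟩ _ ⟨u, hu, rfl⟩
    exact ⟨_, B_norm hD h1 hb u hu, by rw [map_mul, map_mul, map_inv]⟩
  isP := by
    have h2 : IsPGroup p (UU a) := a.isPGroup'.comap_subtype
    exact h2.map f
  cover := by
    rintro _ ⟨b, hb, rfl⟩
    obtain ⟨u, hu, t, ht, rfl⟩ := hD.bn_split h1 hb
    refine ⟨f u, ⟨u, hu, rfl⟩, ?_⟩
    rw [map_mul, inv_mul_cancel_left]
    exact Subgroup.mem_sup_right ⟨t, ht, rfl⟩
  tor := by
    refine ⟨ordCompl[p] (Nat.card ↥(Hp p H)), Nat.not_dvd_ordCompl hp.out Nat.card_pos.ne', ?_⟩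
    intro y hyB hyN
    obtain ⟨t, ht, rfl⟩ := mem_torus _ f hf hyB hyN
    have h2 := not_dvd_torus hD h1 ht
    have h3 : orderOf t ∣ ordCompl[p] (Nat.card ↥(Hp p H)) := by
      have h4 : orderOf t ∣ ordProj[p] (Nat.card ↥(Hp p H)) * ordCompl[p] (Nat.card ↥(Hp p H)) := by
        rw [Nat.ordProj_mul_ordCompl_eq_self]
        exact orderOf_dvd_natCard t
      refine Nat.Coprime.dvd_of_dvd_mul_left ?_ h4
      exact Nat.Coprime.pow_right _ ((Nat.Prime.coprime_iff_not_dvd hp.out).2 h2).symm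
    rw [← map_pow, orderOf_dvd_iff_pow_eq_one.1 h3, map_one]
  node := by
    rintro _ ⟨_, ⟨⟨S, rfl⟩, hsK⟩, rfl⟩
    exact ⟨_, node_quo hD h1 hf S hsK⟩
  core := hcore

/-- **HasSplit for the quotients** of the group generated by the `p`-elements. -/
theorem hasSplit_quo {Y : Type*} [Group Y] [hY : Nontrivial Y] {f : ↥(Hp p H) →* Y} (hf : Function.Surjective f)
    (hO : ∀ M : Subgroup Y, M.Normal → IsPGroup p M → M = ⊥) (hZ : Subgroup.center Y = ⊥) : HasSplit p Y := by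
  have hcore : ((hD.bn h1).B.map f).normalCore = ⊥ := by
    set M := ((hD.bn h1).B.map f).normalCore with hM
    have hMn : M.Normal := Subgroup.normalCore_normal _
    have hMB : M ≤ (hD.bn h1).B.map f := Subgroup.normalCore_le _
    have hU : IsPGroup p ((UU a).map f) := by
      have h2 : IsPGroup p (UU a) := a.isPGroup'.comap_subtype
      exact h2.map f
    -- the intersection with `U`
    have hE : M ⊓ (UU a).map f = ⊥ := by
      refine hO _ ⟨fun e he y => ?_⟩ (hU.to_le inf_le_right)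
      have h2 : y * e * y⁻¹ ∈ M := hMn.conj_mem e he.1 y
      refine ⟨h2, mem_of_norm hf a ?_ (map_B_norm hD h1 f (hMB h2))⟩
      obtain ⟨k, hk⟩ := hU ⟨e, he.2⟩
      refine ⟨k, ?_⟩
      have h3 : e ^ p ^ k = 1 := by simpa using congrArg Subtype.val hk
      rw [conj_pow, h3, mul_one, mul_inv_cancel]
    rw [eq_bot_iff, ← hZ]
    intro z hz
    -- `z` commutes with the conjugates of `U`
    have h2 : ∀ z ∈ M, ∀ u ∈ (UU a).map f, z * u = u * z := by
      intro z hz u hu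
      have h3 : z * u * z⁻¹ * u⁻¹ ∈ M ⊓ (UU a).map f := by
        refine ⟨?_, ?_⟩
        · have h4 : z * (u * z⁻¹ * u⁻¹) ∈ M := mul_mem hz (hMn.conj_mem _ (inv_mem hz) u)
          have e1 : z * u * z⁻¹ * u⁻¹ = z * (u * z⁻¹ * u⁻¹) := by group
          rw [e1]; exact h4
        · have h4 := map_B_norm hD h1 f (hMB hz)
          rw [Subgroup.mem_normalizer_iff] at h4
          exact mul_mem ((h4 u).1 hu) (((UU a).map f).inv_mem hu)
      rw [hE, Subgroup.mem_bot, mul_inv_eq_one, mul_inv_eq_iff_eq_mul] at h3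
      exact h3
    let C : Subgroup ↥(Hp p H) := (Subgroup.centralizer ({z} : Set Y)).comap f
    have h3 : Hp p H ≤ C.map (Hp p H).subtype := by
      refine iSup_le fun b => ?_
      intro w hw
      obtain ⟨g, hg⟩ := MulAction.exists_smul_eq ↥(Hp p H) (a.subtype (le_Hp a)) (b.subtype (le_Hp b))
      have hw' : (⟨w, le_Hp b hw⟩ : ↥(Hp p H)) ∈ b.subtype (le_Hp b) := hw
      rw [← hg, Cfsg.Agent.FixBN.Gates.mem_smul_iff] at hw'
      refine ⟨⟨w, le_Hp b hw⟩, ?_, rfl⟩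
      change f ⟨w, le_Hp b hw⟩ ∈ Subgroup.centralizer ({z} : Set Y)
      rw [Subgroup.mem_centralizer_singleton_iff]
      have h4 := h2 ((f g)⁻¹ * z * f g) (by
        have := hMn.conj_mem z hz (f g)⁻¹
        rwa [inv_inv] at this) (f (g⁻¹ * ⟨w, le_Hp b hw⟩ * g)) ⟨_, hw', rfl⟩
      rw [map_mul, map_mul, map_inv] at h4
      have h5 : f g * ((f g)⁻¹ * z * f g * ((f g)⁻¹ * f ⟨w, le_Hp b hw⟩ * f g)) * (f g)⁻¹ =
          f g * ((f g)⁻¹ * f ⟨w, le_Hp b hw⟩ * f g * ((f g)⁻¹ * z * f g)) * (f g)⁻¹ :=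
        congrArg (fun y => f g * y * (f g)⁻¹) h4
      have e1 : f g * ((f g)⁻¹ * z * f g * ((f g)⁻¹ * f ⟨w, le_Hp b hw⟩ * f g)) * (f g)⁻¹ =
          z * f ⟨w, le_Hp b hw⟩ := by group
      have e2 : f g * ((f g)⁻¹ * f ⟨w, le_Hp b hw⟩ * f g * ((f g)⁻¹ * z * f g)) * (f g)⁻¹ =
          f ⟨w, le_Hp b hw⟩ * z := by group
      rw [e1, e2] at h5
      exact h5.symm
    rw [Subgroup.mem_center_iff]
    intro y
    obtain ⟨g, rfl⟩ := hf y
    obtain ⟨g', hg', hgg⟩ := h3 g.2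
    have h4 : g' = g := Subtype.ext hgg
    rw [h4] at hg'
    exact Subgroup.mem_centralizer_singleton_iff.1 hg'
  refine ⟨quoN (hD.bn h1) f hf, _, ?_, split_quo hD h1 hf hcore⟩
  by_contra hS
  rw [Set.not_nonempty_iff_eq_empty] at hS
  have hN : (quoN (hD.bn h1) f hf).N ≤ (quoN (hD.bn h1) f hf).B := by
    rw [← (quoN (hD.bn h1) f hf).closure_sup, hS, Subgroup.closure_empty, bot_sup_eq]
    exact inf_le_left
  have hB : (hD.bn h1).B.map f = ⊤ := by
    have h2 := (quoN (hD.bn h1) f hf).sup_eq_top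
    rwa [sup_eq_left.2 hN] at h2
  rw [hB] at hcore
  have h2 : (⊤ : Subgroup Y).normalCore = ⊤ := Subgroup.normalCore_eq_self ⊤
  rw [h2] at hcore
  exact top_ne_bot hcore

end Main

end Cfsg.Agent.H329.DescSplit
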