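import Cfsg.Agent.H329.StSplit
import Cfsg.Agent.Characters.Core

/-!
# Extraspecial subgroups and the Steinberg character (helper329)

* `extra` : if `z` is a central involution of the finite group `E` such that every `x ∉ {1, z}` is conjugate to `x z`,
  then for every complex representation `ρ` of `E` there is `d` with `χ 1 - χ z = 2 d`, `|E| ∣ 2 d²`, and `ρ z = 1` if
  `d = 0` (`χ` the character of `ρ`);
* `no_extra` : if `Y` has a split (B,N)-pair of odd characteristic `p`, `E ≤ Y` is such a group and no non-trivial normal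
  subgroup of `Y` is a `p'`-group, then there are `a ≤ b = v_p(|Y|)` and `d ≠ 0` with `|E| ∣ 2 d²` and
  `p^b = p^a + 2 d` or `p^b + p^a = 2 d`;
* `no_extra_pow` : the same with `|E| = 2^(2m-1)`: `2^(m+1) ∣ p^k - 1` for some `0 < k ≤ v_p(|Y|)` or `2^(m+1) ∣ p^k + 1`
  for some `k ≤ v_p(|Y|)`.
-/

set_option autoImplicit false
set_option linter.unusedSectionVars false

namespace Cfsg.Agent.H329.ExtraSp

open Cfsg Cfsg.Agent.Characters Cfsg.Agent.FixBN
open Cfsg.Agent.Characters.Core

/-- Splitting of a character under a central involution. -/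
theorem split_char {E : Type*} [Group E] [Finite E] {n : ℕ} (ρ : Representation ℂ E (Fin n → ℂ)) {z : E}
    (hz : z * z = 1) (hc : ∀ x, x * z = z * x) :
    ∃ u u' : E → ℂ, IsCharacter E u ∧ IsCharacter E u' ∧ (∀ g, ρ.character g = u g + u' g) ∧
      (∀ g, ρ.character (g * z) = u' g - u g) ∧ (u 1 = 0 → ρ z = 1) := by
  have hcomm : ∀ g, ρ g * ρ z = ρ z * ρ g := fun g => by rw [← map_mul, hc, map_mul]
  have hsq : ρ z * ρ z = 1 := by rw [← map_mul, hz, map_one]
  have hsq' : ∀ v, ρ z (ρ z v) = v := fun v => by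
    have := LinearMap.congr_fun hsq v
    simpa using this
  have hcomm' : ∀ g v, ρ z (ρ g v) = ρ g (ρ z v) := fun g v => (LinearMap.congr_fun (hcomm g) v).symm
  let U : Subrepresentation ρ :=
    { toSubmodule := LinearMap.ker (ρ z + 1)
      apply_mem_toSubmodule := by
        intro g v hv
        have hv' : ρ z v + v = 0 := hv
        change ρ z (ρ g v) + ρ g v = 0
        rw [hcomm', ← map_add, hv', map_zero] }
  let U' : Subrepresentation ρ :=
    { toSubmodule := LinearMap.ker (ρ z - 1)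
      apply_mem_toSubmodule := by
        intro g v hv
        have hv' : ρ z v - v = 0 := hv
        change ρ z (ρ g v) - ρ g v = 0
        rw [hcomm', ← map_sub, hv', map_zero] }
  have hU : ∀ v ∈ U.toSubmodule, ρ z v = -v := fun v hv => eq_neg_of_add_eq_zero_left (show ρ z v + v = 0 from hv)
  have hU' : ∀ v ∈ U'.toSubmodule, ρ z v = v := fun v hv => sub_eq_zero.1 (show ρ z v - v = 0 from hv)
  have hcompl : IsCompl U.toSubmodule U'.toSubmodule := by
    refine ⟨?_, ?_⟩
    · rw [Submodule.disjoint_def]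
      intro v h1 h2
      have h3 := hU v h1
      rw [hU' v h2] at h3
      have h4 : (2 : ℂ) • v = 0 := by rw [two_smul]; nth_rewrite 1 [h3]; exact neg_add_cancel v
      exact (smul_eq_zero.1 h4).resolve_left two_ne_zero
    · rw [codisjoint_iff, eq_top_iff]
      intro v _
      rw [Submodule.mem_sup]
      refine ⟨(2⁻¹ : ℂ) • (v - ρ z v), ?_, (2⁻¹ : ℂ) • (v + ρ z v), ?_, ?_⟩
      · change ρ z ((2⁻¹ : ℂ) • (v - ρ z v)) + (2⁻¹ : ℂ) • (v - ρ z v) = 0
        rw [map_smul, map_sub, hsq', ← smul_add]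
        simp
      · change ρ z ((2⁻¹ : ℂ) • (v + ρ z v)) - (2⁻¹ : ℂ) • (v + ρ z v) = 0
        rw [map_smul, map_add, hsq', ← smul_sub]
        simp [add_comm]
      · rw [← smul_add, sub_add_add_cancel, ← two_smul ℂ v, smul_smul]
        norm_num
  have h := character_eq_add_of_isCompl U U' hcompl
  refine ⟨U.toRepresentation.character, U'.toRepresentation.character, isCharacter_of_rep _, isCharacter_of_rep _,
    fun g => congrFun h g, fun g => ?_, fun h0 => ?_⟩
  · rw [congrFun h (g * z), Pi.add_apply]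
    have e1 : U.toRepresentation (g * z) = - U.toRepresentation g := by
      apply LinearMap.ext
      intro v
      apply Subtype.ext
      change ρ (g * z) v.1 = -(ρ g v.1)
      rw [map_mul, Module.End.mul_apply, hU v.1 v.2, map_neg]
    have e2 : U'.toRepresentation (g * z) = U'.toRepresentation g := by
      apply LinearMap.ext
      intro v
      apply Subtype.ext
      change ρ (g * z) v.1 = ρ g v.1
      rw [map_mul, Module.End.mul_apply, hU' v.1 v.2]
    have e3 : U.toRepresentation.character (g * z) = - U.toRepresentation.character g := by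
      change LinearMap.trace ℂ _ (U.toRepresentation (g * z)) = - LinearMap.trace ℂ _ (U.toRepresentation g)
      rw [e1]
      exact map_neg (LinearMap.trace ℂ U.toSubmodule) (U.toRepresentation g)
    have e4 : U'.toRepresentation.character (g * z) = U'.toRepresentation.character g := by
      change LinearMap.trace ℂ _ (U'.toRepresentation (g * z)) = LinearMap.trace ℂ _ (U'.toRepresentation g)
      rw [e2]
    rw [e3, e4]
    ring
  · have h2 : (Module.finrank ℂ U.toSubmodule : ℂ) = 0 := by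
      rw [← h0]
      exact (Representation.char_one _).symm
    have h3 : U.toSubmodule = ⊥ := Submodule.finrank_eq_zero.1 (by exact_mod_cast h2)
    have h4 : U'.toSubmodule = ⊤ := by
      have := hcompl.sup_eq_top
      rwa [h3, bot_sup_eq] at this
    apply LinearMap.ext
    intro v
    exact hU' v (h4 ▸ Submodule.mem_top)

/-- The extraspecial congruence. -/
theorem extra {E : Type*} [Group E] [Finite E] {n : ℕ} (ρ : Representation ℂ E (Fin n → ℂ)) {z : E} (h1 : z ≠ 1)
    (hz : z * z = 1) (hc : ∀ x, x * z = z * x) (hco : ∀ x, x ≠ 1 → x ≠ z → ∃ h, h * x * h⁻¹ = x * z) :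
    ∃ d : ℕ, ρ.character 1 - ρ.character z = 2 * (d : ℂ) ∧ Nat.card E ∣ 2 * d ^ 2 ∧ (d = 0 → ρ z = 1) := by
  classical
  have := Fintype.ofFinite E
  obtain ⟨u, u', hu, hu', hs, ht, hk⟩ := split_char ρ hz hc
  have hcl := isCharacter_isClassFunction (isCharacter_of_rep ρ)
  obtain ⟨d, hd⟩ := isCharacter_apply_one hu
  have hu1 : ∀ g, 2 * u g = ρ.character g - ρ.character (g * z) := fun g => by rw [ht, hs]; ring
  have h0 : ∀ g, g ≠ 1 → g ≠ z → u g = 0 := by
    intro g hg1 hg2
    obtain ⟨h, hh⟩ := hco g hg1 hg2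
    have h3 : ρ.character (g * z) = ρ.character g := by rw [← hh]; exact hcl g h
    have h4 := hu1 g
    rw [h3, sub_self] at h4
    exact (mul_eq_zero.1 h4).resolve_left two_ne_zero
  have huz : u z = - d := by
    have h4 := hu1 z
    have h5 := hu1 1
    rw [hz] at h4
    rw [one_mul, hd] at h5
    have h6 : 2 * u z = 2 * (-(d : ℂ)) := by rw [h4, mul_neg, h5]; ring
    exact mul_left_cancel₀ two_ne_zero h6
  refine ⟨d, ?_, ?_, fun h => hk (by rw [hd, h]; simp)⟩
  · have h5 := hu1 1
    rw [one_mul, hd] at h5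
    exact h5.symm
  · obtain ⟨m, hm⟩ := classInner_isNat hu hu
    rw [classInner_def] at hm
    have hsum : ∑ g : E, u g * (starRingEnd ℂ) (u g) = 2 * (d : ℂ) ^ 2 := by
      rw [← Finset.sum_subset (Finset.subset_univ ({1, z} : Finset E))]
      · rw [Finset.sum_pair h1.symm, hd, huz]
        simp only [map_neg, map_natCast]
        ring
      · intro g _ hg
        simp only [Finset.mem_insert, Finset.mem_singleton, not_or] at hg
        rw [h0 g hg.1 hg.2, zero_mul]
    have hm' : (Nat.card E : ℂ)⁻¹ * (2 * (d : ℂ) ^ 2) = m := by rw [← hsum]; exact hm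
    have h6 : (2 * (d : ℂ) ^ 2) = Nat.card E * m := by
      rw [← hm', ← mul_assoc, mul_inv_cancel₀ card_ne_zero_complex, one_mul]
    exact ⟨m, by exact_mod_cast h6⟩

/-- Extraspecial subgroups of a group with split (B,N)-pair of characteristic `p`. -/
theorem no_extra {Y : Type*} [Group Y] [Finite Y] {p : ℕ} [hpp : Fact p.Prime] (hp : p ≠ 2) (h : HasSplit p Y)
    (hY : ∀ M : Subgroup Y, M.Normal → M ≠ ⊥ → p ∣ Nat.card M)
    (E : Subgroup Y) {z : E} (h1 : z ≠ 1)
    (hz : z * z = 1) (hc : ∀ x, x * z = z * x) (hco : ∀ x : E, x ≠ 1 → x ≠ z → ∃ h, h * x * h⁻¹ = x * z) :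
    ∃ a d : ℕ, d ≠ 0 ∧ a ≤ (Nat.card Y).factorization p ∧ Nat.card E ∣ 2 * d ^ 2 ∧
      (p ^ (Nat.card Y).factorization p = p ^ a + 2 * d ∨ p ^ (Nat.card Y).factorization p + p ^ a = 2 * d) := by
  obtain ⟨χ, ⟨n, ρ, hρ, rfl⟩, hχ1, hχu, hχr⟩ := StSplit.exists_value h
  obtain ⟨d, hd, hdv, hk⟩ := extra (ρ.comp E.subtype) h1 hz hc hco
  have hd' : ρ.character 1 - ρ.character (z : Y) = 2 * (d : ℂ) := by
    rw [← hd]
    rfl
  refine ⟨(Nat.card ↥(Subgroup.centralizer ({(z : Y)} : Set Y))).factorization p, d, ?_, ?_, hdv, ?_⟩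
  · intro h0
    have hz1 : ρ (z : Y) = 1 := hk h0
    have hker : (z : Y) ∈ MonoidHom.ker ρ := hz1
    have hne : MonoidHom.ker ρ ≠ ⊥ := by
      intro hb
      rw [hb, Subgroup.mem_bot] at hker
      exact h1 (Subtype.ext hker)
    have hdiv := hY _ inferInstance hne
    obtain ⟨y, hy⟩ := exists_prime_orderOf_dvd_card' p hdiv
    have hy1 : (y : Y) ≠ 1 := by
      intro hh
      have : y = 1 := Subtype.ext hh
      rw [this, orderOf_one] at hy
      exact hpp.out.one_lt.ne hy
    have hpg : IsPGroup p (Subgroup.zpowers (y : Y)) := by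
      apply IsPGroup.of_card (n := 1)
      rw [Nat.card_zpowers, Subgroup.orderOf_coe, hy, pow_one]
    obtain ⟨Q, hQ⟩ := hpg.exists_le_sylow
    have h2 := hχu Q y (hQ (Subgroup.mem_zpowers _)) hy1
    have h3 : ρ.character (y : Y) = ρ.character 1 := by
      have hy2 : ρ (y : Y) = ρ 1 := by rw [map_one]; exact y.2
      change LinearMap.trace ℂ _ (ρ (y : Y)) = LinearMap.trace ℂ _ (ρ 1)
      rw [hy2]
    rw [h3, hχ1] at h2
    have h4 : p ^ (Nat.card Y).factorization p = 0 := by exact_mod_cast h2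
    exact (pow_pos hpp.out.pos _).ne' h4
  · exact (Nat.factorization_le_iff_dvd Nat.card_pos.ne' Nat.card_pos.ne').2 (Subgroup.card_subgroup_dvd_card _) p
  · have hord : ¬ p ∣ orderOf (z : Y) := by
      intro hdv'
      have h2 : orderOf (z : Y) ∣ 2 := orderOf_dvd_of_pow_eq_one (by
        rw [pow_two]
        exact congrArg Subtype.val hz)
      exact hp ((Nat.prime_dvd_prime_iff_eq hpp.out Nat.prime_two).1 (hdv'.trans h2))
    rcases hχr (z : Y) hord with h2 | h2
    · left
      rw [hχ1, h2] at hd'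
      have h3 := sub_eq_iff_eq_add'.1 hd'
      exact_mod_cast h3
    · right
      rw [hχ1, h2, sub_neg_eq_add] at hd'
      exact_mod_cast hd'

/-- `no_extra` in the form of a congruence. -/
theorem no_extra_pow {Y : Type*} [Group Y] [Finite Y] {p : ℕ} [hpp : Fact p.Prime] (hp : p ≠ 2) (h : HasSplit p Y)
    (hY : ∀ M : Subgroup Y, M.Normal → M ≠ ⊥ → p ∣ Nat.card M)
    (E : Subgroup Y) {z : E} (h1 : z ≠ 1)
    (hz : z * z = 1) (hc : ∀ x, x * z = z * x) (hco : ∀ x : E, x ≠ 1 → x ≠ z → ∃ h, h * x * h⁻¹ = x * z)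
    {m : ℕ} (hm : 2 ^ (2 * m + 1) ∣ Nat.card E) :
    ∃ k ≤ (Nat.card Y).factorization p, (k ≠ 0 ∧ 2 ^ (m + 1) ∣ p ^ k - 1) ∨ 2 ^ (m + 1) ∣ p ^ k + 1 := by
  obtain ⟨a, d, hd, ha, hE, hcase⟩ := no_extra hp h hY E h1 hz hc hco
  have h2 : 2 ^ m ∣ d := by
    have h3 := hm.trans hE
    rw [pow_succ, mul_comm, Nat.mul_dvd_mul_iff_left two_pos, mul_comm 2 m, pow_mul] at h3
    exact (Nat.pow_dvd_pow_iff two_ne_zero).1 h3
  have h2' : 2 ^ (m + 1) ∣ 2 * d := by
    rw [pow_succ, mul_comm]
    exact Nat.mul_dvd_mul_left 2 h2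
  have hcop : Nat.Coprime (2 ^ (m + 1)) (p ^ a) :=
    Nat.Coprime.pow _ _ ((Nat.coprime_primes Nat.prime_two hpp.out).2 (Ne.symm hp))
  obtain ⟨k, hk⟩ := Nat.exists_eq_add_of_le ha
  refine ⟨k, by omega, ?_⟩
  rcases hcase with h3 | h3
  · left
    have h4 : 2 * d = p ^ a * (p ^ k - 1) := by
      rw [hk, pow_add] at h3
      rw [Nat.mul_sub, mul_one, h3]
      omega
    refine ⟨?_, ?_⟩
    · rintro rfl
      rw [pow_zero, Nat.sub_self, mul_zero] at h4
      omega
    · rw [h4] at h2'
      exact hcop.dvd_of_dvd_mul_left h2'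
  · right
    have h4 : 2 * d = p ^ a * (p ^ k + 1) := by
      rw [← h3, hk, pow_add]
      ring
    rw [h4] at h2'
    exact hcop.dvd_of_dvd_mul_left h2'

end Cfsg.Agent.H329.ExtraSp
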