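import Cfsg.Agent.CTwoTab.Suz
import Cfsg.Agent.CTwoTab.He

/-!
# The components of the centralizers of the involutions of `Suz` and `He` (helper329)

* `suz` : `X ≅ Suz`, `K` a component of `C_X(x)`, `x` an involution: `K ≅ PSL₃(4)`;
* `he` : `X ≅ He`, `K` a component of `C_X(x)`, `x` an involution: `Z(K) ≠ 1` and `K / Z(K) ≅ PSL₃(4)`.
-/

set_option autoImplicit false

namespace Cfsg.Agent.H329.FourTab

open Cfsg Subgroup Cfsg.Agent.CTwoTab

universe u

/-- transport of a component of the centralizer of an involution -/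
theorem transport {X Y : Type*} [Group X] [Group Y] (e : X ≃* Y) {x : X} {K : Subgroup X}
    (h : IsComponentOf K (centralizer ({x} : Set X))) :
    IsComponentOf (K.map e.toMonoidHom) (centralizer ({e x} : Set Y)) := by
  have h1 := isComponentOf_map e h
  rwa [map_centralizer_singleton] at h1

/-- `He` : the components are conjugate to `L = 2².L₃(4)` -/
theorem he_cases {x : Cfsg.Spor.He} {K : Subgroup Cfsg.Spor.He} (hx : orderOf x = 2)
    (hK : IsComponentOf K (centralizer ({x} : Set Cfsg.Spor.He))) :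
    ∃ c, K.map (MulAut.conj c).symm.toMonoidHom = Cfsg.Agent.KFacts.He.TwoACent.L := by
  have hfin := Cfsg.Agent.KFacts.He.Hyp.finHe
  have hxx : x * x = 1 := by rw [← pow_two, ← hx, pow_orderOf_eq_one]
  have hx1 : x ≠ 1 := by
    rintro rfl
    rw [orderOf_one] at hx
    omega
  rcases He.classes hxx hx1 with h | h
  · obtain ⟨c, rfl⟩ := isConj_iff.1 h
    exact absurd (comp_conj hK) (He.no_comp_z _)
  · obtain ⟨c, rfl⟩ := isConj_iff.1 h
    exact ⟨c, comp_eq Cfsg.Agent.KFacts.He.TwoA.isQuasisimple_L He.L_le_cent He.perfect_le_L (comp_conj hK)⟩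

/-- **`Suz`** -/
theorem suz {X : Type u} [Group X] (h : Cfsg.Spor.IsoSuz X) {x : X} (hx : orderOf x = 2) {K : Subgroup X}
    (hK : IsComponentOf K (centralizer ({x} : Set X))) :
    ∃ (F : Type) (_ : Field F) (_ : Fintype F), Fintype.card F = 4 ∧
      Nonempty (↥K ≃* Matrix.ProjectiveSpecialLinearGroup (Fin 3) F) := by
  obtain ⟨e⟩ := h
  obtain ⟨c, -, hc⟩ := Suz.comp_cases (by rw [MulEquiv.orderOf_eq, hx]) (transport e hK)
  refine ⟨Cfsg.Agent.SporadicA.FieldFour.F4, inferInstance, inferInstance, rfl, ?_⟩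
  exact ⟨(subMap e K).trans ((subMap (MulAut.conj c).symm _).trans
    ((MulEquiv.subgroupCongr hc).trans SuzPlane.equiv))⟩

/-- **`He`** -/
theorem he {X : Type u} [Group X] (h : Cfsg.Spor.IsoHe X) {x : X} (hx : orderOf x = 2) {K : Subgroup X}
    (hK : IsComponentOf K (centralizer ({x} : Set X))) :
    ∃ (F : Type) (_ : Field F) (_ : Fintype F), Fintype.card F = 4 ∧ center ↥K ≠ ⊥ ∧
      Nonempty (↥K ⧸ center ↥K ≃* Matrix.ProjectiveSpecialLinearGroup (Fin 3) F) := by
  obtain ⟨e⟩ := h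
  obtain ⟨c, hc⟩ := he_cases (by rw [MulEquiv.orderOf_eq, hx]) (transport e hK)
  let E : ↥K ≃* ↥Cfsg.Agent.KFacts.He.TwoACent.L :=
    (subMap e K).trans ((subMap (MulAut.conj c).symm _).trans (MulEquiv.subgroupCongr hc))
  refine ⟨Cfsg.Agent.SporadicA.FieldFour.F4, inferInstance, inferInstance, rfl, ?_, ?_⟩
  · intro h0
    have h1 := map_center_equiv E
    rw [h0, Subgroup.map_bot] at h1
    have h2 := He.card_center_L
    rw [← h1, card_bot] at h2
    omega
  · exact ⟨(quoEquiv E).trans Cfsg.Agent.KFacts.He.TwoAPlane.quotEquiv⟩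

end Cfsg.Agent.H329.FourTab
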