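import Cfsg.Agent.H109.EOneB

/-!
# S2198, `J₃ ≰ M`, case E2: the frame (helper329)

`frame_three` : three commuting elements of `Co₀` with all products of trace `8` are simultaneously conjugate to sign changes.
-/

set_option autoImplicit false

namespace Cfsg.Agent.H329.Frame3

open Cfsg Cfsg.Agent.SporadicA Cfsg.Agent.CoOneType
open Cfsg.Agent.SporadicA.Co0Mono Cfsg.Agent.SporadicA.Co1Simple Cfsg.Agent.CoOneType.SignFacts
open Cfsg.Agent.SporadicStructure.Co0Base (e8 e8_coe)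
open Cfsg.Agent.CoOneType.CoOneE (sup_inj sup_add wt_add sup_mem_octads allOne_ne mem_center_iff)
open Cfsg.Agent.H820.Par Cfsg.Agent.H109.EOne

theorem sign_pv (e : golayCode) {i j : GolayPt} (hi : i ∈ sup e) (hj : j ∈ sup e) (s : ℤ) (hs : s = 1 ∨ s = -1) :
    signCo0 e • pv i j s hs = -pv i j s hs := by
  apply two_inj
  rw [← smul_nsmul, _root_.smul_neg]
  rcases hs with rfl | rfl
  · rw [← two_pv, Co0Mono.smul_add, sign_e8, sign_e8, if_pos hi, if_pos hj]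
    abel
  · rw [← two_pv', Co0Mono.smul_sub, sign_e8, sign_e8, if_pos hi, if_pos hj]
    abel

/-- three elements negating a vector of norm `64` -/
theorem of_common {g₁ g₂ g₃ : Co0} (o1 : IsOct g₁) (o2 : IsOct g₂) (o3 : IsOct g₃) {v : leechLattice}
    (hv : sqNorm (v : GolayPt → ℤ) = 64) (h1 : g₁ • v = -v) (h2 : g₂ • v = -v) (h3 : g₃ • v = -v) :
    ∃ (h : Co0) (c₁ c₂ c₃ : golayCode), h * g₁ * h⁻¹ = signCo0 c₁ ∧ h * g₂ * h⁻¹ = signCo0 c₂ ∧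
      h * g₃ * h⁻¹ = signCo0 c₃ := by
  obtain ⟨k, j, hk⟩ := exists_smul_e8 hv
  obtain ⟨c₁, -, -, e1⟩ := eq_sign (oct_conj o1 k) (neg_neg_e8 hk (conj_neg h1))
  obtain ⟨c₂, -, -, e2⟩ := eq_sign (oct_conj o2 k) (neg_neg_e8 hk (conj_neg h2))
  obtain ⟨c₃, -, -, e3⟩ := eq_sign (oct_conj o3 k) (neg_neg_e8 hk (conj_neg h3))
  exact ⟨k, c₁, c₂, c₃, e1, e2, e3⟩

/-- frames of conjugates -/
theorem of_conj {g₁ g₂ g₃ : Co0} (k : Co0)
    (H : ∃ (h : Co0) (c₁ c₂ c₃ : golayCode), h * (k * g₁ * k⁻¹) * h⁻¹ = signCo0 c₁ ∧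
      h * (k * g₂ * k⁻¹) * h⁻¹ = signCo0 c₂ ∧ h * (k * g₃ * k⁻¹) * h⁻¹ = signCo0 c₃) :
    ∃ (h : Co0) (c₁ c₂ c₃ : golayCode), h * g₁ * h⁻¹ = signCo0 c₁ ∧ h * g₂ * h⁻¹ = signCo0 c₂ ∧
      h * g₃ * h⁻¹ = signCo0 c₃ := by
  obtain ⟨h, c₁, c₂, c₃, e1, e2, e3⟩ := H
  exact ⟨h * k, c₁, c₂, c₃, by rw [← e1]; group, by rw [← e2]; group, by rw [← e3]; group⟩

/-- the frame, when two of the elements are sign changes -/
theorem frame_aux {c d : golayCode} {g : Co0} (h13 : signCo0 c * g = g * signCo0 c) (h23 : signCo0 d * g = g * signCo0 d)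
    (o1 : IsOct (signCo0 c)) (o2 : IsOct (signCo0 d)) (o3 : IsOct g) (o12 : IsOct (signCo0 c * signCo0 d))
    (o13 : IsOct (signCo0 c * g)) :
    ∃ (h : Co0) (c₁ c₂ c₃ : golayCode), h * signCo0 c * h⁻¹ = signCo0 c₁ ∧ h * signCo0 d * h⁻¹ = signCo0 c₂ ∧
      h * g * h⁻¹ = signCo0 c₃ := by
  have hc := oct_wt o1
  have hd := oct_wt o2
  have hcd : wt (c + d) = 8 := by
    rw [← signCo0_add] at o12
    exact oct_wt o12
  have hT : (sup c ∩ sup d).card = 4 := by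
    have := wt_add c d
    omega
  by_contra hcon
  have key : ∀ i ∈ sup c ∩ sup d, ∀ j ∈ sup c ∩ sup d, i ≠ j → ∀ (s : ℤ) (hs : s = 1 ∨ s = -1),
      g • pv i j s hs = pv i j s hs ∨ g • pv i j s hs = -pv i j s hs := by
    intro i hi j hj hij s hs
    rw [Finset.mem_inter] at hi hj
    have h1 := sign_pv c hi.1 hj.1 s hs
    have h2 := sign_pv d hi.2 hj.2 s hs
    have hf : (signCo0 c * g) • pv i j s hs = -(g • pv i j s hs) := by
      rw [h13, mul_smul, h1, Co0Mono.smul_neg]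
    rcases half o3 o13 (sqNorm_pv i j hij s hs) hf with h3 | ⟨h3, -⟩
    · exact h3
    exfalso
    apply hcon
    refine of_common o1 o2 o3 h3 ?_ ?_ ?_
    · rw [Co0Mono.smul_sub, ← mul_smul, h13, mul_smul, h1, Co0Mono.smul_neg]
      abel
    · rw [Co0Mono.smul_sub, ← mul_smul, h23, mul_smul, h2, Co0Mono.smul_neg]
      abel
    · rw [Co0Mono.smul_sub, ← mul_smul, oct_sq o3, one_smul]
      abel
  obtain ⟨t, ht⟩ : (sup c ∩ sup d).Nonempty := by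
    rw [← Finset.card_pos]
    omega
  rcases eigen (by omega) key with h1 | h1
  · have h2 : (signCo0 c * g) • e8 t = -e8 t := by
      rw [mul_smul, h1 t ht, sign_e8, if_pos (Finset.mem_inter.1 ht).1]
    obtain ⟨e, -, -, he⟩ := eq_sign o13 h2
    apply hcon
    refine ⟨1, c, d, c + e, by group, by group, ?_⟩
    rw [signCo0_add, ← he, ← mul_assoc, signCo0_mul_self]
    group
  · obtain ⟨e, -, -, he⟩ := eq_sign o3 (h1 t ht)
    exact hcon ⟨1, c, d, e, by group, by group, by rw [he]; group⟩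

/-- **The frame.** -/
theorem frame_three {g₁ g₂ g₃ : Co0} (h12 : g₁ * g₂ = g₂ * g₁) (h13 : g₁ * g₃ = g₃ * g₁) (h23 : g₂ * g₃ = g₃ * g₂)
    (o1 : IsOct g₁) (o2 : IsOct g₂) (o3 : IsOct g₃) (o12 : IsOct (g₁ * g₂)) (o13 : IsOct (g₁ * g₃))
    (_ : IsOct (g₂ * g₃)) (_ : IsOct (g₁ * g₂ * g₃)) :
    ∃ (h : Co0) (c₁ c₂ c₃ : golayCode), h * g₁ * h⁻¹ = signCo0 c₁ ∧ h * g₂ * h⁻¹ = signCo0 c₂ ∧
      h * g₃ * h⁻¹ = signCo0 c₃ := by
  obtain ⟨v, hv, h1, h2⟩ := exists_common o1 o2 o12 h12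
  obtain ⟨k, j, hk⟩ := exists_smul_e8 hv
  apply of_conj k
  obtain ⟨c, -, -, e1⟩ := eq_sign (oct_conj o1 k) (neg_neg_e8 hk (conj_neg h1))
  obtain ⟨d, -, -, e2⟩ := eq_sign (oct_conj o2 k) (neg_neg_e8 hk (conj_neg h2))
  have o1' := oct_conj o1 k
  have o2' := oct_conj o2 k
  have o3' := oct_conj o3 k
  have o12' := oct_conj o12 k
  have o13' := oct_conj o13 k
  have q : ∀ a b : Co0, k * (a * b) * k⁻¹ = (k * a * k⁻¹) * (k * b * k⁻¹) := by
    intro a b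
    group
  have h13' : (k * g₁ * k⁻¹) * (k * g₃ * k⁻¹) = (k * g₃ * k⁻¹) * (k * g₁ * k⁻¹) := by
    rw [← q, ← q, h13]
  have h23' : (k * g₂ * k⁻¹) * (k * g₃ * k⁻¹) = (k * g₃ * k⁻¹) * (k * g₂ * k⁻¹) := by
    rw [← q, ← q, h23]
  rw [q] at o12' o13'
  rw [e1] at o1' o12' o13' h13' ⊢
  rw [e2] at o2' o12' h23' ⊢
  exact frame_aux h13' h23' o1' o2' o3' o12' o13'

end Cfsg.Agent.H329.Frame3
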