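import Cfsg.Agent.H329.NineKill
import Cfsg.Agent.SignalizersComponents.FStarPCore

/-!
# The quotients of S3283 and S3284 (helper329)
-/

set_option autoImplicit false

namespace Cfsg.Agent.H329.NineEnd

open Cfsg.Agent.H329.NineOrd

/-- a group with an extraspecial section of this shape is not commutative -/
theorem not_comm_of_extraspecial {G : Type*} [Group G] {C : Subgroup G} {Q : Subgroup C}
    (hQ : Cfsg.IsExtraspecial 2 ↥Q) : ¬ IsMulCommutative G := by
  intro h
  have h1 : ∀ a b : Q, a * b = b * a := by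
    intro a b
    apply Subtype.ext
    apply Subtype.ext
    exact h.is_comm.comm (a : C).1 (b : C).1
  have h2 : commutator ↥Q = ⊥ := by
    rw [commutator_def, Subgroup.commutator_eq_bot_iff_le_centralizer]
    intro x _
    exact Subgroup.mem_centralizer_iff.2 fun y _ => h1 y x
  have h3 := hQ.1.2.2
  have h4 := hQ.2
  rw [← h3, h2, Subgroup.card_bot] at h4
  omega

theorem card_perm3 : Nat.card (Equiv.Perm (Fin 3)) = 6 := by
  rw [Nat.card_eq_fintype_card, Fintype.card_perm]; rfl

theorem card_perm6 : Nat.card (Equiv.Perm (Fin 6)) = 720 := by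
  rw [Nat.card_eq_fintype_card, Fintype.card_perm]; rfl

theorem card_alt6 : Nat.card ↥(alternatingGroup (Fin 6)) = 360 := by
  have h := two_mul_nat_card_alternatingGroup (α := Fin 6)
  rw [card_perm6] at h
  omega

theorem card_S3A6 : Nat.card (Equiv.Perm (Fin 3) × ↥(alternatingGroup (Fin 6))) = 2160 := by
  rw [Nat.card_prod, card_perm3, card_alt6]

theorem card_S3S6 : Nat.card (Equiv.Perm (Fin 3) × Equiv.Perm (Fin 6)) = 4320 := by
  rw [Nat.card_prod, card_perm3, card_perm6]

/-- the sum of the signs -/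
def sg : Equiv.Perm (Fin 3) × Equiv.Perm (Fin 6) →* ℤˣ :=
  Equiv.Perm.sign.comp (MonoidHom.fst (Equiv.Perm (Fin 3)) (Equiv.Perm (Fin 6))) *
          Equiv.Perm.sign.comp (MonoidHom.snd (Equiv.Perm (Fin 3)) (Equiv.Perm (Fin 6)))

theorem card_ker : Nat.card sg.ker = 2160 := by
  have h1 := sg.ker.card_mul_index
  have h2 : Function.Surjective sg := by
    intro u
    obtain ⟨x, hx⟩ := Equiv.Perm.sign_surjective (Fin 3) u
    refine ⟨(x, 1), ?_⟩
    simp [sg, hx]
  have h3 : sg.ker.index = 2 := by
    rw [Subgroup.index_ker, MonoidHom.range_eq_top.2 h2, Subgroup.card_top, Nat.card_eq_fintype_card]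
    rfl
  rw [h3, card_S3S6] at h1
  omega

/-- the contradiction from the index -/
theorem main {G : Type*} [Group G] [Finite G] [IsSimpleGroup G] (hG : ¬ IsMulCommutative G)
    (z : G) (hz : orderOf z = 2)
    (hE : Cfsg.IsExtraspecial 2 ↥(Cfsg.generalizedFittingSubgroup ↥(Subgroup.centralizer ({z} : Set G))))
    (hcard : Nat.card ↥(Cfsg.generalizedFittingSubgroup ↥(Subgroup.centralizer ({z} : Set G))) = 2 ^ 9)
    (hi : (Cfsg.generalizedFittingSubgroup ↥(Subgroup.centralizer ({z} : Set G))).index = 2160 ∨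
      (Cfsg.generalizedFittingSubgroup ↥(Subgroup.centralizer ({z} : Set G))).index = 4320) : False := by
  apply NineKill.main hG z hz hE hcard
  · rcases hi with h | h <;> rw [h] <;> norm_num
  · rcases hi with h | h <;> rw [h] <;> norm_num
  · rcases hi with h | h <;> rw [h] <;> norm_num

end Cfsg.Agent.H329.NineEnd
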