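import Cfsg.Agent.LargeExtra.KillNine.Codes

/-!
# The configuration `confHN` of S1763: `25` divides `|H|` (helper329, for S3283, S3284)
-/

set_option autoImplicit false

namespace Cfsg.Agent.H329.NineHN

open Cfsg.Agent.Co2Type.Quad Cfsg.Agent.LargeExtra.Base Cfsg.Agent.LargeExtra.Nine
open Cfsg.Agent.LargeExtra.KillNine.Codes

/-- two independent commuting elements of order `p` -/
theorem sq_dvd_card {H : Type*} [Group H] [Finite H] {p : ℕ} [Fact p.Prime] {x y : H}
    (hx : x ^ p = 1) (hx1 : x ≠ 1) (hy : y ^ p = 1) (hxy : x * y = y * x)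
    (hn : y ∉ Subgroup.zpowers x) : p ^ 2 ∣ Nat.card H := by
  let C := Subgroup.centralizer ({x} : Set H)
  have hxC : x ∈ C := Subgroup.mem_centralizer_singleton_iff.2 rfl
  have hyC : y ∈ C := Subgroup.mem_centralizer_singleton_iff.2 hxy.symm
  let xC : C := ⟨x, hxC⟩
  let yC : C := ⟨y, hyC⟩
  have hZ : Subgroup.zpowers xC ≤ Subgroup.center C := by
    rw [Subgroup.zpowers_le, Subgroup.mem_center_iff]
    intro g
    apply Subtype.ext
    exact Subgroup.mem_centralizer_singleton_iff.1 g.2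
  have hnorm : (Subgroup.zpowers xC).Normal := ⟨fun n hn g => by
    have h1 := (Subgroup.mem_center_iff.1 (hZ hn)) g
    rw [h1, mul_assoc, mul_inv_cancel, mul_one]; exact hn⟩
  have hox : orderOf xC = p := by
    have h1 : orderOf x = p := orderOf_eq_prime hx hx1
    rw [Subgroup.orderOf_mk, h1]
  have hoy : orderOf (QuotientGroup.mk yC : C ⧸ Subgroup.zpowers xC) = p := by
    apply orderOf_eq_prime
    · rw [← QuotientGroup.mk_pow]
      have : yC ^ p = 1 := Subtype.ext hy
      rw [this, QuotientGroup.mk_one]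
    · intro h1
      rw [QuotientGroup.eq_one_iff] at h1
      obtain ⟨k, hk⟩ := Subgroup.mem_zpowers_iff.1 h1
      apply hn
      refine Subgroup.mem_zpowers_iff.2 ⟨k, ?_⟩
      exact congrArg Subtype.val hk
  have h2 : p ∣ Nat.card (C ⧸ Subgroup.zpowers xC) := by
    have := orderOf_dvd_natCard (QuotientGroup.mk yC : C ⧸ Subgroup.zpowers xC)
    rwa [hoy] at this
  have h3 : Nat.card C = Nat.card (C ⧸ Subgroup.zpowers xC) * p := by
    rw [Subgroup.card_eq_card_quotient_mul_card_subgroup (Subgroup.zpowers xC), Nat.card_zpowers, hox]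
  have h4 : p ^ 2 ∣ Nat.card C := by
    rw [h3, pow_two]
    exact Nat.mul_dvd_mul h2 (dvd_refl p)
  exact h4.trans (Subgroup.card_subgroup_dvd_card C)

/-- the first matrix -/
def LX : List ℕ := mulL [1,2,4,9,144,36,66,128] [73,10,20,8,16,32,64,176]
/-- the second matrix -/
def LY : List ℕ := mulL [1,2,5,8,88,40,64,131] [129,6,4,24,16,32,96,128]

variable {G : Type*} [Group G] {Q A : Subgroup G} {z a : G}

theorem acts_pow {h : Large Q z} {φ : Coord h} {L : List ℕ} {f : h.V ≃ₗ[ZMod 2] h.V}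
    (hf : Acts φ L f) : ∀ n : ℕ, Acts φ ((fun M => mulL L M)^[n] idL) (f ^ n)
  | 0 => by rw [pow_zero]; exact Acts.one
  | n + 1 => by
      rw [pow_succ, Function.iterate_succ_apply']
      exact Acts.mul hf (acts_pow hf n)

theorem code_eq {h : Large Q z} {φ : Coord h} {L M : List ℕ} {f : h.V ≃ₗ[ZMod 2] h.V}
    (hf : Acts φ L f) (hg : Acts φ M f) {n : ℕ} (h1 : ap L n < 256) (h2 : ap M n < 256) :
    ap L n = ap M n := by
  apply vec_inj _ h1 _ h2
  rw [← lin_vec, ← lin_vec]
  have e1 := hf (φ.e.symm (vec n))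
  have e2 := hg (φ.e.symm (vec n))
  rw [φ.e.apply_symm_apply] at e1 e2
  rw [← e1, ← e2]

theorem twentyfive_dvd [Finite G] (p : Pair Q z A a) (φ : Coord p.lz) (hc : IsConf p φ confHN) :
    25 ∣ Nat.card p.H := by
  obtain ⟨f0, hf0, hf0'⟩ := hc.X [1,2,4,9,144,36,66,128] (by simp [confHN, X3])
  obtain ⟨f1, hf1, hf1'⟩ := hc.X [1,2,5,8,88,40,64,131] (by simp [confHN, X3])
  obtain ⟨g0, hg0, hg0'⟩ := hc.N [129,6,4,24,16,32,96,128] (by simp [confHN])
  obtain ⟨g2, hg2, hg2'⟩ := hc.N [73,10,20,8,16,32,64,176] (by simp [confHN])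
  have hx : Acts φ LX (g2 * f0) := Acts.mul hf0' hg2'
  have hy : Acts φ LY (g0 * f1) := Acts.mul hf1' hg0'
  have hxH : g2 * f0 ∈ p.H := p.H.mul_mem hg2 (p.X_le_H hf0)
  have hyH : g0 * f1 ∈ p.H := p.H.mul_mem hg0 (p.X_le_H hf1)
  have hx5 : (g2 * f0) ^ 5 = 1 := by
    have h1 := acts_pow hx 5
    rw [show (fun M => mulL LX M)^[5] idL = idL from by decide +kernel] at h1
    exact Acts.ext h1 Acts.one
  have hy5 : (g0 * f1) ^ 5 = 1 := by
    have h1 := acts_pow hy 5
    rw [show (fun M => mulL LY M)^[5] idL = idL from by decide +kernel] at h1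
    exact Acts.ext h1 Acts.one
  have hxy : (g2 * f0) * (g0 * f1) = (g0 * f1) * (g2 * f0) := by
    have h1 := Acts.mul hy hx
    have h2 := Acts.mul hx hy
    rw [show mulL LY LX = mulL LX LY from by decide +kernel] at h1
    exact Acts.ext h1 h2
  have hx1 : g2 * f0 ≠ 1 := by
    intro h1
    rw [h1] at hx
    have := code_eq hx Acts.one (n := 1) (by decide +kernel) (by decide +kernel)
    exact absurd this (by decide +kernel)
  have hne : ∀ i < 5, g0 * f1 ≠ (g2 * f0) ^ i := by
    intro i hi h1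
    have h2 := acts_pow hx i
    rw [← h1] at h2
    have h3 : ∀ i < 5, ap ((fun M => mulL LX M)^[i] idL) 1 < 256 ∧
        ap LY 1 ≠ ap ((fun M => mulL LX M)^[i] idL) 1 := by decide +kernel
    exact (h3 i hi).2 (code_eq hy h2 (by decide +kernel) (h3 i hi).1)
  have hfive : Fact (Nat.Prime 5) := ⟨by norm_num⟩
  have hfin : Finite p.H :=
    Finite.of_surjective p.lz.act.rangeRestrict p.lz.act.rangeRestrict_surjective
  have key := sq_dvd_card (H := p.H) (p := 5) (x := ⟨g2 * f0, hxH⟩) (y := ⟨g0 * f1, hyH⟩)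
    (Subtype.ext hx5) (fun h => hx1 (congrArg Subtype.val h)) (Subtype.ext hy5) (Subtype.ext hxy) (by
      intro h1
      obtain ⟨k, hk⟩ := Subgroup.mem_zpowers_iff.1 h1
      have hk' : (g2 * f0) ^ k = g0 * f1 := congrArg Subtype.val hk
      have hox : orderOf (g2 * f0) = 5 := orderOf_eq_prime hx5 hx1
      have h5 : (g2 * f0) ^ (k % 5) = (g2 * f0) ^ k := by
        have := zpow_mod_orderOf (g2 * f0) k
        rw [hox] at this
        exact_mod_cast this
      have h6 : 0 ≤ k % 5 := Int.emod_nonneg _ (by norm_num)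
      have h7 : k % 5 < 5 := Int.emod_lt_of_pos _ (by norm_num)
      obtain ⟨i, hi⟩ := Int.eq_ofNat_of_zero_le h6
      apply hne i (by omega)
      rw [← hk', ← h5, hi]
      exact zpow_natCast _ i)
  norm_num at key
  exact key

end Cfsg.Agent.H329.NineHN
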