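import Cfsg.Prelude.Def_ClassificationK
import Cfsg.Prelude.Def_LieTwisted
import Cfsg.Prelude.Def_Spor_Conway
import Cfsg.Prelude.Def_Spor_Th
import Cfsg.Agent.S0243
import Cfsg.Agent.S0280
import Cfsg.Agent.S0293
import Cfsg.Agent.S0294
import Cfsg.Agent.S1067
import Cfsg.Agent.S0399
import Cfsg.Agent.S1700
import Cfsg.Agent.Co2Type.CardCo2

/-!
# Orders of the groups of S1763 other than HN (helper329, for S3283, S3284)
-/

set_option autoImplicit false

namespace Cfsg.Agent.H329.NineOrd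

/-- `|G|_2` is `2^13` or `2^14` -/
def Two (n : ℕ) : Prop := 2 ^ 13 ∣ n ∧ ¬ 2 ^ 15 ∣ n

variable {G : Type*} [Group G]

theorem psl6 {F : Type} [Field F] [Fintype F] (hF : Fintype.card F = 2)
    (e : G ≃* Matrix.ProjectiveSpecialLinearGroup (Fin 6) F) : ¬ Two (Nat.card G) := by
  have h := Cfsg.Agent.S0243.result (F := F) (q := 2) hF 6 (by norm_num)
  rw [← Nat.card_congr e.toEquiv, show Nat.gcd 6 (2 - 1) = 1 from rfl, Fin.prod_univ_six] at h
  norm_num at h
  rw [Two, h]
  norm_num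

theorem psu6 {F : Type} [Field F] [Fintype F] (hF : Fintype.card F = 4)
    (e : G ≃* Cfsg.PSU 6 F 2) : ¬ Two (Nat.card G) := by
  have h := Cfsg.Agent.S0280.result (F := F) (q := 2) (by rw [hF]; norm_num) 6 (by norm_num)
  rw [← Nat.card_congr e.toEquiv, show Nat.gcd 6 (2 + 1) = 3 from rfl] at h
  simp only [Finset.prod_range_succ, Finset.prod_range_zero] at h
  norm_num [Nat.even_iff] at h
  have : Nat.card G = 9196830720 := by omega
  rw [Two, this]
  norm_num

theorem oplus2 {F : Type} [Field F] [Fintype F] (hF : Fintype.card F = 2)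
    (e : G ≃* Cfsg.POmega F (Cfsg.quadFormPlus 4 F)) : ¬ Two (Nat.card G) := by
  have h := Cfsg.Agent.S0293.result (F := F) (q := 2) hF 4 (by norm_num)
  rw [← Nat.card_congr e.toEquiv] at h
  simp only [Finset.prod_range_succ, Finset.prod_range_zero] at h
  norm_num at h
  rw [Two, h]
  norm_num

theorem oplus3 {F : Type} [Field F] [Fintype F] (hF : Fintype.card F = 3)
    (e : G ≃* Cfsg.POmega F (Cfsg.quadFormPlus 4 F)) : ¬ Two (Nat.card G) := by
  have h := Cfsg.Agent.S0293.result (F := F) (q := 3) hF 4 (by norm_num)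
  rw [← Nat.card_congr e.toEquiv] at h
  simp only [Finset.prod_range_succ, Finset.prod_range_zero] at h
  norm_num at h
  have : Nat.card G = 4952179814400 := by omega
  rw [Two, this]
  norm_num

theorem ominus2 {F : Type} [Field F] [Fintype F] (hF : Fintype.card F = 2) (a b : F)
    (hab : ∀ z₁ z₂ : F, z₁ ^ 2 + a * z₁ * z₂ + b * z₂ ^ 2 = 0 → z₁ = 0 ∧ z₂ = 0)
    (e : G ≃* Cfsg.POmega F (Cfsg.quadFormMinus 3 F a b)) : ¬ Two (Nat.card G) := by
  have h := Cfsg.Agent.S0294.result (F := F) (q := 2) hF 4 (by norm_num) a b hab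
  rw [← Nat.card_congr e.toEquiv] at h
  simp only [Finset.prod_range_succ, Finset.prod_range_zero] at h
  norm_num at h
  rw [Two, h]
  norm_num

theorem d4 {K : Type} [Field K] [Fintype K] (hK : Fintype.card K = 8)
    (e : G ≃* ↥(Cfsg.Lie.twistedD4 K 2)) : ¬ Two (Nat.card G) := by
  have h := Cfsg.Agent.S1067.result (K := K) (q := 2) (Nat.prime_two.isPrimePow) (by rw [hK]; norm_num)
  rw [← Nat.card_congr e.toEquiv] at h
  norm_num at h
  rw [Two, h]
  norm_num

theorem co1 (h : Cfsg.Spor.IsoCo1 G) : ¬ Two (Nat.card G) := by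
  obtain ⟨e⟩ := h
  rw [Nat.card_congr e.toEquiv, Cfsg.Agent.S0399.result.2, Two]
  norm_num

theorem co2 (h : Cfsg.Spor.IsoCo2 G) : ¬ Two (Nat.card G) := by
  obtain ⟨e⟩ := h
  rw [Nat.card_congr e.toEquiv, Cfsg.Agent.Co2Type.CardCo2.card_co2, Two]
  norm_num

theorem th (h : Cfsg.Spor.IsoTh G) : ¬ Two (Nat.card G) := by
  obtain ⟨e⟩ := h
  rw [Nat.card_congr e.toEquiv, Cfsg.Agent.S1700.result.2, Two]
  norm_num

end Cfsg.Agent.H329.NineOrd
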