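import Cfsg.Agent.S1763
import Cfsg.Agent.LargeExtra.Nine.Assembly
import Cfsg.Agent.LargeExtra.Red.Final
import Cfsg.Agent.Held.ExtClassify
import Cfsg.Agent.LargeExtra.TwoCentral
import Cfsg.Agent.H329.NineOrd
import Cfsg.Agent.H329.NineHN

/-!
# Large extraspecial subgroups of order `2^9`: `|C(z)/Q|_2 ∈ {2^4, 2^5}`, `25 ∤ |C(z)/Q|` is impossible
(helper329, for S3283, S3284)
-/

set_option autoImplicit false

namespace Cfsg.Agent.H329.NineKill

open Cfsg.Agent.Co2Type.Quad Cfsg.Agent.LargeExtra.Base Cfsg.Agent.LargeExtra.SiegelOrbit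
open Cfsg.Agent.LargeExtra.Nine Cfsg.Agent.LargeExtra.Tri.FreeMod Cfsg.Agent.LargeExtra
open Cfsg.Agent.H329.NineOrd

/-- `|H|` divides `|C(z) : Q|` -/
theorem card_H_dvd {G : Type*} [Group G] [Finite G] {z a : G} {A : Subgroup G}
    {F : Subgroup ↥(Subgroup.centralizer ({z} : Set G))}
    (p : Pair (F.map (Subgroup.centralizer ({z} : Set G)).subtype) z A a) :
    Nat.card p.H ∣ F.index := by
  have h1 : Nat.card p.H = p.lz.act.ker.index := by
    rw [Subgroup.index_ker]; rfl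
  rw [h1]
  apply Subgroup.index_dvd_of_le
  intro g hg
  rw [MonoidHom.mem_ker]
  exact p.lz.act_mem g ⟨g, hg, rfl⟩

theorem two_card {G : Type*} [Group G] [Finite G] {z : G} (hz : orderOf z = 2)
    (hE : Cfsg.IsExtraspecial 2 ↥(Cfsg.generalizedFittingSubgroup ↥(Subgroup.centralizer ({z} : Set G))))
    (hcard : Nat.card ↥(Cfsg.generalizedFittingSubgroup ↥(Subgroup.centralizer ({z} : Set G))) = 2 ^ 9)
    (h4 : 2 ^ 4 ∣ (Cfsg.generalizedFittingSubgroup ↥(Subgroup.centralizer ({z} : Set G))).index)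
    (h6 : ¬ 2 ^ 6 ∣ (Cfsg.generalizedFittingSubgroup ↥(Subgroup.centralizer ({z} : Set G))).index) :
    Two (Nat.card G) := by
  have hodd := TwoCentral.odd_index (large_of_genFitting z hz hE)
  have h1 := (Subgroup.centralizer ({z} : Set G)).card_mul_index
  have h2 := (Cfsg.generalizedFittingSubgroup ↥(Subgroup.centralizer ({z} : Set G))).card_mul_index
  rw [hcard] at h2
  constructor
  · rw [← h1, ← h2]
    exact Dvd.dvd.mul_right (by
      rw [show (2 : ℕ) ^ 13 = 2 ^ 9 * 2 ^ 4 by norm_num]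
      exact Nat.mul_dvd_mul (dvd_refl _) h4) _
  · intro h15
    apply h6
    rw [← h1, ← h2] at h15
    have hco : Nat.Coprime (2 ^ 15) (Subgroup.centralizer ({z} : Set G)).index :=
      Nat.Coprime.pow_left 15 (Nat.coprime_two_left.2 hodd)
    have h3 := hco.dvd_of_dvd_mul_right h15
    rw [show (2 : ℕ) ^ 15 = 2 ^ 9 * 2 ^ 6 by norm_num] at h3
    exact Nat.dvd_of_mul_dvd_mul_left (by norm_num) h3

/-- the conclusion of S1763 without HN contradicts the order -/
theorem main {G : Type*} [Group G] [Finite G] [IsSimpleGroup G] (hG : ¬ IsMulCommutative G)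
    (z : G) (hz : orderOf z = 2)
    (hE : Cfsg.IsExtraspecial 2 ↥(Cfsg.generalizedFittingSubgroup ↥(Subgroup.centralizer ({z} : Set G))))
    (hcard : Nat.card ↥(Cfsg.generalizedFittingSubgroup ↥(Subgroup.centralizer ({z} : Set G))) = 2 ^ 9)
    (h4 : 2 ^ 4 ∣ (Cfsg.generalizedFittingSubgroup ↥(Subgroup.centralizer ({z} : Set G))).index)
    (h6 : ¬ 2 ^ 6 ∣ (Cfsg.generalizedFittingSubgroup ↥(Subgroup.centralizer ({z} : Set G))).index)
    (h25 : ¬ 25 ∣ (Cfsg.generalizedFittingSubgroup ↥(Subgroup.centralizer ({z} : Set G))).index) :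
    False := by
  classical
  have hT := two_card hz hE hcard h4 h6
  have R := Cfsg.Agent.S1763.recs hG
  rcases Cfsg.Agent.LargeExtra.Red.Final.final_of z hz hE 4 (by norm_num) hcard
    (fun hna Q' hn' h1 h2 h3 h4 => Cfsg.Agent.Held.ExtClassify.classify hna z hz Q' h1 h2 h3 h4)
    with ⟨F, i1, i2, h2, ⟨h3⟩⟩ | ⟨h2, -⟩ | hI
  · exact psl6 h2 h3 hT
  · exact absurd h2 (by norm_num)
  have h := large_of_genFitting z hz hE
  have hQ : Nat.card ((Cfsg.generalizedFittingSubgroup ↥(Subgroup.centralizer ({z} : Set G))).map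
      (Subgroup.centralizer ({z} : Set G)).subtype) = 2 ^ 9 := by
    rw [← hcard]
    exact Subgroup.card_map_of_injective (Subgroup.subtype_injective _)
  by_cases hwc : ∀ g : G, g * z * g⁻¹ ∈ (Cfsg.generalizedFittingSubgroup
      ↥(Subgroup.centralizer ({z} : Set G))).map (Subgroup.centralizer ({z} : Set G)).subtype →
      g * z * g⁻¹ = z
  · rcases R.caseOne z hz hE hcard hwc with ⟨F, i1, i2, h1, ⟨h2⟩⟩ | h1
    · exact psu6 h1 h2 hT
    · exact co2 h1 hT
  · push Not at hwc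
    obtain ⟨g, hg, hgz⟩ := hwc
    have p := pair_of_conj h hg hgz
    have hO := o2_of_genFitting p.lz rfl
    have hirr := Tri.Irred.irr p hI
    rcases Tri.CaseTwo.case_two (AsmSeven.index_ne_two hG) p hQ hirr with h1 | ⟨h1, h2⟩
    · exact co1 (R.dOne _ _ _ _ p hO hQ h1) hT
    · obtain ⟨x, hx⟩ := h2
      obtain ⟨φ, h⟩ := Enum9.TenConf.exists_conf p hQ hirr hx
      rcases h with h | h | h | h | h | h | h | h | h | h
      · obtain ⟨F, i1, i2, h3, ⟨h4⟩⟩ := R.po83 _ _ _ _ p φ hO hQ h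
        exact oplus3 h3 h4 hT
      · obtain ⟨F, i1, i2, h3, ⟨h4⟩⟩ := R.oplus _ _ _ _ p φ hO hQ h
        exact oplus2 h3 h4 hT
      · obtain ⟨F, i1, i2, h3, a, b, hab, ⟨h4⟩⟩ := R.ominus _ _ _ _ p φ hO hQ h
        exact ominus2 h3 a b hab h4 hT
      · obtain ⟨F, i1, i2, h3, ⟨h4⟩⟩ := R.d4 _ _ _ _ p φ hO hQ h
        exact d4 h3 h4 hT
      · exact h25 ((NineHN.twentyfive_dvd p φ h).trans (card_H_dvd p))
      · exact th (R.th _ _ _ _ p φ hO hQ h) hT
      · exact KillNine.Final.killK2 p φ h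
      · exact KillNine.Final.killK3 p φ h
      · exact KillNine.Final.killK4 p φ h
      · exact KillNine.Final.killK5 p φ h

end Cfsg.Agent.H329.NineKill
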