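import Cfsg.Agent.H329.O8Out
import Cfsg.Agent.H318.OutFi24
import Cfsg.Agent.H284.FStd
import Cfsg.Agent.H287.FixInn
import Cfsg.Agent.CpAut.TwoInnerB
import Cfsg.Agent.OrdDiv.Table
import Cfsg.Agent.OddHalf.Known
import Cfsg.Agent.H283.SporLie
import Cfsg.Agent.H677.OrdSporIso
import Cfsg.Agent.StdAlt.CommHalf
import Cfsg.Agent.StdO8.Final
import Cfsg.Agent.StdL2.Setup
import Cfsg.Agent.OddHalf.Soft

/-!
# Standard subgroups isomorphic to `Ω₈⁺(2)` (helper329)

`main` : `F*(G)` simple, non-abelian, `A ≅ Ω₈⁺(2)` standard in `G`: `F*(G) ≅ Ω₈⁺(4)` or `F*(G) ≅ Fi₂₂`.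
-/

set_option autoImplicit false

namespace Cfsg.Agent.H329.O8Main

open Subgroup Cfsg Cfsg.Agent.OrdDiv Cfsg.Agent.H287 Cfsg.Agent.H284.FStd
open Cfsg.Agent.SignalizersComponents.Components

universe u v

/-! ### no component -/

/-- no component is isomorphic to `Ω₈⁺(2)` -/
def No (H : Type u) [Group H] : Prop := ∀ K : Subgroup H, IsComponent K → ¬ O8.T ↥K

theorem No.congr {H : Type u} {H' : Type v} [Group H] [Group H'] (e : H ≃* H') (h : No H) : No H' := by
  rintro K hK hT
  refine h _ (isComponent_map_equiv e.symm hK) (hT.congr ?_)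
  exact K.equivMapOfInjective e.symm.toMonoidHom e.symm.injective

theorem No.of_hcard {S : ℕ → ℕ → Prop} {H : Type u} [Group H] (h : HCard S H) (hS : ∀ m, ¬ S 174182400 m) : No H := by
  rintro K hK hT
  have h1 := h K hK
  rw [hT.card] at h1
  exact hS _ h1

theorem No.of_fix {S : ℕ → ℕ → Prop} {X : Type u} [Group X] (h : FixCard S X) (hS : ∀ m, ¬ S 174182400 m)
    {x : MulAut X} (hx : orderOf x = 2) : No ↥(fixedSubgroup x) := No.of_hcard (h x hx) hS

theorem chk_dvd : ∀ y ∈ spor, y.1 ∉ ([.suz, .co1, .co2, .fi22, .fi23, .fi24, .hn, .th, .b, .m] : List Grp) →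
    ¬ 174182400 ∣ y.2 := by decide +kernel

theorem spor_grp {X : Type u} [Group X] [Finite X] (g : Grp) (hg : g ∈ spor.map (fun x => x.1))
    (hg' : g ∉ ([.suz, .co1, .co2, .fi22, .fi23, .fi24, .hn, .th, .b, .m] : List Grp)) (hS : OrdDiv.Real g X)
    {x : MulAut X} : No ↥(fixedSubgroup x) := by
  rintro K hK hT
  obtain ⟨y, hy, rfl⟩ := List.mem_map.1 hg
  have h1 : Nat.card ↥K ∣ Nat.card X := (card_subgroup_dvd_card K).trans (card_subgroup_dvd_card _)
  rw [OrdDiv.table.spor X y hy hS, hT.card] at h1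
  exact chk_dvd y hy hg' h1

/-! ### the sporadic groups -/

/-- **Outer automorphisms of the sporadic groups.** -/
theorem spor_x {X : Type u} [Group X] [Finite X] [IsSimpleGroup X] (hs : IsSporadicGroup X) {x : MulAut X}
    (hxx : x * x = 1) (hx1 : x ≠ 1) (hout : ¬ ∃ g, x = MulAut.conj g) {A : Subgroup ↥(fixedSubgroup x)}
    (hAn : A.Normal) (hA : IsComponent A) (hT : O8.T ↥A)
    (hodd : ∀ u : ↥(fixedSubgroup x), orderOf u = 2 → ∃ a ∈ A, u * a ≠ a * u) : Spor.IsoFi22 X := by
  have hx : orderOf x = 2 := orderOf_eq_prime (by rw [pow_two, hxx]) hx1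
  have no : ¬ No ↥(fixedSubgroup x) := fun h => h A hA hT
  have hso : (Spor.IsoSuz X ∨ Spor.IsoHN X) → False := by
    intro h
    refine O8Out.no_outer h hxx (A := A.map (fixedSubgroup x).subtype) ?_ ?_ ?_ ?_
    · rintro _ ⟨a, -, rfl⟩
      exact a.2
    · rintro y hy _ ⟨a, ha, rfl⟩
      exact ⟨_, hAn.conj_mem a ha ⟨y, hy⟩, rfl⟩
    · exact hT.congr (A.equivMapOfInjective _ (subtype_injective _))
    · intro u hu hxu
      obtain ⟨a, ha, hne⟩ := hodd ⟨u, (show u ∈ fixedSubgroup x from hxu)⟩ (by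
        rw [← Subgroup.orderOf_coe]; exact hu)
      refine ⟨a, ⟨a, ha, rfl⟩, fun h => hne ?_⟩
      exact Subtype.ext h
  rcases hs with hs | hs | hs | hs | hs | hs | hs | hs | hs | hs | hs | hs | hs | hs | hs | hs | hs | hs | hs | hs | hs |
    hs | hs | hs | hs | hs
  · exact (no (spor_grp .m11 (by decide) (by decide) hs)).elim
  · exact (no (spor_grp .m12 (by decide) (by decide) hs)).elim
  · exact (no (spor_grp .m22 (by decide) (by decide) hs)).elim
  · exact (no (spor_grp .m23 (by decide) (by decide) hs)).elim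
  · exact (no (spor_grp .m24 (by decide) (by decide) hs)).elim
  · exact (no (spor_grp .j1 (by decide) (by decide) hs)).elim
  · exact (no (spor_grp .j2 (by decide) (by decide) hs)).elim
  · exact (no (spor_grp .j3 (by decide) (by decide) hs)).elim
  · exact (no (spor_grp .j4 (by decide) (by decide) hs)).elim
  · exact (no (No.of_fix (H287.fix_co1 hs) (by rintro m ⟨h, -⟩; norm_num at h) hx)).elim
  · exact (no (No.of_fix (H287.fix_co2 hs) (by rintro m h; exact h) hx)).elim
  · exact (no (spor_grp .co3 (by decide) (by decide) hs)).elim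
  · exact (no (spor_grp .mcl (by decide) (by decide) hs)).elim
  · exact (no (spor_grp .hs (by decide) (by decide) hs)).elim
  · exact (hso (Or.inl hs)).elim
  · exact (no (spor_grp .he (by decide) (by decide) hs)).elim
  · exact (no (spor_grp .ru (by decide) (by decide) hs)).elim
  · exact (no (spor_grp .on (by decide) (by decide) hs)).elim
  · exact (no (spor_grp .ly (by decide) (by decide) hs)).elim
  · exact hs
  · exact (no (No.of_fix (H287.fix_fi23 hs) (by rintro m (⟨h, -⟩ | ⟨-, h | h | h⟩) <;> norm_num at h) hx)).elim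
  · exact (no (No.of_hcard (H318.OutFi24.outCard_fi24 hs x hx hout) (by rintro m (h | h) <;> norm_num at h))).elim
  · exact (hso (Or.inr hs)).elim
  · exact (no (No.of_fix (H287.fix_th hs) (by rintro m h; exact h) hx)).elim
  · exfalso
    obtain ⟨e⟩ := hs
    obtain ⟨g, hg⟩ := CpAut.TwoInner.inner_b (MulAut.congr e x)
    apply hout
    refine ⟨e.symm g, ?_⟩
    ext y
    apply e.injective
    have h1 := DFunLike.congr_fun hg (e y)
    rw [MulAut.conj_apply] at h1
    rw [MulAut.conj_apply, map_mul, map_mul, map_inv, e.apply_symm_apply, ← h1]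
    simp [MulAut.congr]
  · exact (no (No.of_fix (H287.fix_m hs) (by rintro m ⟨h, -⟩; norm_num at h) hx)).elim

/-! ### balance -/

/-- the Unbalanced Group Theorem -/
def UG : Prop := ∀ {G : Type u} [Group G] [Finite G], IsSimpleGroup ↥(generalizedFittingSubgroup G) →
  ¬ IsMulCommutative ↥(generalizedFittingSubgroup G) → ∀ t : G, orderOf t = 2 → centralizerPPrimeCore 2 t ≠ ⊥ →
  (∃ p : ℕ, p.Prime ∧ p ≠ 2 ∧ IsLieTypeChar p ↥(generalizedFittingSubgroup G)) ∨
    (∃ n : ℕ, Odd n ∧ 7 ≤ n ∧ Nonempty (↥(generalizedFittingSubgroup G) ≃* ↥(alternatingGroup (Fin n)))) ∨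
    (∃ (F : Type) (_ : Field F) (_ : Fintype F), Fintype.card F = 4 ∧
      Nonempty (↥(generalizedFittingSubgroup G) ≃* Matrix.ProjectiveSpecialLinearGroup (Fin 3) F)) ∨
    Spor.IsoHe ↥(generalizedFittingSubgroup G)

theorem bal (hU : UG.{u}) {X : Type u} [Group X] [Finite X] [IsSimpleGroup X] (hna : ¬ IsMulCommutative X) (hs : IsSporadicGroup X)
    (hd : 174182400 ∣ Nat.card X) (t : X) (ht : orderOf t = 2) : centralizerPPrimeCore 2 t = ⊥ := by
  by_contra hne
  have hF : generalizedFittingSubgroup X = ⊤ := OddHalf.Soft.fstar_eq_top hna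
  have e : ↥(generalizedFittingSubgroup X) ≃* X := (MulEquiv.subgroupCongr hF).trans topEquiv
  have hsF : IsSimpleGroup ↥(generalizedFittingSubgroup X) := e.isSimpleGroup
  have hnaF : ¬ IsMulCommutative ↥(generalizedFittingSubgroup X) := by
    intro h
    apply hna
    refine ⟨⟨fun a b => ?_⟩⟩
    apply e.symm.injective
    rw [map_mul, map_mul, h.is_comm.comm]
  have hsp : IsSporadicGroup ↥(generalizedFittingSubgroup X) := OddHalf.Known.isSporadic_congr e.symm hs
  rcases hU hsF hnaF t ht hne with ⟨p, hp, -, h⟩ | ⟨n, -, hn, ⟨f⟩⟩ | ⟨F, i1, i2, hF4, ⟨f⟩⟩ | h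
  · exact H283.SporLie.not_lie hp h (Or.inl hsp)
  · have hn2 : Nontrivial (Fin n) := Fin.nontrivial_iff_two_le.2 (by omega)
    have h2 : 2 * Nat.card ↥(generalizedFittingSubgroup X) = n.factorial := by
      rw [Nat.card_congr f.toEquiv, Nat.card_eq_fintype_card, two_mul_card_alternatingGroup, Fintype.card_perm,
        Fintype.card_fin]
    exact H677.OrdSporIso.alt_spor (Or.inl hsp) h2
  · have : CharP F 2 := by
      have hp := Fact.mk Nat.prime_two
      exact charP_of_card_eq_prime_pow (f := 2) (by rw [hF4]; norm_num)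
    have hl : IsLieTypeChar 2 ↥(generalizedFittingSubgroup X) := by
      have : IsPSLChar 2 ↥(generalizedFittingSubgroup X) :=
        ⟨F, inferInstance, inferInstance, inferInstance, 3, by norm_num, by norm_num, ⟨f⟩⟩
      unfold IsLieTypeChar
      tauto
    exact H283.SporLie.not_lie Nat.prime_two hl (Or.inl hsp)
  · have h1 := OrdDiv.table.spor (X) (.he, 4030387200) (by decide) (by
      obtain ⟨f⟩ := h
      exact ⟨e.symm.trans f⟩)
    rw [h1] at hd
    exact absurd hd (by norm_num)

/-! ### the main result -/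

/-- the subgroup `A` of `C_X(t)` is normal -/
theorem BB_normal {G : Type u} [Group G] [Finite G] {X A : Subgroup G} [hX : X.Normal] (hA : IsStandardSubgroup A)
    {t : G} (ht : orderOf t = 2) (htA : t ∈ centralizer (A : Set G)) : (BB X A t).Normal := by
  refine ⟨fun a ha y => ?_⟩
  have hy : ((y : ↥X) : G) ∈ centralizer ({t} : Set G) := by
    rw [mem_centralizer_singleton_iff]
    exact (mem_fix.1 y.2).symm
  have hn := Cfsg.Agent.SignalizersComponents.StandardTrichotomy.centralizer_involution_le hA ht htA hy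
  exact (mem_normalizer_iff.1 hn _).1 ha

/-- **`F*(G)` simple.** -/
theorem main (hU : UG.{u}) {G : Type u} [Group G] [Finite G] (hs : IsSimpleGroup ↥(generalizedFittingSubgroup G))
    (hna : ¬ IsMulCommutative ↥(generalizedFittingSubgroup G)) (hk : IsKnownSimple' ↥(generalizedFittingSubgroup G))
    {A : Subgroup G} (hA : IsStandardSubgroup A)
    (hT : O8.T ↥A) :
    (∃ (F : Type) (_ : Field F) (_ : Fintype F), Fintype.card F = 4 ∧
      Nonempty (↥(generalizedFittingSubgroup G) ≃* POmega F (quadFormPlus 4 F))) ∨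
      Spor.IsoFi22 ↥(generalizedFittingSubgroup G) := by
  obtain ⟨h1, h2, t, htA, ht⟩ := fstd hs hna hA
  have hn : (generalizedFittingSubgroup G).Normal := Lib.GenFitting.genFitting_normal
  obtain ⟨h3, h4, h5⟩ := comp_fix h2 hA h1 ht htA
  have hBn := BB_normal (X := generalizedFittingSubgroup G) hA ht htA
  have hBT : O8.T ↥(BB (generalizedFittingSubgroup G) A t) := hT.congr (BBequiv h1 htA).symm
  rcases O8.row hna hk h3 h4 hBn h5 hBT with h | h
  · exact Or.inl h
  right
  by_cases hev : ∃ s ∈ centralizer (A : Set G), s ∈ generalizedFittingSubgroup G ∧ orderOf s = 2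
  · exfalso
    obtain ⟨s, hsA, hsX, hso⟩ := hev
    have hstd := StdL2.Setup.std_subgroupOf h1 hA hso hsA hsX
    have e1 : ↥(A.subgroupOf (generalizedFittingSubgroup G)) ≃* ↥A := subgroupOfEquivOfLe h1
    obtain ⟨e2⟩ := (hT.congr e1.symm).equiv
    refine StdO8.Final.false_of_standard hna StdAlt.CommHalf.commHalf_of_oddCore (bal hU hna h ?_)
      (A.subgroupOf (generalizedFittingSubgroup G)) hstd (ZMod.card 2) e2
    rw [← (hT.congr e1.symm).card]
    exact card_subgroup_dvd_card _
  · refine spor_x h h3 h4 ?_ hBn h5 hBT ?_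
    · rintro ⟨g, hg⟩
      apply hev
      have h6 : (g : G)⁻¹ * t ∈ centralizer (generalizedFittingSubgroup G : Set G) := by
        rw [mem_centralizer_iff]
        intro y hy
        have h7 := congrArg (fun f : MulAut ↥(generalizedFittingSubgroup G) => ((f ⟨y, hy⟩ : ↥(generalizedFittingSubgroup G)) : G)) hg
        change (((MulAut.conjNormal t : MulAut ↥(generalizedFittingSubgroup G)) ⟨y, hy⟩ : ↥(generalizedFittingSubgroup G)) : G) =
          ((MulAut.conj g ⟨y, hy⟩ : ↥(generalizedFittingSubgroup G)) : G) at h7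
        rw [MulAut.conjNormal_apply, MulAut.conj_apply] at h7
        change t * y * t⁻¹ = (g : G) * y * (g : G)⁻¹ at h7
        calc y * ((g : G)⁻¹ * t) = (g : G)⁻¹ * ((g : G) * y * (g : G)⁻¹) * t := by group
          _ = (g : G)⁻¹ * (t * y * t⁻¹) * t := by rw [h7]
          _ = (g : G)⁻¹ * t * y := by group
      rw [h2, mem_bot, inv_mul_eq_one] at h6
      exact ⟨t, htA, by rw [← h6]; exact g.2, ht⟩
    · intro u hu
      by_contra hcon
      push Not at hcon
      apply hev
      refine ⟨((u : ↥(generalizedFittingSubgroup G)) : G), ?_, (u : ↥(generalizedFittingSubgroup G)).2, ?_⟩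
      · rw [mem_centralizer_iff]
        intro a ha
        have h6 : (⟨a, h1 ha⟩ : ↥(generalizedFittingSubgroup G)) ∈ fixedSubgroup
            (MulAut.conjNormal t : MulAut ↥(generalizedFittingSubgroup G)) := le_fix htA (mem_subgroupOf.2 ha)
        have h7 := hcon ⟨⟨a, h1 ha⟩, h6⟩ (mem_subgroupOf.2 (mem_subgroupOf.2 ha))
        have h8 := congrArg (fun z : ↥(fixedSubgroup (MulAut.conjNormal t : MulAut ↥(generalizedFittingSubgroup G))) =>
          ((z : ↥(generalizedFittingSubgroup G)) : G)) h7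
        exact h8.symm
      · rw [Subgroup.orderOf_coe, Subgroup.orderOf_coe, hu]

end Cfsg.Agent.H329.O8Main
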