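import Cfsg.Agent.H329.O8Facts
import Cfsg.Agent.H329.CompHC
import Cfsg.Agent.H283.OddComp
import Cfsg.Agent.H996.AllSplit

/-!
# Components of the fixed points of involutory automorphisms in odd characteristic (helper329)

* `dvd_aut` : `K` simple of Lie type in odd characteristic `p`, not a small Ree group, `x` an involutory automorphism,
  `A` a normal component of `C_K(x)`: `p` divides `|Aut (A/Z(A))|`;
* `O8.not_odd` : `A/Z(A)` is not isomorphic to `Ω₈⁺(2)`.
-/

set_option autoImplicit false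

namespace Cfsg.Agent.H329

open Subgroup Cfsg Cfsg.Agent.FixBN Cfsg.Agent.H283 Cfsg.Agent.H283.OddComp Cfsg.Agent.H283.DescComp

namespace O8Odd

/-- a (B,N)-pair of characteristic `p` in a group of order prime to `p` -/
theorem dvd_of_charBN {Q : Type*} [Group Q] [Finite Q] {p : ℕ} [hp : Fact p.Prime] (h : CharBN p Q) : p ∣ Nat.card Q := by
  by_contra hd
  obtain ⟨P, U, ⟨s, hs⟩, hU, hUB, hn, hc⟩ := h
  have hU1 : ∀ u ∈ U, u = 1 := by
    intro u hu
    by_contra hu1
    obtain ⟨n, hn⟩ := hU.exists_card_eq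
    have h1 : Nat.card U ∣ Nat.card Q := card_subgroup_dvd_card U
    have h2 : n = 0 := by
      by_contra h3
      exact hd ((dvd_pow_self p h3).trans (hn ▸ h1))
    rw [h2, pow_zero] at hn
    have h3 : U = ⊥ := Subgroup.card_eq_one.1 hn
    rw [h3, mem_bot] at hu
    exact hu1 hu
  have hBN : ∀ b ∈ P.B, b ∈ P.B ⊓ P.N := by
    intro b hb
    obtain ⟨u, hu, t, ht, rfl⟩ := hc b hb
    rw [hU1 u hu, one_mul]
    exact ht
  have hsN : s ∈ P.N := P.subset hs
  have hsi : s⁻¹ ∈ P.N := inv_mem hsN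
  refine P.conj_ne s hs ?_
  ext x
  constructor
  · rintro ⟨b, hb, rfl⟩
    have h1 := P.conj_mem s hsN b (hBN b hb)
    have h2 : s * b * s = s * b * s⁻¹ * (s * s) := by group
    change s * b * s ∈ P.B
    rw [h2]
    exact mul_mem h1 (P.sq_mem s hs)
  · intro hx
    refine ⟨s⁻¹ * x * s⁻¹, ?_, by group⟩
    have h1 := P.conj_mem s⁻¹ hsi x (hBN x hx)
    have h2 : s⁻¹ * x * s⁻¹ = s⁻¹ * x * s⁻¹⁻¹ * (s * s)⁻¹ := by group
    change s⁻¹ * x * s⁻¹ ∈ P.B
    rw [h2]
    exact mul_mem h1 (inv_mem (P.sq_mem s hs))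

/-- **The characteristic divides the order of `Aut (A/Z(A))`.** -/
theorem dvd_aut {K : Type*} [Group K] [Finite K] [IsSimpleGroup K] {p : ℕ} [hp : Fact p.Prime] (hp2 : p ≠ 2)
    (h : IsLieTypeChar p K) (hR : ¬ Lie.IsoRee K) {x : MulAut K} (hx : x * x = 1)
    {A : Subgroup ↥(fixedSubgroup x)} (hAn : A.Normal) (hA : IsComponent A) :
    p ∣ Nat.card (MulAut (↥A ⧸ center ↥A)) := by
  by_contra hd
  have hin : Inn p A := by
    rintro u ⟨n, hn⟩
    have hu : u ∈ normalizer (A : Set ↥(fixedSubgroup x)) := by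
      rw [normalizer_eq_top_iff.2 hAn]
      exact mem_top u
    refine mem_sup_of_quo hA.2 hu (a := 1) ?_
    rw [map_one]
    have h1 : (Schreier.Balance.quoAut ↥A (A.normalizerMonoidHom ⟨u, hu⟩)) ^ p ^ n = 1 := by
      rw [← map_pow, ← map_pow]
      have h2 : (⟨u, hu⟩ : ↥(normalizer (A : Set ↥(fixedSubgroup x)))) ^ p ^ n = 1 := Subtype.ext hn
      rw [h2, map_one, map_one]
    have h3 := orderOf_dvd_of_pow_eq_one h1
    obtain ⟨k, -, hk⟩ := (Nat.dvd_prime_pow hp.out).1 h3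
    have h4 : k = 0 := by
      by_contra hk0
      exact hd ((dvd_pow_self p hk0).trans (hk ▸ orderOf_dvd_natCard _))
    rw [h4, pow_zero] at hk
    exact orderOf_eq_one_iff.1 hk
  have h1 := odd_row hp2 h hR x (by rw [pow_two]; exact hx) A hA hin
  have h2 := dvd_of_charBN (p := p) h1
  apply hd
  have hs : IsSimpleGroup (↥A ⧸ center ↥A) := hA.2.2
  have hna : ¬ IsMulCommutative (↥A ⧸ center ↥A) := by
    intro hcm
    have hperf : Group.IsPerfect (↥A ⧸ center ↥A) := by
      have := hA.2.1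
      exact Group.IsPerfect.ofSurjective (QuotientGroup.mk'_surjective (Subgroup.center ↥A))
    have h3 : commutator (↥A ⧸ center ↥A) = ⊥ := by
      rw [commutator_def, Subgroup.commutator_eq_bot_iff_le_centralizer]
      intro a _
      rw [mem_centralizer_iff]
      intro b _
      exact hcm.is_comm.comm _ _
    have h4 : commutator (↥A ⧸ center ↥A) = ⊤ := Group.IsPerfect.commutator_eq_top
    rw [h3] at h4
    exact bot_ne_top h4
  have h5 : Nat.card (MulAut.conj : (↥A ⧸ center ↥A) →* MulAut (↥A ⧸ center ↥A)).range = Nat.card (↥A ⧸ center ↥A) :=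
    Nat.card_congr (MonoidHom.ofInjective (CompSplit.conj_injective hna)).symm.toEquiv
  exact h2.trans (h5 ▸ card_subgroup_dvd_card _)

end O8Odd

namespace O8

/-- the arithmetic -/
theorem arith {p : ℕ} (hp : p.Prime) (hp2 : p ≠ 2) (hd : p ∣ 174182400) :
    ¬ ∃ k ≤ (1045094400 : ℕ).factorization p, (k ≠ 0 ∧ 2 ^ (4 + 1) ∣ p ^ k - 1) ∨ 2 ^ (4 + 1) ∣ p ^ k + 1 := by
  rintro ⟨k, hk, h⟩
  have h1 : p ^ k ∣ 1045094400 := (pow_dvd_pow p hk).trans (Nat.ordProj_dvd _ p)
  have h2 : (174182400 : ℕ) = 2 ^ 12 * 3 ^ 5 * 5 ^ 2 * 7 := by norm_num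
  have h3 : p = 3 ∨ p = 5 ∨ p = 7 := by
    rw [h2] at hd
    rcases (hp.dvd_mul).1 hd with hd | hd
    · rcases (hp.dvd_mul).1 hd with hd | hd
      · rcases (hp.dvd_mul).1 hd with hd | hd
        · exact absurd ((Nat.prime_dvd_prime_iff_eq hp Nat.prime_two).1 (hp.dvd_of_dvd_pow hd)) hp2
        · exact Or.inl ((Nat.prime_dvd_prime_iff_eq hp Nat.prime_three).1 (hp.dvd_of_dvd_pow hd))
      · exact Or.inr (Or.inl ((Nat.prime_dvd_prime_iff_eq hp Nat.prime_five).1 (hp.dvd_of_dvd_pow hd)))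
    · exact Or.inr (Or.inr ((Nat.prime_dvd_prime_iff_eq hp (by norm_num)).1 hd))
  rcases h3 with rfl | rfl | rfl
  · have hk6 : k ≤ 6 := by
      by_contra hc
      have h4 : 3 ^ 7 ∣ 1045094400 := (pow_dvd_pow 3 (by omega)).trans h1
      revert h4
      norm_num
    interval_cases k <;> revert h <;> decide
  · have hk6 : k ≤ 2 := by
      by_contra hc
      have h4 : 5 ^ 3 ∣ 1045094400 := (pow_dvd_pow 5 (by omega)).trans h1
      revert h4
      norm_num
    interval_cases k <;> revert h <;> decide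
  · have hk6 : k ≤ 1 := by
      by_contra hc
      have h4 : 7 ^ 2 ∣ 1045094400 := (pow_dvd_pow 7 (by omega)).trans h1
      revert h4
      norm_num
    interval_cases k <;> revert h <;> decide

/-- **Odd characteristic.** -/
theorem not_odd {K : Type*} [Group K] [Finite K] [IsSimpleGroup K] {p : ℕ} (hp : p.Prime) (hp2 : p ≠ 2)
    (h : IsLieTypeChar p K) {x : MulAut K} (hx : x * x = 1) {A : Subgroup ↥(fixedSubgroup x)} (hAn : A.Normal)
    (hA : IsComponent A) (hT : T (↥A ⧸ center ↥A)) : False := by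
  have key : ∀ {r : ℕ}, r.Prime → r ≠ 2 → IsLieTypeChar r K → r ∣ Nat.card (↥A ⧸ center ↥A) → False := by
    intro r hr hr2 h hd
    have : Fact r.Prime := ⟨hr⟩
    have hs := H996.AllSplit.hasSplit_of_lie hr h
    have h1 := CompHC.comp_HC hr2 hs x hx A hA.2 (hd.trans (card_quotient_dvd_card _)) hT.HC
    rw [hT.card_aut] at h1
    rw [hT.card] at hd
    exact arith hr hr2 hd h1
  by_cases hR : Lie.IsoRee K
  · refine key Nat.prime_three (by norm_num) ?_ (by rw [hT.card]; norm_num)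
    unfold IsLieTypeChar
    tauto
  · have : Fact p.Prime := ⟨hp⟩
    have h1 := O8Odd.dvd_aut hp2 h hR hx hAn hA
    refine key hp hp2 h ?_
    rw [hT.card_aut] at h1
    rw [hT.card]
    have h2 : (1045094400 : ℕ) = 2 * 3 * 174182400 := by norm_num
    rw [h2] at h1
    rcases (hp.dvd_mul).1 h1 with h1 | h1
    · rcases (hp.dvd_mul).1 h1 with h1 | h1
      · exact absurd ((Nat.prime_dvd_prime_iff_eq hp Nat.prime_two).1 h1) hp2
      · rw [(Nat.prime_dvd_prime_iff_eq hp Nat.prime_three).1 h1]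
        norm_num
    · exact h1

end O8

end Cfsg.Agent.H329
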