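import Cfsg.Agent.H329.O8Odd
import Cfsg.Agent.H284.AltComp
import Cfsg.Agent.H292.RowAll
import Cfsg.Agent.H78.TeFour
import Cfsg.Agent.OddHalf.Known
import Cfsg.Agent.OrdDiv.Table

/-!
# Components isomorphic to `Ω₈⁺(2)` in the fixed points of an involutory automorphism of a known simple group (helper329)

`row` : `X` a known simple group, `x` an involutory automorphism, `A` a normal component of `C_X(x)`, `A ≅ Ω₈⁺(2)`:
`X ≅ Ω₈⁺(4)` or `X` is sporadic.
-/

set_option autoImplicit false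

namespace Cfsg.Agent.H329.O8

open Subgroup Cfsg Cfsg.Agent.OrdDiv Cfsg.Agent.H902 Cfsg.Agent.H902.Names

universe u v

section quot

variable {A : Type*} [Group A]

theorem T.na (h : T A) : ¬ IsMulCommutative A := by
  intro hc
  have h1 := h.simple
  have h2 : center A = ⊤ := by
    rw [eq_top_iff]
    intro a _
    rw [mem_center_iff]
    intro b
    exact hc.is_comm.comm _ _
  obtain ⟨e⟩ := h
  have h3 : center (StdO8.Model.Om) = ⊤ := by
    rw [eq_top_iff]
    intro a _
    rw [mem_center_iff]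
    intro b
    obtain ⟨a', rfl⟩ := e.surjective a
    obtain ⟨b', rfl⟩ := e.surjective b
    rw [← map_mul, ← map_mul, hc.is_comm.comm b' a']
  rw [StdO8.Model.center_Om] at h3
  have h4 : Nat.card StdO8.Model.Om = 1 := by
    rw [← card_top, ← h3, card_bot]
  rw [H245.O8Refl.card_Om] at h4
  exact absurd h4 (by norm_num)

theorem T.center (h : T A) : center A = ⊥ := by
  have h1 := h.simple
  rcases IsSimpleGroup.eq_bot_or_eq_top_of_normal (Subgroup.center A) inferInstance with h2 | h2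
  · exact h2
  · exfalso
    apply h.na
    refine ⟨⟨fun a b => ?_⟩⟩
    have h3 : b ∈ Subgroup.center A := by rw [h2]; exact mem_top b
    exact mem_center_iff.1 h3 a

theorem T.quot (h : T A) : T (A ⧸ Subgroup.center A) :=
  h.congr ((QuotientGroup.quotientMulEquivOfEq h.center).trans QuotientGroup.quotientBot).symm

/-- the name -/
theorem T.n2 (h : T A) : N2 (.oplus 4 2) (Nat.card A) := by
  obtain ⟨e⟩ := h.equiv
  have h1 := (H292.Rows.nam_plus (ZMod 2) (n := 4) le_rfl e).2
  rwa [ZMod.card] at h1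

end quot

theorem lt_fac {n : ℕ} (h : 2 * 174182400 = n.factorial) : False := by
  rcases Nat.lt_or_ge n 12 with h1 | h1
  · have h2 : n.factorial ≤ (11).factorial := Nat.factorial_le (by omega)
    rw [← h] at h2
    exact absurd h2 (by decide)
  · have h2 : (12).factorial ≤ n.factorial := Nat.factorial_le h1
    rw [← h] at h2
    exact absurd h2 (by decide)

section exc

variable {A : Type v} [Group A]

theorem pow_even {F : Type} [Field F] [Fintype F] [CharP F 2] : 2 ∣ Fintype.card F := by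
  obtain ⟨f, hf, hF⟩ := H292.Rows.card_two F
  rw [hF]
  exact dvd_pow_self 2 (by omega)

theorem not_f4 (h : T A) {F : Type} [Field F] [Fintype F] [CharP F 2] (e : A ≃* ↥(Lie.chevF4.group F)) : False := by
  have h1 := (table.{v}).f4 F _ rfl
  rw [← Nat.card_congr e.toEquiv, h.card] at h1
  have h2 : 2 ^ 24 ∣ 174182400 := by
    rw [h1]
    exact Dvd.dvd.mul_right (Dvd.dvd.mul_right (Dvd.dvd.mul_right (Dvd.dvd.mul_right (pow_dvd_pow_of_dvd pow_even 24) _) _) _) _
  revert h2
  norm_num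

theorem not_of_mul {k g : ℕ} (hk : 13 ≤ k) {M : ℕ} (hg : Nat.Coprime 2 g) (h1 : g * 174182400 = M) (h2 : 2 ^ k ∣ M) :
    False := by
  have h3 : 2 ^ 13 ∣ g * 174182400 := by rw [h1]; exact (pow_dvd_pow 2 hk).trans h2
  have h4 : 2 ^ 13 ∣ 174182400 := (Nat.Coprime.pow_left 13 hg).dvd_of_dvd_mul_left h3
  revert h4
  norm_num

theorem cop_gcd {a m : ℕ} (ha : Nat.Coprime 2 a) : Nat.Coprime 2 (Nat.gcd a m) :=
  Nat.Coprime.coprime_dvd_right (Nat.gcd_dvd_left a m) ha

theorem not_e6 (h : T A) {F : Type} [Field F] [Fintype F] [CharP F 2] (e : A ≃* ↥(Lie.chevE6.group F)) : False := by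
  have h1 := (table.{v}).e6 F _ rfl
  rw [← Nat.card_congr e.toEquiv, h.card] at h1
  refine not_of_mul (k := 36) (by norm_num) (cop_gcd (by norm_num)) h1 ?_
  simp only [mul_assoc]
  exact Dvd.dvd.mul_right (pow_dvd_pow_of_dvd pow_even 36) _

theorem not_e7 (h : T A) {F : Type} [Field F] [Fintype F] [CharP F 2] (e : A ≃* ↥(Lie.chevE7.group F)) : False := by
  have h1 := (table.{v}).e7 F _ rfl
  rw [← Nat.card_congr e.toEquiv, h.card] at h1
  refine not_of_mul (k := 63) (by norm_num) ?_ h1 ?_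
  · have h2 : Nat.gcd 2 (Fintype.card F - 1) = 1 := by
      have h3 : 2 ∣ Fintype.card F := pow_even
      have h4 : 0 < Fintype.card F := Fintype.card_pos
      have h5 : Nat.Coprime 2 (Fintype.card F - 1) := by
        rw [Nat.coprime_two_left, Nat.odd_iff]
        omega
      exact h5
    rw [h2]
    norm_num
  · simp only [mul_assoc]
    exact Dvd.dvd.mul_right (pow_dvd_pow_of_dvd pow_even 63) _

theorem not_e8 (h : T A) {F : Type} [Field F] [Fintype F] [CharP F 2] (e : A ≃* ↥(Lie.chevE8.group F)) : False := by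
  have h1 := (table.{v}).e8 F _ rfl
  rw [← Nat.card_congr e.toEquiv, h.card] at h1
  refine not_of_mul (k := 120) (g := 1) (by norm_num) (by norm_num) ((one_mul _).trans h1) ?_
  simp only [mul_assoc]
  exact Dvd.dvd.mul_right (pow_dvd_pow_of_dvd pow_even 120) _

theorem not_te6 (h : T A) {F : Type} [Field F] [Fintype F] [CharP F 2] {q : ℕ} (hF : Fintype.card F = q ^ 2)
    (e : A ≃* ↥(Lie.twistedE6 F q)) : False := by
  have hq : 2 ∣ q := Nat.prime_two.dvd_of_dvd_pow (hF ▸ pow_even (F := F))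
  obtain ⟨f, hf, hqf⟩ := H292.Rows.q_two hF
  have h1 := (table.{v}).te6 F q (by rw [hqf]; exact Nat.prime_two.isPrimePow.pow (by omega)) hF
  rw [← Nat.card_congr e.toEquiv, h.card] at h1
  refine not_of_mul (k := 36) (by norm_num) (cop_gcd (by norm_num)) h1 ?_
  simp only [mul_assoc]
  exact Dvd.dvd.mul_right (pow_dvd_pow_of_dvd hq 36) _

theorem not_g2 (h : T A) {F : Type} [Field F] [Fintype F] [CharP F 2] (e : A ≃* ↥(Lie.chevG2.group F)) : False := by
  have h1 := (table.{v}).g2 F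
  rw [← Nat.card_congr e.toEquiv, h.card] at h1
  obtain ⟨f, hf, hF⟩ := H292.Rows.card_two F
  rw [hF] at h1
  have h2 : 2 ^ (f * 6) ∣ 174182400 := by
    rw [h1, mul_assoc, pow_mul]
    exact dvd_mul_right _ _
  have h3 : f ≤ 2 := by
    by_contra hc
    have h4 : 2 ^ 18 ∣ 174182400 := (pow_dvd_pow 2 (by omega)).trans h2
    revert h4
    norm_num
  interval_cases f <;> revert h1 <;> norm_num

theorem not_td4 (h : T A) {F : Type} [Field F] [Fintype F] [CharP F 2] {q : ℕ} (hq : IsPrimePow q)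
    (hF : Fintype.card F = q ^ 3) (e : A ≃* ↥(Lie.twistedD4 F q)) : False := by
  have hq2 : 2 ∣ q := Nat.prime_two.dvd_of_dvd_pow (hF ▸ pow_even (F := F))
  have h1 := (table.{v}).td4 F q hq hF
  rw [← Nat.card_congr e.toEquiv, h.card] at h1
  have h2 : q ^ 12 ∣ 174182400 := by
    rw [h1, mul_assoc, mul_assoc]
    exact dvd_mul_right _ _
  have h3 : q ≤ 4 := by
    by_contra hc
    have h4 : 5 ^ 12 ≤ q ^ 12 := Nat.pow_le_pow_left (by omega) 12
    have h5 := Nat.le_of_dvd (by norm_num) h2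
    exact absurd (h4.trans h5) (by norm_num)
  have h4 : 0 < q := hq.pos
  interval_cases q
  · omega
  · revert h1; norm_num
  · omega
  · revert h2; norm_num

theorem not_tf4 (h : T A) {F : Type} [Field F] [Fintype F] {m : ℕ} (hm : 1 ≤ m)
    (hF : Fintype.card F = 2 ^ (2 * m + 1)) (e : A ≃* ↥(Lie.twistedF4 F (2 ^ m))) : False := by
  have h1 := (table.{v}).tf4 F m hm hF
  rw [← Nat.card_congr e.toEquiv, h.card] at h1
  refine not_of_mul (k := 36) (g := 1) (by norm_num) (by norm_num) ((one_mul _).trans h1) ?_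
  simp only [mul_assoc]
  refine Dvd.dvd.mul_right ?_ _
  rw [← pow_mul]
  exact pow_dvd_pow 2 (by omega)

theorem not_tits (h : T A) (hA : Lie.IsoTits A) : False := by
  have h1 := (table.{v}).spor A (.tits, 17971200) (by decide) hA
  rw [h.card] at h1
  exact absurd h1 (by norm_num)

theorem not_pair {K : Type u} [Group K] (h : T A) (hp : H829.ExcComp.Pair K A) : False := by
  rcases hp with h1 | h1 | h1 | h1 | h1
  · obtain ⟨F, F₀, i1, i2, i3, i4, i5, i6, hF, h1⟩ := h1
    rcases h1 with ⟨-, -, ⟨e⟩⟩ | ⟨-, -, L, j1, j2, hL, ⟨e⟩⟩ | ⟨-, ⟨e⟩⟩ | ⟨-, ⟨e⟩⟩ | ⟨-, ⟨e⟩⟩ | ⟨-, ⟨e⟩⟩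
    · exact not_g2 h e
    · have h2 := psu_real (F := L) (n := 3) (p := 3) (f := 1) Nat.prime_three le_rfl hL (by norm_num) (by norm_num)
      rw [pow_one, ← Nat.card_congr e.toEquiv] at h2
      have h3 := h.n2
      rcases h3 with ⟨n, h3, -⟩ | ⟨X, p, f, h3, h4⟩
      · exact absurd h3 (by simp)
      · have h5 : N2 (.psu 3 3) (Nat.card A) := Or.inr ⟨.U 3, 3, 1, .psu 3 3 1, h2⟩
        rcases n2_unique h.n2 h5 (by rw [h.card]; unfold Exc; norm_num) with h6 | ⟨m, q, -, -, h6, -⟩ | ⟨m, q, -, -, h6, -⟩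
        · exact absurd h6 (by simp)
        · exact absurd h6 (by simp)
        · exact absurd h6 (by simp)
    · exact not_f4 h e
    · exact not_e6 h e
    · exact not_e7 h e
    · exact not_e8 h e
  · obtain ⟨F, F₀, i1, i2, i3, i4, i5, i6, q, q₀, hq, -, -, hF, -, ⟨e⟩⟩ := h1
    exact not_td4 h hq hF e
  · obtain ⟨F, i1, i2, i3, m, hF, -, ⟨hm, ⟨e⟩⟩ | ⟨-, h2⟩⟩ := h1
    · exact not_tf4 h hm hF e
    · exact not_tits h h2
  · obtain ⟨F, i1, i2, i3, -, h2⟩ := h1
    rcases h2 with ⟨q, hq, ⟨e⟩⟩ | ⟨⟨e⟩⟩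
    · exact not_te6 h hq e
    · exact not_f4 h e
  · obtain ⟨F, F₀, i1, i2, i3, i4, i5, i6, q, -, -, -, ⟨e⟩⟩ := h1
    exact not_f4 h e

end exc

/-- **The row of `Ω₈⁺(2)`.** -/
theorem row {X : Type u} [Group X] [Finite X] [IsSimpleGroup X] (hna : ¬ IsMulCommutative X) (hk : IsKnownSimple' X)
    {x : MulAut X} (hxx : x * x = 1) (hx1 : x ≠ 1) {A : Subgroup ↥(fixedSubgroup x)} (hAn : A.Normal)
    (hA : IsComponent A) (hT : T ↥A) :
    (∃ (F : Type) (_ : Field F) (_ : Fintype F), Fintype.card F = 4 ∧ Nonempty (X ≃* POmega F (quadFormPlus 4 F))) ∨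
      IsSporadicGroup X := by
  rcases OddHalf.Known.classify hna hk with h | ⟨p, hp, hp2, h⟩ | h | h
  · exfalso
    obtain ⟨m, hm, ⟨e⟩⟩ := h
    obtain ⟨n, k, hn, -, -, ⟨f⟩, -⟩ := H284.AltComp.table hm e hxx hx1 hA
    have hn2 : Nontrivial (Fin n) := Fin.nontrivial_iff_two_le.2 (by omega)
    have h2 : 2 * Nat.card ↥A = n.factorial := by
      rw [Nat.card_congr f.toEquiv, Nat.card_eq_fintype_card, two_mul_card_alternatingGroup, Fintype.card_perm,
        Fintype.card_fin]
    rw [hT.card] at h2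
    exact lt_fac h2
  · exact (not_odd hp hp2 h hxx hAn hA hT.quot).elim
  · left
    have hexc : ¬ (IsExceptionalChevChar 2 X ∨ IsTwistedE6D4Char 2 X ∨ Lie.IsoSuzuki X ∨ Lie.Iso2F4 X) := fun h =>
      not_pair hT (H78.TeFour.exc_comp hna h x (by rw [pow_two]; exact hxx) hx1 A hA)
    rcases h with h | h
    · have hcla : H292.Rows.Cla X := by
        have hodd : ¬ IsPOmegaOddChar 2 X := by
          rintro ⟨F, i1, i2, i3, m, hm, ho, -⟩
          have h2 : 2 ∣ Fintype.card F := pow_even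
          rw [Nat.odd_iff] at ho
          omega
        unfold H292.Rows.Cla
        rcases h with h | h | h | h | h | h | h | h | ⟨-, h⟩ | ⟨-, h⟩ | ⟨h, -⟩
        · exact Or.inl h
        · exact Or.inr (Or.inr (Or.inl h))
        · exact Or.inr (Or.inl h)
        · exact absurd h hodd
        · exact Or.inr (Or.inr (Or.inr (Or.inl h)))
        · exact Or.inr (Or.inr (Or.inr (Or.inr h)))
        · exact absurd (Or.inl h) hexc
        · exact absurd (Or.inr (Or.inl h)) hexc
        · exact absurd (Or.inr (Or.inr (Or.inl h))) hexc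
        · exact absurd (Or.inr (Or.inr (Or.inr h))) hexc
        · exact absurd h (by norm_num)
      rcases H292.Rows.row_all hcla with ⟨g, h1, -, h2⟩ | h1
      · obtain ⟨g', h3, h4, h5⟩ := h2 x hxx hx1 A hA
        rcases n2_unique hT.n2 h5 (by rw [hT.card]; unfold Exc; norm_num) with
          h6 | ⟨m, q, -, -, h6, -⟩ | ⟨m, q, -, -, h6, -⟩
        · subst h6
          cases h3
          obtain ⟨F, i1, i2, hF, e⟩ := h1
          exact ⟨F, i1, i2, by rw [hF]; norm_num, e⟩
        · exact absurd h6 (by simp)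
        · exact absurd h6 (by simp)
      · exact (H292.Rows.not_eight h1 A hT.eight).elim
    · exfalso
      have h1 := (table.{u}).spor X (.tits, 17971200) (by decide) h
      have h2 := Nat.le_of_dvd Nat.card_pos ((card_subgroup_dvd_card A).trans (card_subgroup_dvd_card (fixedSubgroup x)))
      rw [hT.card, h1] at h2
      exact absurd h2 (by norm_num)
  · exact Or.inr h

end Cfsg.Agent.H329.O8
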