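import Cfsg.Agent.H329.O8Seven
import Cfsg.Agent.H329.O8Row
import Cfsg.Agent.H291.RowsB
import Cfsg.Agent.H245.SuzInv
import Cfsg.Agent.H2.SpSix
import Cfsg.Agent.H292.OrthTwo
import Cfsg.Agent.CpAutHN.Pairs

/-!
# `Ω₈⁺(2)` normal in the fixed points of an outer involutory automorphism of `Suz`, `HN` (helper329)

`no_outer` : `t ∈ Aut(X)`, `t² = 1`, `X ≅ Suz` or `HN`, `A ≅ Ω₈⁺(2)` centralized by `t`, normal in `C_X(t)`: some
involution of `C_X(t)` centralizes `A`.
-/

set_option autoImplicit false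

namespace Cfsg.Agent.H329.O8Out

open Subgroup Cfsg Cfsg.Agent.OrdDiv Cfsg.Agent.H291
open Cfsg.Agent.H292.Out (Cen Core)

universe u

/-! ### involutory automorphisms of `Ω₈⁺(2)` commuting with an element of order seven -/

/-- `S ≅ Ω₈⁺(2)`, `α` an involutory automorphism of `S` fixing an element of order seven: `Sp₆(2)` embeds in the fixed
points. -/
theorem exists_sp {S : Type u} [Group S] (hS : O8.T S) {α : MulAut S} (hα : α * α = 1) (h1 : α ≠ 1) {w : S}
    (hw : orderOf w = 7) (hαw : α w = w) :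
    ∃ f : PSp 3 (ZMod 2) →* S, Function.Injective f ∧ ∀ e, α (f e) = f e := by
  obtain ⟨e⟩ := hS.equiv
  set β : MulAut (POmega (ZMod 2) (quadFormPlus 4 (ZMod 2))) := MulAut.congr e α with hβ
  have hβe : ∀ a : S, β (e a) = e (α a) := by
    intro a
    simp [hβ, MulAut.congr]
  have hT' : O8.T (POmega (ZMod 2) (quadFormPlus 4 (ZMod 2))) := hS.congr e
  have hββ : β * β = 1 := by rw [hβ, ← map_mul, hα, map_one]
  have hβ1 : β ≠ 1 := by
    intro h
    apply h1
    rw [← map_one (MulAut.congr e)] at h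
    exact (MulAut.congr e).injective h
  have hw' : orderOf (e w) = 7 := by rw [MulEquiv.orderOf_eq, hw]
  have hβw : β (e w) = e w := by rw [hβe, hαw]
  have hc : center (POmega (ZMod 2) (quadFormPlus 4 (ZMod 2))) = ⊥ := hT'.center
  rcases H292.OrthTwo.out_plus (F := ZMod 2) (by decide) (m := 4) le_rfl hββ with ⟨y, hy⟩ | ⟨z, hz1, hz2, hz3, hz4⟩ | h |
    ⟨F₀, i1, i2, hF, -⟩
  · exfalso
    have hyw : y * e w = e w * y := by
      have h2 := hβw
      rw [hy, MulAut.conj_apply] at h2
      exact mul_inv_eq_iff_eq_mul.1 h2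
    have hyy : y * y = 1 := by
      have h3 : MulAut.conj (y * y) = 1 := by rw [map_mul, ← hy, hββ]
      have h4 : y * y ∈ center (POmega (ZMod 2) (quadFormPlus 4 (ZMod 2))) := by
        rw [mem_center_iff]
        intro g
        have h5 := DFunLike.congr_fun h3 g
        rw [MulAut.conj_apply] at h5
        exact (mul_inv_eq_iff_eq_mul.1 h5).symm
      rwa [hc, mem_bot] at h4
    have h2 := hT'.seven hw' hyy hyw
    apply hβ1
    rw [hy, h2, map_one]
  · exfalso
    exact hz1 (hT'.seven hw' hz2 (hz4 _ hβw).symm)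
  · obtain ⟨f, hf1, hf2, -⟩ := h
    refine ⟨e.symm.toMonoidHom.comp f, e.symm.injective.comp hf1, fun a => ?_⟩
    apply e.injective
    rw [← hβe]
    change β (e (e.symm (f a))) = e (e.symm (f a))
    rw [e.apply_symm_apply]
    exact hf2 a
  · exfalso
    rw [Nat.card_eq_fintype_card, ZMod.card] at hF
    have h2 : Nat.card F₀ < 2 := by
      by_contra h
      have h3 : 2 ^ 2 ≤ Nat.card F₀ ^ 2 := Nat.pow_le_pow_left (by omega) 2
      omega
    interval_cases h3 : Nat.card F₀ <;> omega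

/-! ### centralizers of involutions of `HN` -/

theorem hn_not_dvd {X : Type u} [Group X] (h : Spor.IsoHN X) (t : X) (ht : orderOf t = 2) :
    ¬ 27 ∣ Nat.card (Subgroup.centralizer ({t} : Set X)) := by
  obtain ⟨e⟩ := h
  rw [← RowsB.card_cent_equiv e]
  have h2 : orderOf (e t) = 2 := by rw [MulEquiv.orderOf_eq, ht]
  rcases Cfsg.Agent.KFacts.HN.Classes.inv_class h2 with h | h
  · rw [CpAutHN.Pairs.card_cent_conj (h.trans CpAutHN.Pairs.isConj_tt.symm), CpAutHN.Pairs.card_cent_tt]
    norm_num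
  · rw [CpAutHN.Pairs.card_cent_conj h, Cfsg.Agent.KFacts.HN.PCard.card_centralizer]
    norm_num

/-! ### the theorem -/

/-- **Outer automorphisms of `Suz` and `HN`.** -/
theorem no_outer {X : Type u} [Group X] [Finite X] (hX : Spor.IsoSuz X ∨ Spor.IsoHN X) {t : MulAut X} (tt : t * t = 1)
    {A : Subgroup X} (fix : ∀ a ∈ A, t a = a) (norm : ∀ y, t y = y → ∀ a ∈ A, y * a * y⁻¹ ∈ A) (hT : O8.T ↥A)
    (odd : ∀ u : X, orderOf u = 2 → t u = u → ∃ a ∈ A, u * a ≠ a * u) : False := by
  have hp : Fact (Nat.Prime 7) := ⟨by norm_num⟩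
  have key : ¬ 7 ^ 2 ∣ Nat.card X ∧ RowsB.Inv 7 X := by
    rcases hX with h | h
    · rw [OrdDiv.table.spor X (.suz, 448345497600) (by decide) h]
      obtain ⟨e⟩ := h
      exact ⟨by norm_num, RowsB.inv_suz.congr e.symm⟩
    · rw [OrdDiv.table.spor X (.hn, 273030912000000) (by decide) h]
      obtain ⟨e⟩ := h
      exact ⟨by norm_num, RowsB.inv_hn7.congr e.symm⟩
  obtain ⟨h1, z, h2, h3⟩ := key
  obtain ⟨w, hw⟩ := exists_prime_orderOf_dvd_card' (G := ↥A) 7 (by rw [hT.card]; norm_num)
  have hwX : orderOf (w : X) = 7 := by rw [Subgroup.orderOf_coe, hw]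
  have he := Parity.even_cent_of_small (by norm_num) h1 h2 h3 hwX
  obtain ⟨u, hu, htu, huw⟩ := Parity.exists_comm_invo t tt (fix w w.2) he
  have huu : u * u = 1 := by rw [← pow_two, ← hu, pow_orderOf_eq_one]
  -- the action of `u` on `A`
  let α : MulAut ↥A :=
    { toFun := fun a => ⟨u * a * u⁻¹, norm u htu a a.2⟩
      invFun := fun a => ⟨u⁻¹ * a * u, by
        have h := norm u⁻¹ (by rw [map_inv, htu]) a a.2
        rwa [inv_inv] at h⟩
      left_inv := fun a => Subtype.ext (by simp [mul_assoc])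
      right_inv := fun a => Subtype.ext (by simp [mul_assoc])
      map_mul' := fun a b => Subtype.ext (by simp [mul_assoc]) }
  have hα : ∀ a : ↥A, ((α a : ↥A) : X) = u * a * u⁻¹ := fun a => rfl
  have hαα : α * α = 1 := by
    ext a
    rw [MulAut.mul_apply, hα, hα]
    calc u * (u * a * u⁻¹) * u⁻¹ = (u * u) * a * (u * u)⁻¹ := by group
      _ = a := by rw [huu]; group
  have hα1 : α ≠ 1 := by
    intro h
    obtain ⟨a, ha, hne⟩ := odd u hu htu
    apply hne
    have h4 := hα ⟨a, ha⟩
    rw [h] at h4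
    exact (mul_inv_eq_iff_eq_mul.1 h4.symm)
  have hαw : α w = w := by
    apply Subtype.ext
    rw [hα, huw, mul_assoc, mul_inv_cancel, mul_one]
  obtain ⟨f, hf, hfix⟩ := exists_sp hT hαα hα1 hw hαw
  -- `Sp₆(2)` centralizes `u`
  let g : PSp 3 (ZMod 2) →* ↥(centralizer ({u} : Set X)) :=
    { toFun := fun a => ⟨((f a : ↥A) : X), by
        rw [mem_centralizer_singleton_iff]
        have h4 := congrArg Subtype.val (hfix a)
        rw [hα] at h4
        exact (mul_inv_eq_iff_eq_mul.1 h4).symm⟩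
      map_one' := by
        apply Subtype.ext
        change ((f 1 : ↥A) : X) = 1
        rw [map_one]; rfl
      map_mul' := fun a b => by
        apply Subtype.ext
        change ((f (a * b) : ↥A) : X) = _
        rw [map_mul]; rfl }
  have hg : Function.Injective g := by
    intro a b hab
    exact hf (Subtype.ext (congrArg (fun c : ↥(centralizer ({u} : Set X)) => (c : X)) hab))
  have h4 := card_dvd_of_injective g hg
  rw [Cfsg.Agent.H2.SpSix.card_PSp] at h4
  rcases hX with h | h
  · exact H245.SuzInv.not_dvd h u (fun h => by rw [h, orderOf_one] at hu; omega) huu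
      ((by norm_num : 189 ∣ 2 ^ 9 * 2835).trans h4)
  · exact hn_not_dvd h u hu ((by norm_num : 27 ∣ 2 ^ 9 * 2835).trans h4)

end Cfsg.Agent.H329.O8Out
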