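import Cfsg.Agent.H329.O8Facts
import Cfsg.Agent.StdO8.Gen

/-!
# The centralizer of an element of order seven in `Ω₈⁺(2)` contains no involution (helper329)

`T.seven` : `S ≅ Ω₈⁺(2)`, `w ∈ S` of order 7, `y w = w y`, `y² = 1`: `y = 1`.
-/

set_option autoImplicit false

namespace Cfsg.Agent.H329.O8Seven

open Subgroup Cfsg Cfsg.Agent.StdO8.Model Cfsg.Agent.StdO8.Code Cfsg.Agent.StdO8.Gen
open Cfsg.Agent.LieClassical.OrthCore
open scoped Pointwise

/-- elements of order `r` generate conjugate subgroups if `r² ∤ |X|` -/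
theorem exists_conj {X : Type*} [Group X] [Finite X] {r : ℕ} (hr : r.Prime) (h2 : ¬ r ^ 2 ∣ Nat.card X) {w v : X}
    (hw : orderOf w = r) (hv : orderOf v = r) : ∃ (g : X) (k : ℤ), w ^ k = g⁻¹ * v * g := by
  have : Fact r.Prime := ⟨hr⟩
  have hfac : (Nat.card X).factorization r = 1 := by
    have h3 : r ∣ Nat.card X := hw ▸ orderOf_dvd_natCard w
    have h4 : 1 ≤ (Nat.card X).factorization r :=
      (hr.dvd_iff_one_le_factorization (Nat.card_pos.ne')).1 h3
    have h5 : ¬ 2 ≤ (Nat.card X).factorization r := fun h =>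
      h2 ((hr.pow_dvd_iff_le_factorization (Nat.card_pos.ne')).2 h)
    omega
  have hsy : ∀ x : X, orderOf x = r → ∃ P : Sylow r X, (P : Subgroup X) = zpowers x := by
    intro x hx
    refine ⟨Sylow.ofCard (zpowers x) ?_, rfl⟩
    rw [Nat.card_zpowers, hx, hfac, pow_one]
  obtain ⟨P, hP⟩ := hsy v hv
  obtain ⟨Q, hQ⟩ := hsy w hw
  obtain ⟨g, hg⟩ := MulAction.exists_smul_eq X Q P
  have h3 : v ∈ (g • Q : Sylow r X).toSubgroup := by rw [hg, hP]; exact mem_zpowers v
  have h4 : g⁻¹ * v * g ∈ (Q : Subgroup X) := by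
    have h5 : v ∈ g • Q := h3
    have h6 := Subgroup.mem_pointwise_smul_iff_inv_smul_mem.1 (show v ∈ MulAut.conj g • (Q : Subgroup X) from h5)
    simpa [MulAut.smul_def] using h6
  rw [hQ, mem_zpowers_iff] at h4
  obtain ⟨k, hk⟩ := h4
  exact ⟨g, k, hk⟩

/-- an element of order seven -/
def w7 : List (ℕ × ℕ) := [(1, 32), (2, 64), (4, 16)]

theorem w7_ok : w7.all ok = true := by decide +kernel

/-- the iterates -/
def pw : ℕ → ℕ → ℕ
  | 0, v => v
  | k + 1, v => ev w7 (pw k v)

/-- the element -/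
noncomputable abbrev W : Om := word w7

/-- the element as a linear map -/
noncomputable abbrev WV : V ≃ₗ[ZMod 2] V := (W : V ≃ₗ[ZMod 2] V)

theorem pw_dec (k v : ℕ) : (WV ^ k) (dec v) = dec (pw k v) := by
  induction k with
  | zero => rfl
  | succ k ih =>
    rw [pow_succ']
    change WV ((WV ^ k) (dec v)) = _
    rw [ih]
    exact word_dec w7_ok _

theorem comm_pow {y : V ≃ₗ[ZMod 2] V} (h : y * WV = WV * y) (k : ℕ) (v : V) : y ((WV ^ k) v) = (WV ^ k) (y v) := by
  have h1 : y * WV ^ k = WV ^ k * y := (Commute.pow_right (show Commute y WV from h) k).eq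
  exact congrArg (fun f : V ≃ₗ[ZMod 2] V => f v) h1

theorem fix_all : ∀ n : Fin 256, ev w7 n = n → qn n = false → n.1 ≠ 0 → n.1 = 8 ∨ n.1 = 128 := by decide +kernel

theorem ker_one : ∀ n : Fin 256, (n.1 ^^^ pw 1 n ^^^ pw 3 n) = 0 → n.1 ≠ 0 → ∃ k : Fin 7, pw k 1 = n := by
  decide +kernel

theorem ker_two : ∀ n : Fin 256, (n.1 ^^^ pw 2 n ^^^ pw 3 n) = 0 → n.1 ≠ 0 → ∃ k : Fin 7, pw k 16 = n := by
  decide +kernel

theorem bd : ∀ (n : Fin 256) (k : Fin 7), pw k n < 256 := by decide +kernel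

theorem sq_one : ∀ k : Fin 7, pw k (pw k 1) = 1 → k = 0 := by decide +kernel

theorem sq_two : ∀ k : Fin 7, pw k (pw k 16) = 16 → k = 0 := by decide +kernel

variable {y : V ≃ₗ[ZMod 2] V}

theorem ne_zero (y : V ≃ₗ[ZMod 2] V) {a : ℕ} (ha : a < 256) (h0 : a ≠ 0) {n : ℕ} (h : y (dec a) = dec n) : n ≠ 0 := by
  rintro rfl
  rw [dec_zero] at h
  have h1 : dec a = 0 := by
    rw [← map_zero y] at h
    exact y.injective h
  exact h0 (congrArg Fin.val (dec_eq_zero ⟨a, ha⟩ h1))

/-- `y` fixes the vector -/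
theorem fix_vec (h : y * WV = WV * y) (hy : y * y = 1) {a i : ℕ} (ha : a < 256) (h0 : a ≠ 0) (hi : i < 7)
    (hker : ∀ n : Fin 256, (n.1 ^^^ pw i n ^^^ pw 3 n) = 0 → n.1 ≠ 0 → ∃ k : Fin 7, pw k a = n)
    (hsq : ∀ k : Fin 7, pw k (pw k a) = a → k = 0) (hz : (a ^^^ pw i a ^^^ pw 3 a) = 0) : y (dec a) = dec a := by
  obtain ⟨n, hn, hya⟩ := dec_surj (y (dec a))
  have h1 : dec (n ^^^ pw i n ^^^ pw 3 n) = 0 := by
    rw [dec_xor, dec_xor, ← pw_dec, ← pw_dec, hya, ← comm_pow h, ← comm_pow h, ← map_add, ← map_add, pw_dec, pw_dec,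
      ← dec_xor, ← dec_xor, hz, dec_zero, map_zero]
  have hb : (n ^^^ pw i n ^^^ pw 3 n) < 256 :=
    Nat.xor_lt_two_pow (n := 8) (Nat.xor_lt_two_pow (n := 8) hn (bd ⟨n, hn⟩ ⟨i, hi⟩)) (bd ⟨n, hn⟩ 3)
  have h2 := congrArg Fin.val (dec_eq_zero ⟨_, hb⟩ h1)
  obtain ⟨k, hk⟩ := hker ⟨n, hn⟩ h2 (ne_zero y ha h0 hya.symm)
  have h3 : y (dec a) = (WV ^ (k : ℕ)) (dec a) := by rw [pw_dec, hk, ← hya]
  have h4 : y (y (dec a)) = dec a := congrArg (fun f : V ≃ₗ[ZMod 2] V => f (dec a)) hy
  rw [h3, comm_pow h, h3, pw_dec, pw_dec] at h4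
  have h5 : pw k a < 256 := bd ⟨a, ha⟩ k
  have h6 := hsq k (dec_inj (bd ⟨_, h5⟩ k) ha h4)
  rw [h3, h6, pw_dec]
  rfl

theorem main (hyO : y ∈ Om) (h : y * WV = WV * y) (hy : y * y = 1) : y = 1 := by
  have h1 : y (dec 1) = dec 1 := fix_vec (i := 1) h hy (by norm_num) (by norm_num) (by norm_num) ker_one sq_one
    (by decide +kernel)
  have h16 : y (dec 16) = dec 16 := fix_vec (i := 2) h hy (by norm_num) (by norm_num) (by norm_num) ker_two sq_two
    (by decide +kernel)
  have hp : ∀ a k : ℕ, y (dec a) = dec a → y (dec (pw k a)) = dec (pw k a) := by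
    intro a k ha
    rw [← pw_dec, comm_pow h, ha]
  have h2 : y (dec 2) = dec 2 := by
    have := hp 1 4 h1
    rwa [show pw 4 1 = 2 by decide +kernel] at this
  have h4 : y (dec 4) = dec 4 := by
    have := hp 1 2 h1
    rwa [show pw 2 1 = 4 by decide +kernel] at this
  have h64 : y (dec 64) = dec 64 := by
    have := hp 16 3 h16
    rwa [show pw 3 16 = 64 by decide +kernel] at this
  have h32 : y (dec 32) = dec 32 := by
    have := hp 16 5 h16
    rwa [show pw 5 16 = 32 by decide +kernel] at this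
  have key : ∀ a : ℕ, a < 256 → a ≠ 0 → ev w7 a = a → qn a = false → y (dec a) = dec 8 ∨ y (dec a) = dec 128 := by
    intro a ha h0 hfa hqa
    obtain ⟨n, hn, hya⟩ := dec_surj (y (dec a))
    have h5 : dec (ev w7 n) = dec n := by
      have h6 : (WV ^ 1) (dec n) = dec (ev w7 n) := pw_dec 1 n
      have h7 : (WV ^ 1) (dec a) = dec (ev w7 a) := pw_dec 1 a
      rw [← h6, hya, ← comm_pow h, h7, hfa]
    have h6 : qn n = false := by
      apply cc_eq_zero
      rw [← q_dec, hya, O8_q (Om_le hyO), q_dec, hqa]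
      rfl
    have h7 := dec_inj (bd ⟨n, hn⟩ 1) hn h5
    rcases fix_all ⟨n, hn⟩ h7 h6 (ne_zero y ha h0 hya.symm) with h8 | h8
    · left
      rw [← hya]
      exact congrArg dec h8
    · right
      rw [← hya]
      exact congrArg dec h8
  have hne : dec 8 ≠ dec 128 := fun h => absurd (dec_inj (by norm_num) (by norm_num) h) (by norm_num)
  have k8 := key 8 (by norm_num) (by norm_num) (by decide +kernel) (by decide +kernel)
  have k128 := key 128 (by norm_num) (by norm_num) (by decide +kernel) (by decide +kernel)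
  rcases k8 with k8 | k8
  · rcases k128 with k128 | k128
    · exact absurd (y.injective (k8.trans k128.symm)) hne
    · apply lin_ext
      intro b hb
      change y (dec b) = dec b
      simp only [basis, List.mem_cons, List.not_mem_nil, or_false] at hb
      rcases hb with rfl | rfl | rfl | rfl | rfl | rfl | rfl | rfl
      · exact h1
      · exact h2
      · exact h4
      · exact k8
      · exact h16
      · exact h32
      · exact h64
      · exact k128
  · rcases k128 with k128 | k128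
    · exfalso
      have hr : y = refl q (dec 136) q136 := by
        apply lin_ext
        intro b hb
        have h5 : refl q (dec 136) q136 (dec b) = dec (b ^^^ (if Bn 136 b then 136 else 0)) := by
          have h6 : q (dec 136) = 1 := by
            rw [q_dec]
            decide
          have h7 : QuadraticMap.polar q (dec 136) (dec b) = cc (Bn 136 b) := B_dec 136 b
          rw [refl_apply, h6, inv_one, one_mul, dec_xor, dec_ite, sub_eq, h7]
        rw [h5]
        simp only [basis, List.mem_cons, List.not_mem_nil, or_false] at hb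
        rcases hb with rfl | rfl | rfl | rfl | rfl | rfl | rfl | rfl
        · exact h1
        · exact h2
        · exact h4
        · exact k8
        · exact h16
        · exact h32
        · exact h64
        · exact k128
      rw [hr] at hyO
      exact refl_notMem _ q136 hyO
    · exact absurd (y.injective (k8.trans k128.symm)) hne

theorem order_W : orderOf W = 7 := by
  have : Fact (Nat.Prime 7) := ⟨by norm_num⟩
  refine orderOf_eq_prime ?_ ?_
  · have h2 : ∀ a ∈ basis, pw 7 a = a := by decide +kernel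
    have h3 : WV ^ 7 = 1 := by
      apply lin_ext
      intro b hb
      have h1 := pw_dec 7 b
      rw [h2 b hb] at h1
      rw [h1]
      rfl
    apply Subtype.ext
    rw [Subgroup.coe_pow, h3, Subgroup.coe_one]
  · exact O8.word_ne w7_ok (v := 1) (by decide +kernel) (by norm_num) (by decide +kernel)

theorem seven_om {w y : Om} (hw : orderOf w = 7) (hy : y * y = 1) (h : y * w = w * y) : y = 1 := by
  have hfin : Finite Om := Nat.finite_of_card_ne_zero (by rw [Cfsg.Agent.H245.O8Refl.card_Om]; norm_num)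
  obtain ⟨g, k, hk⟩ := exists_conj (by norm_num : Nat.Prime 7) (by rw [Cfsg.Agent.H245.O8Refl.card_Om]; norm_num) hw
    order_W
  have h1 : y * (g⁻¹ * W * g) = g⁻¹ * W * g * y := by
    rw [← hk]
    exact (Commute.zpow_right (show Commute y w from h) k).eq
  have h2 : (g * y * g⁻¹ : Om) * W = W * (g * y * g⁻¹) := by
    calc (g * y * g⁻¹ : Om) * W = g * (y * (g⁻¹ * W * g)) * g⁻¹ := by group
      _ = g * (g⁻¹ * W * g * y) * g⁻¹ := by rw [h1]
      _ = _ := by group
  have h3 : (g * y * g⁻¹ : Om) * (g * y * g⁻¹) = 1 := by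
    calc (g * y * g⁻¹ : Om) * (g * y * g⁻¹) = g * (y * y) * g⁻¹ := by group
      _ = 1 := by rw [hy]; group
  have h4 : ((g * y * g⁻¹ : Om) : V ≃ₗ[ZMod 2] V) = 1 :=
    main (g * y * g⁻¹ : Om).2 (congrArg Subtype.val h2) (congrArg Subtype.val h3)
  have h5 : (g * y * g⁻¹ : Om) = 1 := Subtype.ext h4
  calc y = g⁻¹ * (g * y * g⁻¹) * g := by group
    _ = 1 := by rw [h5]; group

/-- **No involution commutes with an element of order seven.** -/
theorem _root_.Cfsg.Agent.H329.O8.T.seven {S : Type*} [Group S] (hS : O8.T S) {w y : S} (hw : orderOf w = 7)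
    (hy : y * y = 1) (h : y * w = w * y) : y = 1 := by
  obtain ⟨e⟩ := hS
  have h1 := seven_om (w := e w) (y := e y) (by rw [MulEquiv.orderOf_eq, hw]) (by rw [← map_mul, hy, map_one])
    (by rw [← map_mul, ← map_mul, h])
  exact e.injective (by rw [h1, map_one])

end Cfsg.Agent.H329.O8Seven
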