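import Cfsg.Agent.H959.T5.Tools
import Cfsg.Agent.H70.NoEHe

/-!
# S3854, the row of the Held group (helper329)
-/

set_option autoImplicit false

namespace Cfsg.Agent.H329.T5He

open Cfsg Cfsg.Agent.H959.T5 Cfsg.Agent.H301.SY

/-- **the row of the Held group for S3854** -/
theorem noTE_he {K : Type*} [Group K] [Finite K] [IsSimpleGroup K] (h : Cfsg.Spor.IsoHe K) {p : ℕ} [hpp : Fact p.Prime]
    (hp : 5 ≤ p) (_hb : Cfsg.Agent.H301.SY.Blk p K) (_hO : Cfsg.Agent.H301.SY.ThO p K) :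
    Cfsg.Agent.H959.T5.NoTE p K := by
  have hf := H436.HeFive.finite_he
  obtain ⟨e⟩ := h
  exact NoTE.congr e fun x hx hR _ => Cfsg.Agent.H70.NoEHe.no_re_he hpp.out hp hx hR

end Cfsg.Agent.H329.T5He
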